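import Groth.Agent.Lib.EtModEps19.ARMod

/-! Systems of locally constant sheaves: adic up to translation is checked at one point of a connected scheme. -/

universe w v u v' u'

open CategoryTheory Limits AlgebraicGeometry Opposite

set_option linter.style.haveILetI false
set_option linter.unusedSectionVars false

namespace Groth.Agent.EtModEps19

open ZeroObject

namespace ARX

open ARSys Groth.Agent.AR

section OneFunctor

variable {C : Type u} [Category.{v} C] [Abelian C] {D : Type u'} [Category.{v'} D] [Abelian D]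
  {A : Type w} [CommRing A] [Linear A C] [Linear A D] {J : Ideal A}
  (E : C ⥤ D) [E.Additive] [E.Linear A] [PreservesFiniteLimits E] [PreservesFiniteColimits E]
  (P : ObjectProperty C) [WSerre.IsWeakSerre P]
  (hE : ∀ {X Y : C} (φ : X ⟶ Y), P X → P Y → E.map φ = 0 → φ = 0)

include hE in
/-- Being adic up to translation is detected by an exact functor conservative on the terms. -/
theorem isARAdic_of_prop (hJ : J.FG) {X : PS C} (hP : ∀ n, P (X.obj (op n))) (hk : TermKilled J X)
    (h : IsARAdic J (X ⋙ E)) : IsARAdic J X := by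
  classical
  obtain ⟨-, Y, v, hY, hv⟩ := h
  obtain ⟨r, hr⟩ : IsMLAR (X ⋙ E) := (Groth.Agent.S3151.result _).2 ⟨Y, v, isAdic_isStrict hY, hv⟩
  have hX : IsMLAR X := by
    refine ⟨r, fun s hs n => le_antisymm (image_shiftMap_anti X hs) ?_⟩
    refine image_le_of_comp_cokernel _ _ (hE _ (hP _) ?_ ?_)
    · exact P.prop_of_isColimit_cokernelCofork
        (k := CokernelCofork.ofπ _ (cokernel.condition _)) (cokernelIsCokernel _) (hP _) (hP _)
    rw [Functor.map_comp]
    obtain ⟨T, π, hπ, z, hz⟩ := (image_le_iff (E.map (shiftMap X r n)) (E.map (shiftMap X s n))).1 (hr s hs n).ge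
    haveI := hπ
    rw [← cancel_epi π, comp_zero, reassoc_of% hz, ← E.map_comp, cokernel.condition,
      Functor.map_zero, comp_zero]
  obtain ⟨r₀, X', ι', hι', hX', hιAR, himg, -⟩ := exists_strict_sub hX
  have hk' : TermKilled J X' := termKilled_of_mono ι' hk
  have hP' : ∀ n, P (X'.obj (op n)) := fun n => by
    haveI := mono_app ι' n
    let t := shiftMap X r₀ n
    have hker : P (kernel (cokernel.π t)) :=
      P.prop_of_isLimit_kernelFork (k := KernelFork.ofι _ (kernel.condition _)) (kernelIsKernel _) (hP _)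
        (P.prop_of_isColimit_cokernelCofork
          (k := CokernelCofork.ofπ _ (cokernel.condition t)) (cokernelIsCokernel _) (hP _) (hP _))
    have e1 : imageSubobject t = kernelSubobject (cokernel.π t) :=
      (ShortComplex.mk t (cokernel.π t) (cokernel.condition t)).exact_iff_image_eq_kernel.1
        (ShortComplex.exact_cokernel t)
    have e2 : Subobject.mk (ι'.app (op n)) = Subobject.mk (kernel.ι (cokernel.π t)) :=
      (imageSubobject_mono _).symm.trans ((himg r₀ le_rfl n).trans e1)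
    exact P.prop_of_iso (Subobject.isoOfMkEqMk _ _ e2).symm hker
  have hPF : ∀ n, P ((Fker X' n : Subobject (X'.obj (op n))) : C) := fun n => by
    cases n with
    | zero => exact P.prop_of_iso (asIso (⊤ : Subobject (X'.obj (op 0))).arrow).symm (hP' 0)
    | succ k =>
      exact P.prop_of_iso (kernelSubobjectIso _).symm
        (P.prop_of_isLimit_kernelFork (k := KernelFork.ofι _ (kernel.condition (tr X' (Nat.le_succ k))))
          (kernelIsKernel _) (hP' _) (hP' _))
  obtain ⟨s, hs⟩ : ∃ r : ℕ, ∀ (n : ℕ) (Z : C) (φ : X'.obj (op n) ⟶ Z), HomKilledBy (J ^ (n - r)) φ →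
      E.map ((Fker X' n).arrow ≫ φ) = 0 := by
    have hι'' := isARIso_map E hιAR
    have hki : TermKilled J (X' ⋙ E) := fun n => killed_map E (hk' n)
    obtain ⟨g, hg, -⟩ := existsUnique_lift hY hι'' hki v
    haveI : ∀ a, Mono ((Functor.whiskerRight ι' E).app a) := fun ⟨a⟩ => by
      haveI := mono_app ι' a
      exact inferInstanceAs (Mono (E.map (ι'.app (op a))))
    haveI : Mono (Functor.whiskerRight ι' E) := NatTrans.mono_of_mono_app _
    have hAR : IsARIso g := isARIso_of_comp (ι := Functor.whiskerRight ι' E) (hg.symm ▸ hv)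
    obtain ⟨s, -, hs⟩ := fker_le_of_isARAdic (J := J) (X := X' ⋙ E) (fun n m h => by
      haveI := hX' n m h
      exact inferInstanceAs (Epi (E.map (tr X' h)))) ⟨hki, Y, g, hY, hAR⟩
    refine ⟨s, fun n Z φ hφ => ?_⟩
    have h0 := hs n _ _ (homKilled_map E hφ)
    cases n with
    | zero =>
      have h1 : φ = 0 := by
        have := hφ 1 (by simp)
        rwa [one_smul] at this
      rw [h1, comp_zero, Functor.map_zero]
    | succ k =>
      show E.map ((kernelSubobject (tr X' (Nat.le_succ k))).arrow ≫ φ) = 0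
      rw [Functor.map_comp, ← factorThruKernelSubobject_comp_arrow (E.map (tr X' (Nat.le_succ k)))
        (E.map (kernelSubobject (tr X' (Nat.le_succ k))).arrow)
        (by rw [← Functor.map_comp, kernelSubobject_arrow_comp, Functor.map_zero]), Category.assoc]
      exact (congrArg (_ ≫ ·) h0).trans comp_zero
  have hF : ∀ n, SubLEIdeal (J ^ (n - s)) (Fker X' n) := fun n Z φ hφ => by
    obtain ⟨gs, hgs⟩ := Ideal.FG.pow (n := n - s) hJ
    obtain ⟨T, f, hT, hf, -⟩ :=
      exists_mulMap P (fun _ _ h h' => P.prop_biprod h h') (𝟭 C) (X'.obj (op n)) (hP' n) gs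
    have hc := isQuot_of_cokernel (I := J ^ (n - s)) (gs : Set A) hgs f fun Z φ => by simpa using hf Z φ
    have hq : HomKilledBy (J ^ (n - s)) (cokernel.π f) := smul_eq_zero_of_killed_target hc.1 _
    have h0 : (Fker X' n).arrow ≫ cokernel.π f = 0 :=
      hE _ (hPF n) (P.prop_of_isColimit_cokernelCofork
        (k := CokernelCofork.ofπ _ (cokernel.condition f)) (cokernelIsCokernel _) hT (hP' n)) (hs n _ _ hq)
    rw [← quotDesc_fac hc φ hφ, reassoc_of% h0, zero_comp]
  obtain ⟨Y₀, q, hq, hY₀⟩ := exists_adic_quot_shift (Or.inl hJ) hX' hF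
  obtain ⟨-, Y', u, hY', hu⟩ := isARAdic_of_quot_shift hk' (fun n => q.app (op n)) hq
    (fun h => q.naturality (homOfLE h).op) hY₀
  exact ⟨hk, Y', u ≫ ι', hY', isARIso_comp hu hιAR⟩

end OneFunctor

end ARX

set_option backward.isDefEq.respectTransparency false
set_option backward.isDefEq.respectTransparency.types false
set_option maxHeartbeats 800000

variable {Λ : Type (u + 1)} [CommRing Λ] {X : Scheme.{u}}

/-- Locally constant sheaves of modules of finite type. -/
abbrev ftlcP (Λ : Type (u + 1)) [CommRing Λ] (X : Scheme.{u}) : ObjectProperty (EtModW.Mod Λ X) :=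
  fun F => EtModW.IsFTLocConst Λ F

instance isWeakSerre_ftlcP [IsNoetherianRing Λ] : WSerre.IsWeakSerre (ftlcP Λ X) := by
  haveI : (ftlcP Λ X).ContainsZero := ⟨0, isZero_zero _, isFTLocConst_of_isZero (isZero_zero _)⟩
  haveI : (ftlcP Λ X).IsClosedUnderKernels := ⟨by
    rintro K ⟨φ, k, hk, ⟨hA, hB⟩⟩
    exact isFTLocConst_of_iso (IsLimit.conePointUniqueUpToIso (limit.isLimit _) hk)
      (isFTLocConst_kernel _ hA hB)⟩
  haveI : (ftlcP Λ X).IsClosedUnderCokernels := ⟨by
    rintro K ⟨φ, k, hk, ⟨hA, hB⟩⟩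
    exact isFTLocConst_of_iso (IsColimit.coconePointUniqueUpToIso (colimit.isColimit _) hk)
      (isFTLocConst_cokernel _ hA hB)⟩
  haveI : (ftlcP Λ X).IsClosedUnderExtensions := ⟨fun {T} hT h₁ h₃ => isFTLocConst_X₂ hT h₁ h₃⟩
  exact { }

/-- Vanishing of the stalk over a trivialising neighbourhood. -/
theorem subsingleton_stalk_iff {Ω : Type u} [Field Ω] [IsSepClosed Ω] (ξ : Spec (CommRingCat.of Ω) ⟶ X)
    {F : EtModW.Mod Λ X} {U : X.Etale} {M : ModuleCat.{u + 1} Λ}
    (α : (Over.forget U).op ⋙ F.obj ≅ (Over.forget U).op ⋙ (cEt Λ X M).obj) (y : EtStalk.fib ξ U) :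
    Subsingleton ((EtModW.stalk Λ ξ).obj F) ↔ Subsingleton M := by
  refine ⟨fun h => subsingleton_of_forall_eq 0 fun m => ?_, fun h => subsingleton_of_forall_eq 0 fun p => ?_⟩
  · have h0 : germM ξ F y (sg α (𝟙 U) m) = 0 := Subsingleton.elim _ _
    obtain ⟨V, g, y', -, hg⟩ := (germM_eq_zero_iff _ _ _ _).1 h0
    rw [sg_map] at hg
    refine sg_injective α (g ≫ 𝟙 U) (y'.left (default : Spec (CommRingCat.of Ω))) ?_
    rw [hg, map_zero]
  · obtain ⟨V, x, z, rfl⟩ := germM_surjective ξ F p
    let P := Scheme.pointSmallEtale ξ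
    let E₁ : P.fiber.Elements := ⟨V, x⟩
    let E₂ : P.fiber.Elements := ⟨U, y⟩
    obtain ⟨Q, f₁, f₂, -⟩ := IsCofilteredOrEmpty.cone_objs E₁ E₂
    have hM : IsZero (cEt Λ X M) :=
      (constantSheaf X.smallEtaleTopology (ModuleCat.{u + 1} Λ)).map_isZero (ModuleCat.isZero_of_subsingleton M)
    have hQ : Subsingleton (F.obj.obj (op Q.1)) :=
      ModuleCat.subsingleton_of_isZero (IsZero.of_iso
        ((((sheafToPresheaf _ _).map_isZero hM).obj (op Q.1))) (α.app (op (Over.mk f₂.1))))
    have hx : P.fiber.map f₁.1 Q.2 = x := f₁.2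
    show germM ξ F x z = 0
    rw [← hx]
    refine (P.toPresheafFiber_w_apply f₁.1 Q.2 F.obj z).symm.trans ?_
    rw [Subsingleton.elim (F.obj.map f₁.1.op z) 0, map_zero]

/-- On a connected scheme a locally constant sheaf of finite type is zero if one stalk vanishes. -/
theorem subsingleton_stalk_of_connected [PreconnectedSpace X] {F : EtModW.Mod Λ X}
    (hF : EtModW.IsFTLocConst Λ F) {Ω : Type u} [Field Ω] [IsSepClosed Ω] (s : Spec (CommRingCat.of Ω) ⟶ X)
    (hs : Subsingleton ((EtModW.stalk Λ s).obj F)) (x : X) :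
    Subsingleton ((EtModW.stalk Λ (EtStalk.geomPt X x)).obj F) := by
  obtain ⟨ι, U, hU, hF⟩ := hF
  choose i u hu using hU
  choose M₀ hMa hMm _ he using hF
  let M : X → ModuleCat.{u + 1} Λ := fun x => @ModuleCat.of Λ _ (M₀ (i x)) (hMa (i x)) (hMm (i x))
  have α : ∀ x, (Over.forget (U (i x))).op ⋙ F.obj ≅ (Over.forget (U (i x))).op ⋙ (cEt Λ X (M x)).obj :=
    fun x => trivOfRestr (Classical.choice (he (i x)))
  have key : ∀ {Ω : Type u} [Field Ω] [IsSepClosed Ω] (ξ : Spec (CommRingCat.of Ω) ⟶ X) (x : X),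
      ξ default ∈ Set.range (U (i x)).hom →
        (Subsingleton ((EtModW.stalk Λ ξ).obj F) ↔ Subsingleton (M x)) := by
    intro Ω _ _ ξ x ⟨w, hw⟩
    obtain ⟨y, -⟩ := Scheme.pointSmallEtaleFiberObjToPreimage_surjective ξ rfl (U (i x)) ⟨w, hw⟩
    exact subsingleton_stalk_iff ξ (α x) y
  let f : X → Prop := fun x => Subsingleton (M x)
  have hloc : IsLocallyConstant f := IsLocallyConstant.iff_exists_open f |>.2 fun x => by
    haveI : Etale (U (i x)).hom := (U (i x)).prop
    refine ⟨Set.range (U (i x)).hom, (U (i x)).hom.isOpenMap.isOpen_range, ⟨u x, hu x⟩, fun x' hx' => propext ?_⟩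
    have h1 := key (EtStalk.geomPt X x') x' (by rw [EtStalk.geomPt_default]; exact ⟨u x', hu x'⟩)
    have h2 := key (EtStalk.geomPt X x') x (by rw [EtStalk.geomPt_default]; exact hx')
    exact h1.symm.trans h2
  have h0 : f (s default) := (key s (s default) ⟨u _, hu _⟩).1 hs
  rw [hloc.apply_eq_of_preconnectedSpace (s default) x] at h0
  exact (key (EtStalk.geomPt X x) x (by rw [EtStalk.geomPt_default]; exact ⟨u x, hu x⟩)).2 h0

theorem hom_eq_zero_of_stalk_connected [IsNoetherianRing Λ] [PreconnectedSpace X] {F G : EtModW.Mod Λ X}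
    (φ : F ⟶ G) (hF : EtModW.IsFTLocConst Λ F) (hG : EtModW.IsFTLocConst Λ G) {Ω : Type u} [Field Ω]
    [IsSepClosed Ω] (s : Spec (CommRingCat.of Ω) ⟶ X) (h : (EtModW.stalk Λ s).map φ = 0) : φ = 0 := by
  have hI : EtModW.IsFTLocConst Λ (Abelian.image φ) :=
    isFTLocConst_kernel _ hG (isFTLocConst_cokernel φ hF hG)
  have hz : IsZero ((EtModW.stalk Λ s).obj (Abelian.image φ)) := by
    rw [IsZero.iff_id_eq_zero]
    rw [← cancel_epi ((EtModW.stalk Λ s).map (Abelian.factorThruImage φ)),
      ← cancel_mono ((EtModW.stalk Λ s).map (Abelian.image.ι φ)), Category.comp_id, ← Functor.map_comp,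
      Abelian.image.fac, h, comp_zero, zero_comp]
  have hs := ModuleCat.subsingleton_of_isZero hz
  have h1 : 𝟙 (Abelian.image φ) = 0 := hom_eq_zero_of_stalk _ fun x =>
    IsZero.eq_of_src (by
      haveI := subsingleton_stalk_of_connected hI s hs x
      exact ModuleCat.isZero_of_subsingleton _) _ _
  rw [← Abelian.image.fac φ, ← Category.id_comp (Abelian.image.ι φ), h1, zero_comp, comp_zero]

end Groth.Agent.EtModEps19
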