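import Groth.Agent.Lib.EtModEps19.HomConst
import Groth.Agent.Lib.EtSite.Sheaf
import Groth.Agent.S14020
import Groth.Prelude.Def_EtMod2
import Groth.Prelude.Def_ARSys
import Mathlib.AlgebraicGeometry.Noetherian
import Mathlib.CategoryTheory.Abelian.Exact
import Mathlib.Algebra.Homology.ImageToKernel
import Mathlib.CategoryTheory.Linear.FunctorCategory
import Mathlib.Topology.Connected.Clopen
import Mathlib.Topology.LocallyConstant.Basic

/-! The Mittag-Leffler condition for systems of locally constant étale sheaves of modules. -/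

universe u

open CategoryTheory Limits AlgebraicGeometry Opposite

namespace Groth.Agent.EtModEps19

set_option backward.isDefEq.respectTransparency false
set_option backward.isDefEq.respectTransparency.types false
set_option linter.style.haveILetI false
set_option linter.unusedSectionVars false
set_option maxHeartbeats 800000

theorem finite_connectedComponents {α : Type*} [TopologicalSpace α] [TopologicalSpace.NoetherianSpace α] :
    Finite (ConnectedComponents α) := by
  have hfin : (irreducibleComponents α).Finite := TopologicalSpace.NoetherianSpace.finite_irreducibleComponents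
  haveI := hfin.to_subtype
  refine Finite.of_surjective (fun C : irreducibleComponents α => ConnectedComponents.mk C.2.1.nonempty.some) ?_
  intro z
  obtain ⟨x, rfl⟩ := ConnectedComponents.surjective_coe z
  refine ⟨⟨irreducibleComponent x, irreducibleComponent_mem_irreducibleComponents x⟩, ?_⟩
  exact ConnectedComponents.coe_eq_coe'.2
    (isIrreducible_irreducibleComponent.isConnected.isPreconnected.subset_connectedComponent
      mem_irreducibleComponent (Set.Nonempty.some_mem _))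

theorem imageSubobject_le_of_comp_cokernel {C : Type*} [Category C] [Abelian C] {A A' B : C} (a : A ⟶ B)
    (b : A' ⟶ B) (h : a ≫ cokernel.π b = 0) : imageSubobject a ≤ imageSubobject b := by
  have e : imageSubobject b = kernelSubobject (cokernel.π b) :=
    (ShortComplex.mk b (cokernel.π b) (cokernel.condition b)).exact_iff_image_eq_kernel.1
      (ShortComplex.exact_cokernel b)
  rw [e]
  exact image_le_kernel a _ h

variable {Λ : Type (u + 1)} [CommRing Λ] {X : Scheme.{u}}

/-- The constant sheaf. -/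
noncomputable abbrev cEt (Λ : Type (u + 1)) [CommRing Λ] (X : Scheme.{u}) (M : ModuleCat.{u + 1} Λ) :
    EtModW.Mod Λ X :=
  (constantSheaf X.smallEtaleTopology (ModuleCat.{u + 1} Λ)).obj M

/-- A trivialisation from the definition of locally constant sheaves. -/
noncomputable def trivOfRestr {F : EtModW.Mod Λ X} {U : X.Etale} {M : ModuleCat.{u + 1} Λ}
    (e : EtModW.restr Λ F U ≅
      (constantSheaf (X.smallEtaleTopology.over U) (ModuleCat.{u + 1} Λ)).obj M) :
    (Over.forget U).op ⋙ F.obj ≅ (Over.forget U).op ⋙ (cEt Λ X M).obj :=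
  (sheafToPresheaf _ _).mapIso (e ≪≫
    ((Over.forget U).pushforwardContinuousSheafificationCompatibility (ModuleCat.{u + 1} Λ)
      (X.smallEtaleTopology.over U) X.smallEtaleTopology).app ((Functor.const _).obj M))

section Triv

variable {F : EtModW.Mod Λ X} {U : X.Etale} {M : ModuleCat.{u + 1} Λ}
  (α : (Over.forget U).op ⋙ F.obj ≅ (Over.forget U).op ⋙ (cEt Λ X M).obj)

/-- The section given by a value. -/
noncomputable def sg {V : X.Etale} (a : V ⟶ U) : M ⟶ F.obj.obj (op V) :=
  can X.smallEtaleTopology M V ≫ α.inv.app (op (Over.mk a))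

theorem sg_map {V W : X.Etale} (g : W ⟶ V) (a : V ⟶ U) (m : M) :
    F.obj.map g.op (sg α a m) = sg α (g ≫ a) m := by
  show F.obj.map g.op (α.inv.app (op (Over.mk a)) (can X.smallEtaleTopology M V m)) =
    α.inv.app (op (Over.mk (g ≫ a))) (can X.smallEtaleTopology M W m)
  refine (NatTrans.naturality_apply α.inv (Over.homMk g : Over.mk (g ≫ a) ⟶ Over.mk a).op _).symm.trans ?_
  exact congrArg _ (congr($(can_map X.smallEtaleTopology M g) m))

theorem exists_sg {V : X.Etale} (a : V ⟶ U) (z : F.obj.obj (op V)) (v : V.left) :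
    ∃ (W : X.Etale) (g : W ⟶ V) (w : W.left) (m : M), g.left w = v ∧ F.obj.map g.op z = sg α (g ≫ a) m := by
  have hs := Presheaf.imageSieve_mem X.smallEtaleTopology
    (toSheafify X.smallEtaleTopology ((Functor.const X.Etaleᵒᵖ).obj M)) (U := op V)
    (α.hom.app (op (Over.mk a)) z)
  rw [EtSite.mem_et_iff] at hs
  obtain ⟨W, g, w, ⟨m, hm⟩, hw⟩ := hs v
  refine ⟨W, g, w, m, hw, ?_⟩
  have e : α.hom.app (op (Over.mk (g ≫ a))) (F.obj.map g.op z) = can X.smallEtaleTopology M W m :=
    (NatTrans.naturality_apply α.hom (Over.homMk g : Over.mk (g ≫ a) ⟶ Over.mk a).op z).trans hm.symm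
  have := congrArg (α.inv.app (op (Over.mk (g ≫ a)))) e
  exact (congr($(α.hom_inv_id_app (op (Over.mk (g ≫ a)))) (F.obj.map g.op z))).symm.trans this

theorem sg_injective {V : X.Etale} (a : V ⟶ U) (v : V.left) : Function.Injective (sg α a) := by
  intro m m' h
  have h' : can X.smallEtaleTopology M V m = can X.smallEtaleTopology M V m' :=
    ((ConcreteCategory.isIso_iff_bijective (α.inv.app (op (Over.mk a)))).1 inferInstance).1 h
  have hs := Presheaf.equalizerSieve_mem X.smallEtaleTopology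
    (toSheafify X.smallEtaleTopology ((Functor.const X.Etaleᵒᵖ).obj M)) (X := op V) m m' h'
  rw [EtSite.mem_et_iff] at hs
  obtain ⟨W, g, w, hg, -⟩ := hs v
  simpa using hg

include α in
theorem smul_eq_zero_of_killedBy {J : Ideal Λ} (hF : ARSys.KilledBy J F) (u₀ : U.left) {c : Λ} (hc : c ∈ J)
    (m : M) : c • m = 0 := by
  refine sg_injective α (𝟙 U) u₀ ?_
  rw [map_smul, map_zero]
  have h := congr($(hF c hc).hom.app (op U) (sg α (𝟙 U) m))
  exact h

section Img

variable {F' : EtModW.Mod Λ X} (φ : F' ⟶ F) (y : U.left)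

/-- The values which lie in the image of `φ` near `y`. -/
def imgPred (m : M) : Prop :=
  ∃ (W : X.Etale) (a : W ⟶ U) (w : W.left) (z : F'.obj.obj (op W)),
    a.left w = y ∧ φ.hom.app (op W) z = sg α a m

theorem exists_common_over {W₁ W₂ : X.Etale} (a₁ : W₁ ⟶ U) (a₂ : W₂ ⟶ U) (w₁ : W₁.left) (w₂ : W₂.left)
    (h : a₁.left w₁ = a₂.left w₂) :
    ∃ (W : X.Etale) (g₁ : W ⟶ W₁) (g₂ : W ⟶ W₂) (w : W.left),
      g₁ ≫ a₁ = g₂ ≫ a₂ ∧ g₁.left w = w₁ ∧ g₂.left w = w₂ := by
  have hU : Etale U.hom := U.prop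
  have hW₁ : Etale W₁.hom := W₁.prop
  have hW₂ : Etale W₂.hom := W₂.prop
  haveI : Etale (a₂.left ≫ U.hom) := by rw [MorphismProperty.Over.w a₂]; exact hW₂
  haveI : Etale a₂.left := Etale.of_comp a₂.left U.hom
  haveI : Etale (pullback.fst a₁.left a₂.left) := MorphismProperty.pullback_fst _ _ inferInstance
  obtain ⟨w, hw₁, hw₂⟩ := Scheme.Pullback.exists_preimage_pullback (f := a₁.left) (g := a₂.left) w₁ w₂ h
  let W : X.Etale := Scheme.Etale.mk (pullback.fst a₁.left a₂.left ≫ W₁.hom)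
  refine ⟨W, MorphismProperty.Over.homMk (pullback.fst a₁.left a₂.left),
    MorphismProperty.Over.homMk (pullback.snd a₁.left a₂.left) ?_, w,
    MorphismProperty.Over.Hom.ext pullback.condition, hw₁, hw₂⟩
  show pullback.snd a₁.left a₂.left ≫ W₂.hom = pullback.fst a₁.left a₂.left ≫ W₁.hom
  rw [← MorphismProperty.Over.w a₁, ← MorphismProperty.Over.w a₂]
  exact ((Category.assoc _ _ _).symm.trans (congrArg (· ≫ U.hom) pullback.condition.symm)).trans
    (Category.assoc _ _ _)

/-- The submodule of values in the image near `y`. -/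
def img : Submodule Λ M where
  carrier := {m | imgPred α φ y m}
  zero_mem' := ⟨U, 𝟙 U, y, 0, rfl, by rw [map_zero, map_zero]⟩
  add_mem' := by
    rintro m m' ⟨W₁, a₁, w₁, z₁, h₁, e₁⟩ ⟨W₂, a₂, w₂, z₂, h₂, e₂⟩
    obtain ⟨W, g₁, g₂, w, hg, hw₁, hw₂⟩ := exists_common_over a₁ a₂ w₁ w₂ (h₁.trans h₂.symm)
    refine ⟨W, g₁ ≫ a₁, w, F'.obj.map g₁.op z₁ + F'.obj.map g₂.op z₂, ?_, ?_⟩
    · show a₁.left (g₁.left w) = y
      rw [hw₁, h₁]
    · rw [map_add, NatTrans.naturality_apply φ.hom, NatTrans.naturality_apply φ.hom, e₁, e₂, sg_map, sg_map,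
        hg, map_add]
  smul_mem' := by
    rintro c m ⟨W, a, w, z, h, e⟩
    exact ⟨W, a, w, c • z, h, by rw [map_smul, e, map_smul]⟩

theorem mem_img {m : M} : m ∈ img α φ y ↔ imgPred α φ y m := Iff.rfl

/-- Near every point the image is a constant submodule. -/
theorem img_isLocallyConstant (hF' : ∀ x : X, ∃ (U' : X.Etale) (u' : U'.left) (M' : ModuleCat.{u + 1} Λ),
      U'.hom u' = x ∧ Module.Finite Λ M' ∧
        Nonempty ((Over.forget U').op ⋙ F'.obj ≅ (Over.forget U').op ⋙ (cEt Λ X M').obj)) :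
    IsLocallyConstant (img α φ) := by
  classical
  rw [IsLocallyConstant.iff_exists_open]
  intro y
  obtain ⟨U', u', M', hu', hM', ⟨α'⟩⟩ := hF' (U.hom y)
  obtain ⟨W₀, b, c, w₀, hbw, hcw⟩ : ∃ (W₀ : X.Etale) (b : W₀ ⟶ U) (c : W₀ ⟶ U') (w₀ : W₀.left),
      b.left w₀ = y ∧ c.left w₀ = u' := by
    have hU : Etale U.hom := U.prop
    have hU' : Etale U'.hom := U'.prop
    obtain ⟨w, hw₁, hw₂⟩ := Scheme.Pullback.exists_preimage_pullback (f := U.hom) (g := U'.hom) y u' hu'.symm
    exact ⟨Scheme.Etale.mk (pullback.fst U.hom U'.hom ≫ U.hom),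
      MorphismProperty.Over.homMk (pullback.fst U.hom U'.hom),
      MorphismProperty.Over.homMk (pullback.snd U.hom U'.hom) pullback.condition.symm, w, hw₁, hw₂⟩
  haveI := hM'
  obtain ⟨r, e, he⟩ := Module.Finite.exists_fin (R := Λ) (M := M')
  have key : ∀ (l : Finset (Fin r)), ∃ (W : X.Etale) (g : W ⟶ W₀) (w : W.left), g.left w = w₀ ∧
      ∀ j ∈ l, ∃ m : M, φ.hom.app (op W) (sg α' (g ≫ c) (e j)) = sg α (g ≫ b) m := by
    intro l
    induction l using Finset.induction_on with
    | empty => exact ⟨W₀, 𝟙 W₀, w₀, rfl, fun j hj => absurd hj (Finset.notMem_empty j)⟩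
    | insert j l _ ih =>
      obtain ⟨W, g, w, hw, hl⟩ := ih
      obtain ⟨W', g', w', m, hw', hm⟩ := exists_sg α (g ≫ b) (φ.hom.app (op W) (sg α' (g ≫ c) (e j))) w
      refine ⟨W', g' ≫ g, w', ?_, fun k hk => ?_⟩
      · show g.left (g'.left w') = w₀
        rw [hw', hw]
      · rw [Finset.mem_insert] at hk
        rcases hk with rfl | hk
        · refine ⟨m, ?_⟩
          rw [Category.assoc, Category.assoc, ← sg_map α' g' (g ≫ c), NatTrans.naturality_apply φ.hom, hm]
        · obtain ⟨m', hm'⟩ := hl k hk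
          refine ⟨m', ?_⟩
          rw [Category.assoc, Category.assoc, ← sg_map α' g' (g ≫ c), NatTrans.naturality_apply φ.hom, hm', sg_map]
  obtain ⟨W, g, w, hw, hm⟩ := key Finset.univ
  choose m hm using fun j => hm j (Finset.mem_univ j)
  let N : Submodule Λ M := Submodule.span Λ (Set.range m)
  have hgen : ∀ (V : X.Etale) (h : V ⟶ W) (x : M'), ∃ n ∈ N,
      φ.hom.app (op V) (sg α' (h ≫ g ≫ c) x) = sg α (h ≫ g ≫ b) n := fun V h x => by
    have hx : x ∈ Submodule.span Λ (Set.range e) := by rw [he]; trivial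
    induction hx using Submodule.span_induction with
    | mem x hx =>
      obtain ⟨j, rfl⟩ := hx
      refine ⟨m j, Submodule.subset_span ⟨j, rfl⟩, ?_⟩
      rw [← sg_map α' h (g ≫ c), NatTrans.naturality_apply φ.hom, hm, sg_map]
    | zero => exact ⟨0, N.zero_mem, by rw [map_zero, map_zero, map_zero]⟩
    | add x x' _ _ hx hx' =>
      obtain ⟨n, hn, e₁⟩ := hx
      obtain ⟨n', hn', e₂⟩ := hx'
      exact ⟨n + n', N.add_mem hn hn', by rw [map_add, map_add, e₁, e₂, map_add]⟩
    | smul a x _ hx =>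
      obtain ⟨n, hn, e₁⟩ := hx
      exact ⟨a • n, N.smul_mem a hn, by rw [map_smul, map_smul, e₁, map_smul]⟩
  let p : W ⟶ U := g ≫ b
  haveI hp : Etale p.left := by
    have hU : Etale U.hom := U.prop
    haveI : Etale (p.left ≫ U.hom) := by rw [MorphismProperty.Over.w p]; exact W.prop
    exact Etale.of_comp p.left U.hom
  have main : ∀ y' ∈ Set.range p.left, img α φ y' = N := by
    rintro _ ⟨q, rfl⟩
    refine le_antisymm ?_ (Submodule.span_le.2 ?_)
    · rintro n ⟨V, a, v, z, hv, hz⟩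
      obtain ⟨V₁, h₁, h₂, v₁, hh, hv₁, hv₂⟩ := exists_common_over a p v q hv
      obtain ⟨V₂, h₃, v₂, x, hv₂', hx⟩ := exists_sg α' (h₂ ≫ g ≫ c) (F'.obj.map h₁.op z) v₁
      obtain ⟨n', hn', hφ⟩ := hgen V₂ (h₃ ≫ h₂) x
      have e1 : sg α ((h₃ ≫ h₂) ≫ g ≫ b) n = sg α ((h₃ ≫ h₂) ≫ g ≫ b) n' := by
        rw [← hφ, show (h₃ ≫ h₂) ≫ g ≫ c = h₃ ≫ h₂ ≫ g ≫ c from Category.assoc _ _ _, ← hx,
          NatTrans.naturality_apply φ.hom, NatTrans.naturality_apply φ.hom, hz, sg_map, sg_map, hh,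
          Category.assoc]
      exact sg_injective α _ v₂ e1 ▸ hn'
    · rintro _ ⟨j, rfl⟩
      exact ⟨W, p, q, _, rfl, hm j⟩
  refine ⟨Set.range p.left, p.left.isOpenMap.isOpen_range, ⟨w, ?_⟩, fun y' hy' => ?_⟩
  · show b.left (g.left w) = y
    rw [hw, hbw]
  · rw [main y' hy']
    refine (main y ⟨w, ?_⟩).symm
    show b.left (g.left w) = y
    rw [hw, hbw]

theorem img_mono {F'' : EtModW.Mod Λ X} (ψ : F'' ⟶ F') : img α (ψ ≫ φ) y ≤ img α φ y :=
  fun _ ⟨W, a, w, z, h, e⟩ => ⟨W, a, w, ψ.hom.app (op W) z, h, e⟩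

/-- Germs of sections in the image are values in the image. -/
theorem exists_mem_img {V : X.Etale} (a : V ⟶ U) (v : V.left) (z : F'.obj.obj (op V)) :
    ∃ (W : X.Etale) (g : W ⟶ V) (w : W.left) (m : M), g.left w = v ∧ m ∈ img α φ (a.left v) ∧
      F.obj.map g.op (φ.hom.app (op V) z) = sg α (g ≫ a) m := by
  obtain ⟨W, g, w, m, hw, hm⟩ := exists_sg α a (φ.hom.app (op V) z) v
  refine ⟨W, g, w, m, hw, ⟨W, g ≫ a, w, F'.obj.map g.op z, ?_, ?_⟩, hm⟩
  · show a.left (g.left w) = a.left v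
    rw [hw]
  · rw [NatTrans.naturality_apply φ.hom, hm]

end Img

end Triv

theorem eq_zero_of_local {F G : EtModW.Mod Λ X} (φ : F ⟶ G)
    (h : ∀ (V : X.Etale) (z : F.obj.obj (op V)) (v : V.left),
      ∃ (W : X.Etale) (g : W ⟶ V) (w : W.left), g.left w = v ∧ G.obj.map g.op (φ.hom.app (op V) z) = 0) :
    φ = 0 := by
  ext V z
  let S : Sieve V.unop :=
    { arrows := fun W g => G.obj.map g.op (φ.hom.app V z) = 0
      downward_closed := fun {W W'} g hg k => by
        show G.obj.map (k ≫ g).op (φ.hom.app V z) = 0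
        rw [op_comp, Functor.map_comp_apply, hg, map_zero] }
  have hS : S ∈ X.smallEtaleTopology V.unop := by
    rw [EtSite.mem_et_iff]
    intro v
    obtain ⟨W, g, w, hw, hg⟩ := h V.unop z v
    exact ⟨W, g, w, hg, hw⟩
  exact (((isSheaf_iff_isSheaf_of_type _ _).1 ((Presheaf.isSheaf_iff_isSheaf_forget _ G.obj
    (CategoryTheory.forget (ModuleCat.{u + 1} Λ))).1 G.property)) S hS).isSeparatedFor.ext fun W g hg =>
      (show G.obj.map g.op (φ.hom.app V z) = G.obj.map g.op 0 by rw [map_zero]; exact hg)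

theorem exists_stable [IsNoetherianRing Λ] (I : Ideal Λ) [IsArtinianRing (Λ ⧸ I)] [IsNoetherian X]
    (F : ARSys.PS (EtModW.Mod Λ X)) (hk : ARSys.TermKilled I F)
    (hF : ∀ n : ℕ, EtModW.IsFTLocConst Λ (F.obj (op n))) (n : ℕ) :
    ∃ r : ℕ, ∀ s : ℕ, r ≤ s → ARSys.shiftMap F r n ≫ cokernel.π (ARSys.shiftMap F s n) = 0 := by
  classical
  haveI : IsArtinianRing (Λ ⧸ I ^ (n + 1)) :=
    Groth.Agent.S14020.result Λ I (IsNoetherian.noetherian I) (n + 1)
  have htriv : ∀ (k : ℕ) (x : X), ∃ (U' : X.Etale) (u' : U'.left) (M' : ModuleCat.{u + 1} Λ),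
      U'.hom u' = x ∧ Module.Finite Λ M' ∧
        Nonempty ((Over.forget U').op ⋙ (F.obj (op k)).obj ≅ (Over.forget U').op ⋙ (cEt Λ X M').obj) := by
    intro k x
    obtain ⟨ι, U, hU, h⟩ := hF k
    obtain ⟨i, y, hy⟩ := hU x
    obtain ⟨M, _, _, hM, ⟨e⟩⟩ := h i
    exact ⟨U i, y, ModuleCat.of Λ M, hy, hM, ⟨trivOfRestr e⟩⟩
  have haff : ∀ x : X, ∃ (U : X.Etale) (u₀ : U.left) (M : ModuleCat.{u + 1} Λ), U.hom u₀ = x ∧
      IsAffine U.left ∧ Module.Finite Λ M ∧
      Nonempty ((Over.forget U).op ⋙ (F.obj (op n)).obj ≅ (Over.forget U).op ⋙ (cEt Λ X M).obj) := by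
    intro x
    obtain ⟨U', u', M, hu', hM, ⟨α⟩⟩ := htriv n x
    obtain ⟨O, hO, huO, -⟩ := exists_isAffineOpen_mem_and_subset (X := U'.left) (x := u') (U := ⊤) trivial
    exact ⟨EtSite.sub U' O, ⟨u', huO⟩, M, hu', hO, hM,
      ⟨Functor.isoWhiskerLeft (Over.map (EtSite.subHom U' O)).op α⟩⟩
  choose U u₀ M hu₀ hUa hM hα using haff
  let O : X → TopologicalSpace.Opens X := fun x =>
    ⟨Set.range (U x).hom, by haveI : Etale (U x).hom := (U x).prop; exact (U x).hom.isOpenMap.isOpen_range⟩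
  obtain ⟨T, hT⟩ := (isCompact_univ : IsCompact (Set.univ : Set X)).elim_finite_subcover
    (fun x => (O x : Set X)) (fun x => (O x).2) fun x _ => Set.mem_iUnion.2 ⟨x, u₀ x, hu₀ x⟩
  have hone : ∀ x : X, ∃ r : ℕ, ∀ s, r ≤ s → ∀ y : (U x).left,
      img (hα x).some (ARSys.shiftMap F r n) y ≤ img (hα x).some (ARSys.shiftMap F s n) y := by
    intro x
    haveI : IsAffine (U x).left := hUa x
    haveI : Etale (U x).hom := (U x).prop
    let jU : (U x).left ⟶ X := (U x).hom
    haveI : Etale jU := (U x).prop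
    haveI : IsLocallyNoetherian (U x).left := LocallyOfFiniteType.isLocallyNoetherian jU
    haveI : AlgebraicGeometry.IsNoetherian (U x).left := { }
    haveI := finite_connectedComponents (α := (U x).left)
    haveI := hM x
    let α := (hα x).some
    have hmon : ∀ y, ∀ s t, s ≤ t →
        img α (ARSys.shiftMap F t n) y ≤ img α (ARSys.shiftMap F s n) y := fun y s t hst => by
      have e : ARSys.shiftMap F t n = ARSys.tr F (by omega : n + s ≤ n + t) ≫ ARSys.shiftMap F s n := by
        show F.map _ = F.map _ ≫ F.map _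
        rw [← F.map_comp]
        rfl
      rw [e]
      exact img_mono α _ y _
    have hart : ∀ y : (U x).left, ∃ r, ∀ s, r ≤ s →
        img α (ARSys.shiftMap F r n) y ≤ img α (ARSys.shiftMap F s n) y := fun y => by
      letI : Module (Λ ⧸ I ^ (n + 1)) (M x) := Module.IsTorsionBySet.module (fun m ⟨c, hc⟩ =>
        smul_eq_zero_of_killedBy α (hk n) y hc m)
      haveI : IsScalarTower Λ (Λ ⧸ I ^ (n + 1)) (M x) := Module.IsTorsionBySet.isScalarTower _
      haveI : Module.Finite (Λ ⧸ I ^ (n + 1)) (M x) := Module.Finite.of_restrictScalars_finite Λ _ _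
      haveI : IsArtinian (Λ ⧸ I ^ (n + 1)) (M x) := isArtinian_of_fg_of_artinian'
      haveI : IsArtinian Λ (M x) :=
        isArtinian_of_surjective_algebraMap (R := Λ ⧸ I ^ (n + 1)) Ideal.Quotient.mk_surjective
      obtain ⟨r, hr⟩ := IsArtinian.monotone_stabilizes
        ⟨fun s => OrderDual.toDual (img α (ARSys.shiftMap F s n) y), fun s t hst => hmon y s t hst⟩
      exact ⟨r, fun s hs => le_of_eq (hr s hs)⟩
    choose ρ hρ using hart
    obtain ⟨r, hr⟩ : ∃ r, ∀ z : ConnectedComponents (U x).left,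
        ρ (ConnectedComponents.surjective_coe z).choose ≤ r := by
      obtain ⟨r, hr⟩ := Set.Finite.bddAbove (Set.finite_range
        fun z : ConnectedComponents (U x).left => ρ (ConnectedComponents.surjective_coe z).choose)
      exact ⟨r, fun z => hr ⟨z, rfl⟩⟩
    refine ⟨r, fun s hs y => ?_⟩
    let y₀ := (ConnectedComponents.surjective_coe (ConnectedComponents.mk y)).choose
    have hy₀ : y₀ ∈ connectedComponent y :=
      ConnectedComponents.coe_eq_coe'.1 (ConnectedComponents.surjective_coe (ConnectedComponents.mk y)).choose_spec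
    have hc : ∀ t, img α (ARSys.shiftMap F t n) y = img α (ARSys.shiftMap F t n) y₀ := fun t =>
      (img_isLocallyConstant α _ (htriv _)).apply_eq_of_isPreconnected isPreconnected_connectedComponent
        mem_connectedComponent hy₀
    rw [hc, hc]
    exact (hmon y₀ _ _ (hr _)).trans (hρ y₀ s ((hr _).trans hs))
  choose ρ hρ using hone
  refine ⟨T.sup ρ, fun s hs => eq_zero_of_local _ fun V z v => ?_⟩
  obtain ⟨x, hxT, hx⟩ : ∃ x ∈ T, V.hom v ∈ O x := by
    have := hT (Set.mem_univ (V.hom v))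
    rw [Set.mem_iUnion₂] at this
    obtain ⟨x, hxT, hx⟩ := this
    exact ⟨x, hxT, hx⟩
  obtain ⟨q, hq⟩ := hx
  haveI : Etale V.hom := V.prop
  haveI : Etale (U x).hom := (U x).prop
  obtain ⟨p, hp₁, hp₂⟩ := Scheme.Pullback.exists_preimage_pullback (f := V.hom) (g := (U x).hom) v q hq.symm
  let P : X.Etale := Scheme.Etale.mk (pullback.fst V.hom (U x).hom ≫ V.hom)
  let a₁ : P ⟶ V := MorphismProperty.Over.homMk (pullback.fst V.hom (U x).hom)
  let a₂ : P ⟶ U x := MorphismProperty.Over.homMk (pullback.snd V.hom (U x).hom) pullback.condition.symm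
  let α := (hα x).some
  let r := T.sup ρ
  let z₁ := (F.obj (op (n + r))).obj.map a₁.op z
  obtain ⟨W, g, w, m, hw, hmem, hm⟩ := exists_mem_img α (ARSys.shiftMap F r n) a₂ p z₁
  have hmon : img α (ARSys.shiftMap F r n) (a₂.left p) ≤ img α (ARSys.shiftMap F (ρ x) n) (a₂.left p) := by
    have hle : ρ x ≤ r := Finset.le_sup hxT
    have e : ARSys.shiftMap F r n = ARSys.tr F (by omega : n + ρ x ≤ n + r) ≫ ARSys.shiftMap F (ρ x) n := by
      show F.map _ = F.map _ ≫ F.map _
      rw [← F.map_comp]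
      rfl
    rw [e]
    exact img_mono α _ _ _
  obtain ⟨W', b, w', z', hw', hz'⟩ := hρ x s ((Finset.le_sup hxT).trans hs) _ (hmon hmem)
  obtain ⟨W'', h₁, h₂, w'', hh, hh₁, hh₂⟩ := exists_common_over (g ≫ a₂) b w w'
    (show a₂.left (g.left w) = _ by rw [hw, hw'])
  refine ⟨W'', h₁ ≫ g ≫ a₁, w'', ?_, ?_⟩
  · show a₁.left (g.left (h₁.left w'')) = v
    rw [hh₁, hw]
    exact hp₁
  · have e : (F.obj (op n)).obj.map (h₁ ≫ g ≫ a₁).op ((ARSys.shiftMap F r n).hom.app (op V) z) =
        (ARSys.shiftMap F s n).hom.app (op W'') ((F.obj (op (n + s))).obj.map h₂.op z') := by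
      refine Eq.trans ?_ (NatTrans.naturality_apply (ARSys.shiftMap F s n).hom h₂.op z').symm
      rw [hz', sg_map, ← hh, ← sg_map, ← hm, op_comp, op_comp, Functor.map_comp_apply, Functor.map_comp_apply]
      exact congrArg _ (congrArg _ (NatTrans.naturality_apply (ARSys.shiftMap F r n).hom a₁.op z).symm)
    let π := cokernel.π (ARSys.shiftMap F s n)
    refine (NatTrans.naturality_apply π.hom (h₁ ≫ g ≫ a₁).op
      ((ARSys.shiftMap F r n).hom.app (op V) z)).symm.trans ?_
    refine (congrArg (π.hom.app (op W'')) e).trans ?_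
    exact congr($(cokernel.condition (ARSys.shiftMap F s n)).hom.app (op W'')
      ((F.obj (op (n + s))).obj.map h₂.op z'))

theorem isML_map {D : Type*} [Category D] [Abelian D] [IsNoetherianRing Λ] (I : Ideal Λ)
    [IsArtinianRing (Λ ⧸ I)] [IsNoetherian X] (F : ARSys.PS (EtModW.Mod Λ X)) (hk : ARSys.TermKilled I F)
    (hF : ∀ n : ℕ, EtModW.IsFTLocConst Λ (F.obj (op n))) (E : EtModW.Mod Λ X ⥤ D) [E.PreservesZeroMorphisms]
    [PreservesFiniteColimits E] : ARSys.IsML (F ⋙ E) := by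
  intro n
  obtain ⟨r, hr⟩ := exists_stable I F hk hF n
  refine ⟨r, fun s hs => le_antisymm ?_ (imageSubobject_le_of_comp_cokernel _ _ ?_)⟩
  · have e : ARSys.shiftMap (F ⋙ E) s n =
        (F ⋙ E).map (homOfLE (show n + r ≤ n + s by omega)).op ≫ ARSys.shiftMap (F ⋙ E) r n := by
      show (F ⋙ E).map _ = (F ⋙ E).map _ ≫ (F ⋙ E).map _
      rw [← Functor.map_comp]
      rfl
    have hcongr : ∀ {A B : D} (a b : A ⟶ B), a = b → imageSubobject a = imageSubobject b := by
      rintro A B a b rfl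
      rfl
    exact (le_of_eq (hcongr _ _ e)).trans (imageSubobject_comp_le _ _)
  · have h1 : E.map (ARSys.shiftMap F r n) ≫ E.map (cokernel.π (ARSys.shiftMap F s n)) = 0 := by
      rw [← E.map_comp, hr s hs, E.map_zero]
    show E.map (ARSys.shiftMap F r n) ≫ cokernel.π (E.map (ARSys.shiftMap F s n)) = 0
    have e2 : E.map (cokernel.π (ARSys.shiftMap F s n)) =
        cokernel.π (E.map (ARSys.shiftMap F s n)) ≫ (PreservesCokernel.iso E (ARSys.shiftMap F s n)).inv := by
      simp [PreservesCokernel.iso_inv]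
    rw [e2, ← Category.assoc] at h1
    exact zero_of_comp_mono _ h1

end Groth.Agent.EtModEps19
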