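import Groth.Agent.Lib.EtModEps19.ConstrP
import Mathlib.AlgebraicGeometry.PullbackCarrier
import Mathlib.AlgebraicGeometry.IdealSheaf.Functorial
import Mathlib.AlgebraicGeometry.Morphisms.Immersion
import Mathlib.AlgebraicGeometry.Morphisms.FinitePresentation

/-!
# Operations on stratifications adapted to a sheaf of modules
-/

universe u

set_option maxHeartbeats 400000
set_option backward.isDefEq.respectTransparency.types false

open CategoryTheory CategoryTheory.Limits AlgebraicGeometry Opposite Topology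

namespace Groth.Agent.EtModEps19.Strata

variable {Λ : Type (u + 1)} [CommRing Λ] {X Y : Scheme.{u}}

theorem flc_congr {g g' : X ⟶ Y} (e : g = g') {F : EtModW.Mod Λ Y}
    (h : EtModW.IsFTLocConst Λ ((EtModW.pull Λ g).obj F)) :
    EtModW.IsFTLocConst Λ ((EtModW.pull Λ g').obj F) := e ▸ h

theorem flc_of_comp {T : Scheme.{u}} (p : T ⟶ X) (g : X ⟶ Y) {F : EtModW.Mod Λ Y}
    (h : EtModW.IsFTLocConst Λ ((EtModW.pull Λ (p ≫ g)).obj F)) :
    EtModW.IsFTLocConst Λ ((EtModW.pull Λ p).obj ((EtModW.pull Λ g).obj F)) :=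
  isFTLocConst_of_iso ((LocConstGen24.pullCompA (ModuleCat.{u + 1} Λ) p g).app F) h

theorem adapted_of_finite {F : EtModW.Mod Λ X} {S : Set X} {κ : Type*} [Finite κ] (T : κ → Scheme.{u})
    (g : ∀ i, T i ⟶ X) (h₁ : ∀ i, IsImmersion (g i))
    (h₂ : ∀ i, Topology.IsConstructible ((Subtype.val : S → X) ⁻¹' Set.range (g i)))
    (h₃ : Pairwise fun i j => Disjoint (Set.range (g i)) (Set.range (g j)))
    (h₄ : (⋃ i, Set.range (g i)) = S)
    (h₅ : ∀ i, EtModW.IsFTLocConst Λ ((EtModW.pull Λ (g i)).obj F)) :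
    EtModW.AdaptedStrata Λ F S := by
  obtain ⟨e⟩ : Nonempty (κ ≃ Fin (Nat.card κ)) := ⟨Finite.equivFin κ⟩
  refine ⟨Nat.card κ, fun i => T (e.symm i), fun i => g (e.symm i), fun i => h₁ _, fun i => h₂ _,
    fun i j hij => h₃ fun h => hij (e.symm.injective h), ?_, fun i => h₅ _⟩
  rw [← h₄]
  exact e.symm.surjective.iUnion_comp fun i => Set.range (g i)

/-- Stratifications adapted to two sheaves have a common refinement, adapted to both. -/
theorem adapted_common {F G : EtModW.Mod Λ X} {S : Set X} (hF : EtModW.AdaptedStrata Λ F S)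
    (hG : EtModW.AdaptedStrata Λ G S) (H : EtModW.Mod Λ X)
    (hH : ∀ (T : Scheme.{u}) (g : T ⟶ X), EtModW.IsFTLocConst Λ ((EtModW.pull Λ g).obj F) →
      EtModW.IsFTLocConst Λ ((EtModW.pull Λ g).obj G) →
      EtModW.IsFTLocConst Λ ((EtModW.pull Λ g).obj H)) :
    EtModW.AdaptedStrata Λ H S := by
  obtain ⟨n, T, g, hg, hgc, hgd, hgu, hgl⟩ := hF
  obtain ⟨m, T', g', hg', hgc', hgd', hgu', hgl'⟩ := hG
  have hr : ∀ p : Fin n × Fin m, Set.range (pullback.fst (g p.1) (g' p.2) ≫ g p.1) =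
      Set.range (g p.1) ∩ Set.range (g' p.2) := fun p => Scheme.Pullback.range_fst_comp _ _
  refine adapted_of_finite (κ := Fin n × Fin m) (fun p => pullback (g p.1) (g' p.2))
    (fun p => pullback.fst (g p.1) (g' p.2) ≫ g p.1) (fun p => ?_) (fun p => ?_) (fun p q hpq => ?_) ?_
    (fun p => ?_)
  · haveI := hg p.1
    haveI := hg' p.2
    infer_instance
  · rw [hr, Set.preimage_inter]
    exact (hgc p.1).inter (hgc' p.2)
  · show Disjoint (Set.range _) (Set.range _)
    rw [hr, hr]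
    by_cases h : p.1 = q.1
    · exact (hgd' fun h' => hpq (Prod.ext h h')).mono Set.inter_subset_right Set.inter_subset_right
    · exact (hgd h).mono Set.inter_subset_left Set.inter_subset_left
  · simp_rw [hr]
    rw [Set.iUnion_prod', ← Set.inter_self S]
    conv_rhs => rw [← hgu, Set.iUnion_inter]
    rw [hgu, ← hgu']
    simp [Set.inter_iUnion]
  · exact hH _ _ (isFTLocConst_pull_comp _ _ (hgl p.1)) (flc_congr pullback.condition.symm (isFTLocConst_pull_comp _ _ (hgl' p.2)))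

theorem range_ι (U : X.Opens) : Set.range U.ι = (U : Set X) := U.range_ι

theorem isImmersion_comp_ι {T : Scheme.{u}} {U : X.Opens} (p : T ⟶ U.toScheme) [IsImmersion p] :
    IsImmersion (p ≫ U.ι) := inferInstance

/-- Strata of an open pull back to strata of any open mapping into it. -/
theorem exists_strata_preimage {F : EtModW.Mod Λ Y} {U : Y.Opens}
    (h : EtModW.AdaptedStrata Λ F (U : Set Y)) (f : X ⟶ Y) (W : X.Opens) (hW : W ≤ f ⁻¹ᵁ U) :
    ∃ (n : ℕ) (T : Fin n → Scheme.{u}) (g : ∀ i, T i ⟶ X), (∀ i, IsImmersion (g i)) ∧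
      (∀ i, Topology.IsConstructible ((Subtype.val : ↥(W : Set X) → X) ⁻¹' Set.range (g i))) ∧
      Pairwise (fun i j => Disjoint (Set.range (g i)) (Set.range (g j))) ∧
      (⋃ i, Set.range (g i)) = (W : Set X) ∧
      ∀ i, EtModW.IsFTLocConst Λ ((EtModW.pull Λ (g i ≫ f)).obj F) := by
  obtain ⟨n, T, g, hg, hgc, hgd, hgu, hgl⟩ := h
  have hr : ∀ i, Set.range (pullback.fst (W.ι ≫ f) (g i) ≫ W.ι) =
      (W : Set X) ∩ f ⁻¹' Set.range (g i) := fun i => by
    show Set.range (W.ι ∘ pullback.fst (W.ι ≫ f) (g i)) = _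
    rw [Set.range_comp, Scheme.Pullback.range_fst]
    show W.ι '' (W.ι ⁻¹' (f ⁻¹' Set.range (g i))) = _
    rw [Set.image_preimage_eq_range_inter, W.range_ι]
  refine ⟨n, fun i => pullback (W.ι ≫ f) (g i), fun i => pullback.fst (W.ι ≫ f) (g i) ≫ W.ι,
    fun i => ?_, fun i => ?_, fun i j hij => ?_, ?_, fun i => ?_⟩
  · haveI := hg i
    infer_instance
  · rw [hr]
    have hle : Set.range (W.ι ≫ f) ⊆ Set.range U.ι := by
      rw [U.range_ι]
      rintro _ ⟨w, rfl⟩
      exact hW w.2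
    let φ : W.toScheme ⟶ U.toScheme := IsOpenImmersion.lift U.ι (W.ι ≫ f) hle
    have := φ.isConstructible_preimage (hgc i)
    refine (?_ : Topology.IsConstructible (X := W.toScheme) _)
    convert this using 1
    ext w
    have e : U.ι (φ w) = f (W.ι w) := by
      rw [← Scheme.Hom.comp_apply, IsOpenImmersion.lift_fac]; rfl
    show W.ι w ∈ (W : Set X) ∩ f ⁻¹' Set.range (g i) ↔ U.ι (φ w) ∈ Set.range (g i)
    rw [e]
    exact ⟨fun h => h.2, fun h => ⟨w.2, h⟩⟩
  · show Disjoint (Set.range _) (Set.range _)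
    rw [hr, hr]
    exact ((hgd hij).preimage f).mono Set.inter_subset_right Set.inter_subset_right
  · simp_rw [hr, ← Set.inter_iUnion, ← Set.preimage_iUnion, hgu]
    exact Set.inter_eq_left.2 hW
  · exact flc_congr (g := pullback.snd (W.ι ≫ f) (g i) ≫ g i)
      ((pullback.condition (f := W.ι ≫ f) (g := g i)).symm.trans (Category.assoc _ _ _).symm)
      (isFTLocConst_pull_comp _ _ (hgl i))

theorem adapted_pull {F : EtModW.Mod Λ Y} {U : Y.Opens} (h : EtModW.AdaptedStrata Λ F (U : Set Y))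
    (f : X ⟶ Y) (W : X.Opens) (hW : W ≤ f ⁻¹ᵁ U) :
    EtModW.AdaptedStrata Λ ((EtModW.pull Λ f).obj F) (W : Set X) := by
  obtain ⟨n, T, g, h1, h2, h3, h4, h5⟩ := exists_strata_preimage h f W hW
  exact ⟨n, T, g, h1, h2, h3, h4, fun i => flc_of_comp _ _ (h5 i)⟩

theorem adapted_mono {F : EtModW.Mod Λ X} {U : X.Opens} (h : EtModW.AdaptedStrata Λ F (U : Set X))
    (W : X.Opens) (hW : W ≤ U) : EtModW.AdaptedStrata Λ F (W : Set X) := by
  obtain ⟨n, T, g, h1, h2, h3, h4, h5⟩ := exists_strata_preimage h (𝟙 X) W hW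
  exact ⟨n, T, g, h1, h2, h3, h4, fun i => flc_congr (Category.comp_id _) (h5 i)⟩

/-- Strata of a restriction to an open subscheme give strata of the sheaf. -/
theorem adapted_image {F : EtModW.Mod Λ Y} (j : X ⟶ Y) [IsOpenImmersion j] {U : X.Opens}
    (h : EtModW.AdaptedStrata Λ ((EtModW.pull Λ j).obj F) (U : Set X)) :
    EtModW.AdaptedStrata Λ F ((j ''ᵁ U : Y.Opens) : Set Y) := by
  obtain ⟨n, T, g, hg, hgc, hgd, hgu, hgl⟩ := h
  refine ⟨n, T, fun i => g i ≫ j, fun i => ?_, fun i => ?_, fun i k hik => ?_, ?_, fun i => ?_⟩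
  · haveI := hg i
    infer_instance
  · let W : Y.Opens := j ''ᵁ U
    have hle : Set.range W.ι ⊆ Set.range (U.ι ≫ j) := by
      rw [W.range_ι]
      rintro _ ⟨u', hu', rfl⟩
      exact ⟨⟨u', hu'⟩, rfl⟩
    let φ : W.toScheme ⟶ U.toScheme := IsOpenImmersion.lift (U.ι ≫ j) W.ι hle
    have := φ.isConstructible_preimage (hgc i)
    refine (?_ : Topology.IsConstructible (X := W.toScheme) _)
    convert this using 1
    ext w
    have e : j (U.ι (φ w)) = W.ι w := by
      rw [← Scheme.Hom.comp_apply, ← Scheme.Hom.comp_apply, IsOpenImmersion.lift_fac]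
    show W.ι w ∈ Set.range (g i ≫ j) ↔ U.ι (φ w) ∈ Set.range (g i)
    rw [← e]
    exact ⟨fun ⟨t, ht⟩ => ⟨t, j.isOpenEmbedding.injective ht⟩, fun ⟨t, ht⟩ => ⟨t, congrArg j ht⟩⟩
  · show Disjoint (Set.range (j ∘ g i)) (Set.range (j ∘ g k))
    rw [Set.range_comp, Set.range_comp]
    exact (Set.disjoint_image_iff j.isOpenEmbedding.injective).2 (hgd hik)
  · show (⋃ i, Set.range (j ∘ g i)) = j '' (U : Set X)
    simp_rw [Set.range_comp, ← Set.image_iUnion, hgu]
  · exact isFTLocConst_of_iso ((LocConstGen24.pullCompA (ModuleCat.{u + 1} Λ) (g i) j).app F).symm (hgl i)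

/-- Strata on the members of a finite covering by compact opens give strata on the union. -/
theorem adapted_glue {F : EtModW.Mod Λ X} (U : X.Opens) [QuasiSeparatedSpace U.toScheme] (N : ℕ)
    (V : Fin N → X.Opens) (hle : ∀ k, V k ≤ U) (hc : ∀ k, IsCompact (V k : Set X))
    (hcov : (U : Set X) = ⋃ k, (V k : Set X)) (h : ∀ k, EtModW.AdaptedStrata Λ F (V k : Set X)) :
    EtModW.AdaptedStrata Λ F (U : Set X) := by
  choose n T g hg hgc hgd hgu hgl using h
  let O : Fin N → X.Opens := fun k => ⨆ j : {j : Fin N // j < k}, V j.1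
  let C : ∀ k, TopologicalSpace.Closeds (V k).toScheme := fun k =>
    ⟨((V k).ι ⁻¹ᵁ O k : (V k).toScheme.Opens).1ᶜ, ((V k).ι ⁻¹ᵁ O k).2.isClosed_compl⟩
  let c : ∀ k, ((Scheme.IdealSheafData.vanishingIdeal (C k)).subscheme : Scheme.{u}) ⟶ X :=
    fun k => (Scheme.IdealSheafData.vanishingIdeal (C k)).subschemeι ≫ (V k).ι
  have hc' : ∀ k, Set.range (c k) = (V k : Set X) \ O k := fun k => by
    show Set.range ((V k).ι ∘ (Scheme.IdealSheafData.vanishingIdeal (C k)).subschemeι) = _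
    rw [Set.range_comp, Scheme.IdealSheafData.range_subschemeι,
      Scheme.IdealSheafData.coe_support_vanishingIdeal]
    show (V k).ι '' ((V k).ι ⁻¹' (O k : Set X))ᶜ = _
    rw [← Set.preimage_compl, Set.image_preimage_eq_range_inter, (V k).range_ι]
    rfl
  have hr : ∀ k i, Set.range (pullback.fst (g k i) (c k) ≫ g k i) =
      Set.range (g k i) ∩ ((V k : Set X) \ O k) := fun k i => by
    rw [Scheme.Pullback.range_fst_comp, hc']
  have hsub : ∀ k i, Set.range (g k i) ⊆ V k := fun k i => by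
    rw [← hgu k]; exact Set.subset_iUnion (fun i => Set.range (g k i)) i
  have hVc : ∀ k, Topology.IsConstructible (U.ι ⁻¹' (V k : Set X)) := fun k => by
    refine IsCompact.isConstructible ?_ ((V k).2.preimage U.ι.continuous)
    refine U.ι.isOpenEmbedding.isInducing.isCompact_preimage' (hc k) ?_
    rw [U.range_ι]
    exact hle k
  refine adapted_of_finite (κ := Σ k : Fin N, Fin (n k))
    (fun p => pullback (g p.1 p.2) (c p.1)) (fun p => pullback.fst (g p.1 p.2) (c p.1) ≫ g p.1 p.2)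
    (fun p => ?_) (fun p => ?_) ?_ ?_ (fun p => isFTLocConst_pull_comp _ _ (hgl p.1 p.2))
  · haveI := hg p.1 p.2
    haveI : IsImmersion (c p.1) := inferInstanceAs (IsImmersion (_ ≫ _))
    infer_instance
  · rw [hr]
    refine (?_ : Topology.IsConstructible (X := U.toScheme) (U.ι ⁻¹' _))
    rw [Set.preimage_inter, Set.preimage_sdiff]
    refine IsConstructible.inter ?_ ((hVc p.1).sdiff ?_)
    · let φ : (V p.1).toScheme ⟶ U.toScheme := X.homOfLE (hle p.1)
      have hφ : Set.range φ = U.ι ⁻¹' (V p.1 : Set X) := by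
        ext w
        constructor
        · rintro ⟨v, rfl⟩
          show U.ι (φ v) ∈ V p.1
          rw [← Scheme.Hom.comp_apply, X.homOfLE_ι]
          exact v.2
        · intro hw
          refine ⟨⟨U.ι w, hw⟩, U.ι.isOpenEmbedding.injective ?_⟩
          rw [← Scheme.Hom.comp_apply, X.homOfLE_ι]
          rfl
      have hretro : IsRetrocompact (Set.range φ) := by
        rw [hφ]
        refine IsCompact.isRetrocompact ?_ ((V p.1).2.preimage U.ι.continuous)
        refine U.ι.isOpenEmbedding.isInducing.isCompact_preimage' (hc p.1) ?_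
        rw [U.range_ι]
        exact hle p.1
      have := IsConstructible.image_of_isOpenEmbedding φ.isOpenEmbedding hretro (hgc p.1 p.2)
      convert this using 1
      ext w
      constructor
      · intro hw
        refine ⟨⟨U.ι w, hsub _ _ hw⟩, hw, U.ι.isOpenEmbedding.injective ?_⟩
        rw [← Scheme.Hom.comp_apply, X.homOfLE_ι]
        rfl
      · rintro ⟨v, hv, rfl⟩
        show U.ι (φ v) ∈ Set.range (g p.1 p.2)
        rw [← Scheme.Hom.comp_apply, X.homOfLE_ι]
        exact hv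
    · rw [TopologicalSpace.Opens.coe_iSup, Set.preimage_iUnion]
      exact IsConstructible.iUnion fun j => hVc j.1
  · rintro ⟨k, i⟩ ⟨k', i'⟩ hne
    show Disjoint (Set.range _) (Set.range _)
    rw [hr, hr]
    rcases lt_trichotomy k k' with hk | rfl | hk
    · refine Set.disjoint_left.2 fun x hx hx' => hx'.2.2 ?_
      exact TopologicalSpace.Opens.mem_iSup.2 ⟨⟨k, hk⟩, hx.2.1⟩
    · exact (hgd k fun h => hne (by simp_all)).mono Set.inter_subset_left Set.inter_subset_left
    · refine Set.disjoint_left.2 fun x hx hx' => hx.2.2 ?_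
      exact TopologicalSpace.Opens.mem_iSup.2 ⟨⟨k', hk⟩, hx'.2.1⟩
  · refine Set.Subset.antisymm (Set.iUnion_subset fun p => ?_) fun x hx => ?_
    · rw [hr]
      exact Set.inter_subset_left.trans ((hsub _ _).trans (hle p.1))
    · rw [hcov] at hx
      obtain ⟨k₀, hk₀⟩ := Set.mem_iUnion.1 hx
      classical
      obtain ⟨k, hk, hmin⟩ := (Finset.univ.filter fun k => x ∈ V k).exists_minimalFor id
        ⟨k₀, by simpa using hk₀⟩
      have hkV : x ∈ V k := by simpa using hk
      obtain ⟨i, hi⟩ := Set.mem_iUnion.1 ((hgu k).ge hkV)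
      refine Set.mem_iUnion.2 ⟨⟨k, i⟩, ?_⟩
      rw [hr]
      refine ⟨hi, hkV, fun hO => ?_⟩
      obtain ⟨⟨j, hj⟩, hxj⟩ := TopologicalSpace.Opens.mem_iSup.1 hO
      exact absurd (hmin (j := j) (by simpa using hxj) hj.le) (not_le.2 hj)

/-- Strata near each point of an affine open give strata on it. -/
theorem adapted_of_local {F : EtModW.Mod Λ X} {U : X.Opens} (hU : IsCompact (U : Set X))
    [QuasiSeparatedSpace U.toScheme]
    (h : ∀ x ∈ U, ∃ V : X.Opens, x ∈ V ∧ V ≤ U ∧ IsCompact (V : Set X) ∧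
      EtModW.AdaptedStrata Λ F (V : Set X)) :
    EtModW.AdaptedStrata Λ F (U : Set X) := by
  choose! V hxV hVU hVc hV using h
  obtain ⟨t, htU, ht⟩ := hU.elim_nhds_subcover (fun x => (V x : Set X))
    fun x hx => (V x).2.mem_nhds (hxV x hx)
  refine adapted_glue U t.card (fun k => V (t.equivFin.symm k).1) (fun k => hVU _ (htU _ (t.equivFin.symm k).2))
    (fun k => hVc _ (htU _ (t.equivFin.symm k).2)) ?_ (fun k => hV _ (htU _ (t.equivFin.symm k).2))
  refine Set.Subset.antisymm (fun x hx => ?_) (Set.iUnion_subset fun k => hVU _ (htU _ (t.equivFin.symm k).2))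
  obtain ⟨y, hy, hxy⟩ := Set.mem_iUnion₂.1 (ht hx)
  exact Set.mem_iUnion.2 ⟨t.equivFin ⟨y, hy⟩, by simpa using hxy⟩

theorem quasiSeparated_affine {U : X.Opens} (hU : IsAffineOpen U) :
    QuasiSeparatedSpace U.toScheme := by
  haveI : IsAffine U.toScheme := hU
  infer_instance

theorem exists_affine_le (W : X.Opens) {x : X} (hx : x ∈ W) :
    ∃ V : X.Opens, IsAffineOpen V ∧ x ∈ V ∧ V ≤ W := by
  obtain ⟨V, hV, hxV, hVW⟩ := exists_isAffineOpen_mem_and_subset hx
  exact ⟨V, hV, hxV, hVW⟩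

theorem isConstructible_pull (f : X ⟶ Y) {F : EtModW.Mod Λ Y} (hF : EtModW.IsConstructible Λ F) :
    EtModW.IsConstructible Λ ((EtModW.pull Λ f).obj F) := fun U hU => by
  haveI := quasiSeparated_affine hU
  refine adapted_of_local hU.isCompact fun x hx => ?_
  obtain ⟨A, hA, hxA, -⟩ := exists_affine_le (⊤ : Y.Opens) (x := f x) trivial
  obtain ⟨V, hV, hxV, hVle⟩ := exists_affine_le (U ⊓ f ⁻¹ᵁ A) (x := x) ⟨hx, hxA⟩
  exact ⟨V, hxV, hVle.trans inf_le_left, hV.isCompact,
    adapted_pull (hF A hA) f V (hVle.trans inf_le_right)⟩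

theorem isConstructible_of_cover {F : EtModW.Mod Λ X} {ι : Type u} (U : ι → X.Opens)
    (hU : ⨆ i, U i = ⊤) (h : ∀ i, EtModW.IsConstructible Λ ((EtModW.pull Λ (U i).ι).obj F)) :
    EtModW.IsConstructible Λ F := fun W hW => by
  haveI := quasiSeparated_affine hW
  refine adapted_of_local hW.isCompact fun x hx => ?_
  obtain ⟨i, hi⟩ := TopologicalSpace.Opens.mem_iSup.1 (show x ∈ ⨆ i, U i by rw [hU]; trivial)
  obtain ⟨V, hV, hxV, hVle⟩ := exists_affine_le (W ⊓ U i) (x := x) ⟨hx, hi⟩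
  have hV' : IsAffineOpen ((U i).ι ⁻¹ᵁ V) := hV.preimage_of_isOpenImmersion _ (by
    rw [(U i).opensRange_ι]; exact hVle.trans inf_le_right)
  have e : (U i).ι ''ᵁ ((U i).ι ⁻¹ᵁ V) = V := by
    rw [Scheme.Hom.image_preimage_eq_opensRange_inf, (U i).opensRange_ι]
    exact inf_eq_right.2 (hVle.trans inf_le_right)
  have := adapted_image (U i).ι (h i _ hV')
  rw [e] at this
  exact ⟨V, hxV, hVle.trans inf_le_left, hV.isCompact, this⟩

theorem adapted_univ {F : EtModW.Mod Λ X} [CompactSpace X] [QuasiSeparatedSpace X]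
    (hF : EtModW.IsConstructible Λ F) : EtModW.AdaptedStrata Λ F (Set.univ : Set X) := by
  haveI : QuasiSeparatedSpace (⊤ : X.Opens).toScheme :=
    QuasiSeparatedSpace.of_isOpenEmbedding (f := (⊤ : X.Opens).ι) (⊤ : X.Opens).ι.isOpenEmbedding
  rw [← TopologicalSpace.Opens.coe_top]
  refine adapted_of_local isCompact_univ fun x _ => ?_
  obtain ⟨V, hV, hxV, -⟩ := exists_affine_le (⊤ : X.Opens) (x := x) trivial
  exact ⟨V, hxV, le_top, hV.isCompact, hF V hV⟩

theorem isConstructible_of_univ {F : EtModW.Mod Λ X}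
    (h : EtModW.AdaptedStrata Λ F (Set.univ : Set X)) : EtModW.IsConstructible Λ F := fun U _ =>
  adapted_mono (U := (⊤ : X.Opens)) (by rwa [TopologicalSpace.Opens.coe_top]) U le_top

end Groth.Agent.EtModEps19.Strata
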