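import Groth.Agent.Lib.EtModEps19.ModStalk
import Groth.Agent.Lib.EtModEps19.ModStrata
import Groth.Agent.Lib.EtModEps19.EtML
import Mathlib.CategoryTheory.Subobject.NoetherianObject

/-! Constructible sheaves of modules: weak Serre, Noetherian, with finite stalks. -/

universe u

open CategoryTheory Limits AlgebraicGeometry Opposite ZeroObject

namespace Groth.Agent.EtModEps19

set_option backward.isDefEq.respectTransparency false
set_option backward.isDefEq.respectTransparency.types false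
set_option linter.style.haveILetI false
set_option linter.unusedSectionVars false
set_option maxHeartbeats 800000

variable {Λ : Type (u + 1)} [CommRing Λ] {X : Scheme.{u}}

/-- Constructibility as a property of objects. -/
abbrev constrP (Λ : Type (u + 1)) [CommRing Λ] (X : Scheme.{u}) : ObjectProperty (EtModW.Mod Λ X) :=
  fun E => EtModW.IsConstructible Λ E

instance isWeakSerre_constrP [IsNoetherianRing Λ] : WSerre.IsWeakSerre (constrP Λ X) := by
  haveI : (constrP Λ X).ContainsZero := ⟨0, isZero_zero _, isConstructible_of_isZero (isZero_zero _)⟩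
  haveI : (constrP Λ X).IsClosedUnderKernels := ⟨by
    rintro K ⟨φ, k, hk, ⟨hA, hB⟩⟩
    refine isConstructible_of_iso (IsLimit.conePointUniqueUpToIso (limit.isLimit _) hk) ?_
    exact isConstructible_two hA hB fun T t h h' => isFTLocConst_of_iso
      (PreservesKernel.iso (EtModW.pull Λ t) φ).symm (isFTLocConst_kernel _ h h')⟩
  haveI : (constrP Λ X).IsClosedUnderCokernels := ⟨by
    rintro K ⟨φ, k, hk, ⟨hA, hB⟩⟩
    refine isConstructible_of_iso (IsColimit.coconePointUniqueUpToIso (colimit.isColimit _) hk) ?_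
    exact isConstructible_two hA hB fun T t h h' => isFTLocConst_of_iso
      (PreservesCokernel.iso (EtModW.pull Λ t) φ).symm (isFTLocConst_cokernel _ h h')⟩
  haveI : (constrP Λ X).IsClosedUnderExtensions := ⟨fun {T} hT h₁ h₃ =>
    isConstructible_two h₁ h₃ fun Z t h h' => isFTLocConst_X₂ (hT.map_of_exact (EtModW.pull Λ t)) h h'⟩
  exact { }

/-- A geometric point with image in an immersion factors through it. -/
theorem exists_factor {T : Scheme.{u}} (g : T ⟶ X) [IsImmersion g] {Ω : Type u} [Field Ω]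
    (ξ : Spec (CommRingCat.of Ω) ⟶ X) (h : ξ default ∈ Set.range g) :
    ∃ ξ' : Spec (CommRingCat.of Ω) ⟶ T, ξ' ≫ g = ξ := by
  let q := pullback.fst ξ g
  have hr : Set.range q = Set.univ := by
    rw [Scheme.Pullback.range_fst]
    exact Set.eq_univ_of_forall fun z => by rw [Subsingleton.elim z default]; exact h
  have hcb : (q.coborderRange : Set (Spec (CommRingCat.of Ω))) = Set.univ := by
    show coborder (Set.range q) = _
    rw [hr, coborder, closure_univ, Set.sdiff_self, Set.compl_empty]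
  haveI : Surjective q.liftCoborder := ⟨fun y => by
    obtain ⟨p, hp⟩ := (congrArg (q.coborderRange.ι y ∈ ·) hr).mpr trivial
    refine ⟨p, q.coborderRange.ι.isOpenEmbedding.injective ?_⟩
    rw [← Scheme.Hom.comp_apply, Scheme.Hom.liftCoborder_ι, hp]⟩
  haveI : IsIso q.liftCoborder := isIso_of_isClosedImmersion_of_surjective _
  haveI : IsIso q.coborderRange.ι := by
    have : q.coborderRange = ⊤ := TopologicalSpace.Opens.ext hcb
    rw [this]
    exact (Scheme.topIso (Spec (CommRingCat.of Ω))).isIso_hom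
  haveI : IsIso q := q.liftCoborder_ι ▸ (inferInstance : IsIso (q.liftCoborder ≫ q.coborderRange.ι))
  exact ⟨inv q ≫ pullback.snd ξ g, by rw [Category.assoc, ← pullback.condition, IsIso.inv_hom_id_assoc]⟩

theorem finite_stalk_of_isFTLocConst {Ω : Type u} [Field Ω] [IsSepClosed Ω]
    (ξ : Spec (CommRingCat.of Ω) ⟶ X) {E : EtModW.Mod Λ X} (h : EtModW.IsFTLocConst Λ E) :
    Module.Finite Λ ((EtModW.stalk Λ ξ).obj E) := by
  obtain ⟨ι, U, hU, h⟩ := h
  obtain ⟨i, u₀, hu⟩ := hU (ξ default)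
  obtain ⟨M, _, _, hM, ⟨e⟩⟩ := h i
  let α := trivOfRestr e
  obtain ⟨y, -⟩ := Scheme.pointSmallEtaleFiberObjToPreimage_surjective ξ rfl (U i) ⟨u₀, hu⟩
  let P := Scheme.pointSmallEtale ξ
  refine Module.Finite.of_surjective (f := (sg α (𝟙 (U i)) ≫ germM ξ E y).hom) fun p => ?_
  obtain ⟨V, x, z, rfl⟩ := germM_surjective ξ E p
  let E₁ : P.fiber.Elements := ⟨V, x⟩
  let E₂ : P.fiber.Elements := ⟨U i, y⟩
  obtain ⟨Q, f₁, f₂, -⟩ := IsCofilteredOrEmpty.cone_objs E₁ E₂
  let a : Q.1 ⟶ V := f₁.1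
  let b : Q.1 ⟶ U i := f₂.1
  obtain ⟨W, g, ⟨m, hm⟩, w, hw⟩ := P.jointly_surjective _
    (Presheaf.imageSieve_mem X.smallEtaleTopology
      (toSheafify X.smallEtaleTopology ((Functor.const X.Etaleᵒᵖ).obj (ModuleCat.of Λ M))) (U := op Q.1)
      (α.hom.app (op (Over.mk b)) (E.obj.map a.op z))) Q.2
  refine ⟨m, ?_⟩
  have e1 : α.hom.app (op (Over.mk (g ≫ b))) (E.obj.map g.op (E.obj.map a.op z)) =
      can X.smallEtaleTopology (ModuleCat.of Λ M) W m :=
    (NatTrans.naturality_apply α.hom (Over.homMk g : Over.mk (g ≫ b) ⟶ Over.mk b).op _).trans hm.symm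
  have e2 : E.obj.map g.op (E.obj.map a.op z) = sg α (g ≫ b) m :=
    ((congr($(α.hom_inv_id_app (op (Over.mk (g ≫ b)))) (E.obj.map g.op (E.obj.map a.op z)))).symm).trans
      (congrArg (α.inv.app (op (Over.mk (g ≫ b)))) e1)
  show germM ξ E y (sg α (𝟙 (U i)) m) = germM ξ E x z
  have hy : P.fiber.map (g ≫ b) w = y := by
    rw [Functor.map_comp_apply, hw]
    exact f₂.2
  have hx : P.fiber.map (g ≫ a) w = x := by
    rw [Functor.map_comp_apply, hw]
    exact f₁.2
  conv_lhs => rw [← hy]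
  conv_rhs => rw [← hx]
  refine (P.toPresheafFiber_w_apply (g ≫ b) w E.obj _).symm.trans
    (Eq.trans ?_ (P.toPresheafFiber_w_apply (g ≫ a) w E.obj _))
  rw [sg_map, Category.comp_id, ← e2, op_comp, Functor.map_comp_apply]

theorem finite_stalk {Ω : Type u} [Field Ω] [IsSepClosed Ω]
    (ξ : Spec (CommRingCat.of Ω) ⟶ X) {E : EtModW.Mod Λ X} (h : EtModW.IsConstructible Λ E) :
    Module.Finite Λ ((EtModW.stalk Λ ξ).obj E) := by
  obtain ⟨U, hU, hxU, -⟩ := exists_isAffineOpen_mem_and_subset (X := X) (x := ξ default) (U := ⊤) trivial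
  obtain ⟨n, T, g, hg, -, -, hgu, hgl⟩ := h U hU
  obtain ⟨i, hi⟩ := Set.mem_iUnion.1 ((congrArg (ξ default ∈ ·) hgu).mpr hxU)
  haveI := hg i
  obtain ⟨ξ', rfl⟩ := exists_factor (g i) ξ hi
  haveI : Module.Finite Λ ((EtModW.pull Λ (g i) ⋙ EtModW.stalk Λ ξ').obj E) :=
    finite_stalk_of_isFTLocConst ξ' (hgl i)
  exact Module.Finite.equiv ((stalkPullModIso (Λ := Λ) (g i) ξ').app E).toLinearEquiv.symm

/-- A chain of subsheaves is stationary near the generic point. -/
theorem exists_open_stationary [IsNoetherianRing Λ] {Z : Scheme.{u}} [IsNoetherian Z] [IrreducibleSpace Z]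
    {E : EtModW.Mod Λ Z} {O₀ : Z.Opens} (hO₀ : (O₀ : Set Z).Nonempty) (hE : LC E O₀)
    (K : ℕ → EtModW.Mod Λ Z) (j : ∀ k, K k ⟶ E) [∀ k, Mono (j k)]
    (t : ∀ {k l : ℕ}, k ≤ l → (K k ⟶ K l)) (ht : ∀ {k l : ℕ} (h : k ≤ l), t h ≫ j l = j k) :
    ∃ (O : Z.Opens) (k₀ : ℕ), (O : Set Z).Nonempty ∧
      ∀ (k : ℕ) (h : k₀ ≤ k), (EtModW.pull Λ O.ι).map (cokernel.π (t h)) = 0 := by
  classical
  obtain ⟨x, hx⟩ := hO₀
  obtain ⟨U, u', M, hu', hM, ⟨φ⟩⟩ := hE x hx
  haveI : Etale U.hom := U.prop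
  obtain ⟨V, hV, huV, -⟩ := exists_isAffineOpen_mem_and_subset (X := U.left) (x := u') (U := ⊤) trivial
  let U' : Z.Etale := EtSite.sub U V
  haveI : IsAffine U'.left := hV
  let jU : U'.left ⟶ Z := U'.hom
  haveI : Etale jU := U'.prop
  haveI : IsLocallyNoetherian U'.left := LocallyOfFiniteType.isLocallyNoetherian jU
  haveI : AlgebraicGeometry.IsNoetherian U'.left := { }
  haveI : Nonempty U'.left := ⟨⟨u', huV⟩⟩
  obtain ⟨V', hV'⟩ := exists_irreducible_open U'.left
  let W₀ : Z.Etale := EtSite.sub U' V'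
  haveI : IrreducibleSpace W₀.left := Subtype.irreducibleSpace hV'
  haveI : Etale W₀.hom := W₀.prop
  let α : (Over.forget W₀).op ⋙ E.obj ≅ (Over.forget W₀).op ⋙ (cEt Λ Z M).obj :=
    Functor.isoWhiskerLeft (Over.map (EtSite.subHom U' V' ≫ EtSite.subHom U V)).op (trivOfRestr φ)
  let η := genericPoint W₀.left
  have hη : ∀ {W : Z.Etale} (a : W ⟶ W₀) (_ : W.left), η ∈ Set.range a.left := fun {W} a w =>
    ((genericPoint_spec W₀.left).mem_open_set_iff (isOpen_range_left a)).2 ⟨a.left w, trivial, w, rfl⟩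
  have hle : ∀ k y, img α (j k) y ≤ img α (j k) η := fun k y m ⟨W, a, w, z, hw, hz⟩ => by
    obtain ⟨w', hw'⟩ := hη a w
    exact ⟨W, a, w', z, hw', hz⟩
  have hmon : ∀ {k l : ℕ}, k ≤ l → img α (j k) η ≤ img α (j l) η := fun {k l} h => by
    rw [← ht h]
    exact img_mono α _ η _
  haveI := isNoetherian_of_isNoetherianRing_of_finite Λ M
  obtain ⟨k₀, hk₀⟩ := monotone_stabilizes_iff_noetherian.2 inferInstance
    ⟨fun k => img α (j k) η, fun k l h => hmon h⟩
  obtain ⟨r, m, hm⟩ := Submodule.fg_iff_exists_fin_generating_family.1 (IsNoetherian.noetherian (img α (j k₀) η))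
  have hmem : ∀ i, m i ∈ img α (j k₀) η := fun i => hm ▸ Submodule.subset_span ⟨i, rfl⟩
  choose Wm am wm zm hwm hzm using hmem
  let G : Set W₀.left := ⋂ i, Set.range (am i).left
  have hG : IsOpen G := isOpen_iInter_of_finite fun i => isOpen_range_left (am i)
  have hηG : η ∈ G := Set.mem_iInter.2 fun i => ⟨wm i, hwm i⟩
  let O : Z.Opens := ⟨W₀.hom '' G, W₀.hom.isOpenMap _ hG⟩
  have hGle : ∀ y ∈ G, img α (j k₀) η ≤ img α (j k₀) y := fun y hy => by
    rw [← hm, Submodule.span_le]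
    rintro _ ⟨i, rfl⟩
    obtain ⟨w, hw⟩ := Set.mem_iInter.1 hy i
    exact ⟨Wm i, am i, w, zm i, hw, hzm i⟩
  refine ⟨O, k₀, ⟨W₀.hom η, η, hηG, rfl⟩, fun k hk => ?_⟩
  let π := cokernel.π (t hk)
  have key : ∀ (V : Z.Etale) (z : (K k).obj.obj (op V)) (v : V.left), V.hom v ∈ O →
      ∃ (W : Z.Etale) (g : W ⟶ V) (w : W.left), g.left w = v ∧
        (cokernel (t hk)).obj.map g.op (π.hom.app (op V) z) = 0 := by
    intro V z v hv
    obtain ⟨y, hyG, hy⟩ := hv
    haveI : Etale V.hom := V.prop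
    obtain ⟨p, hp₁, hp₂⟩ := Scheme.Pullback.exists_preimage_pullback (f := V.hom) (g := W₀.hom) v y hy.symm
    let P : Z.Etale := Scheme.Etale.mk (pullback.fst V.hom W₀.hom ≫ V.hom)
    let a₁ : P ⟶ V := MorphismProperty.Over.homMk (pullback.fst V.hom W₀.hom)
    let a₂ : P ⟶ W₀ := MorphismProperty.Over.homMk (pullback.snd V.hom W₀.hom) pullback.condition.symm
    obtain ⟨W, g, w, m', hw, hmem', hm'⟩ := exists_mem_img α (j k) a₂ p ((K k).obj.map a₁.op z)
    have hmem₀ : m' ∈ img α (j k₀) (a₂.left p) := by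
      have h1 : m' ∈ img α (j k) η := hle _ _ hmem'
      rw [← show img α (j k₀) η = img α (j k) η from hk₀ k hk] at h1
      exact hGle _ (by rw [show a₂.left p = y from hp₂]; exact hyG) h1
    obtain ⟨W', a', w', z', hw', hz'⟩ := hmem₀
    obtain ⟨Q, q₁, q₂, q, hq, hq₁, hq₂⟩ := exists_common_over (g ≫ a₂) a' w w'
      (show a₂.left (g.left w) = _ by rw [hw, hw'])
    refine ⟨Q, q₁ ≫ g ≫ a₁, q, ?_, ?_⟩
    · show a₁.left (g.left (q₁.left q)) = v
      rw [hq₁, hw]
      exact hp₁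
    · haveI : Mono ((j k).hom.app (op Q)) := inferInstanceAs (Mono ((sheafToPresheaf Z.smallEtaleTopology
        (ModuleCat.{u + 1} Λ) ⋙ (evaluation _ _).obj (op Q)).map (j k)))
      have e : (K k).obj.map (q₁ ≫ g ≫ a₁).op z = (t hk).hom.app (op Q) ((K k₀).obj.map q₂.op z') := by
        refine (ModuleCat.mono_iff_injective ((j k).hom.app (op Q))).1 inferInstance ?_
        refine Eq.trans ?_ (congr($(ht hk).hom.app (op Q) ((K k₀).obj.map q₂.op z'))).symm
        rw [NatTrans.naturality_apply (j k₀).hom, hz', sg_map, ← hq, ← sg_map, ← hm',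
          ← NatTrans.naturality_apply (j k).hom, ← NatTrans.naturality_apply (j k).hom, op_comp, op_comp,
          Functor.map_comp_apply, Functor.map_comp_apply]
      rw [← NatTrans.naturality_apply π.hom, e]
      exact congr($(cokernel.condition (t hk)).hom.app (op Q) ((K k₀).obj.map q₂.op z'))
  refine hom_eq_zero_of_stalk _ fun o => ?_
  let ξ := EtStalk.geomPt O.toScheme o
  have h0 : (EtModW.stalk Λ (ξ ≫ O.ι)).map π = 0 := by
    refine ModuleCat.hom_ext (LinearMap.ext fun p => ?_)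
    obtain ⟨V, y, z, rfl⟩ := germM_surjective (ξ ≫ O.ι) (K k) p
    show (EtModW.stalk Λ (ξ ≫ O.ι)).map π (germM (ξ ≫ O.ι) (K k) y z) = 0
    rw [germM_nat]
    let v : V.left := y.left (default : Spec (CommRingCat.of (SeparableClosure (O.toScheme.residueField o))))
    have hv : V.hom v = O.ι o := by
      show V.hom (y.left _) = _
      refine (Scheme.Hom.comp_apply y.left V.hom _).symm.trans ?_
      rw [show y.left ≫ V.hom = ξ ≫ O.ι from Over.w y]
      refine (Scheme.Hom.comp_apply ξ O.ι _).trans ?_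
      rw [EtStalk.geomPt_default]
    let VO : V.left.Opens := V.hom ⁻¹ᵁ O
    let V₁ : Z.Etale := EtSite.sub V VO
    let ι₁ : V₁ ⟶ V := EtSite.subHom V VO
    have hzero : (cokernel (t hk)).obj.map ι₁.op (π.hom.app (op V) z) = 0 := by
      refine eq_zero_sect _ fun v₁ => ?_
      obtain ⟨W, g, w, hw, hg⟩ := key V₁ ((K k).obj.map ι₁.op z) v₁ v₁.2
      refine ⟨W, g, w, hw, ?_⟩
      rw [← NatTrans.naturality_apply π.hom]
      exact hg
    have hrange : Set.range y.left ⊆ Set.range VO.ι := by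
      rw [Scheme.Opens.range_ι]
      rintro _ ⟨(s : Spec (CommRingCat.of (SeparableClosure (O.toScheme.residueField o)))), rfl⟩
      rw [Subsingleton.elim s (default : Spec (CommRingCat.of (SeparableClosure (O.toScheme.residueField o))))]
      show V.hom v ∈ O
      rw [hv]
      exact o.2
    let y₁ : EtStalk.fib (ξ ≫ O.ι) V₁ := Over.homMk (IsOpenImmersion.lift VO.ι y.left hrange) (by
      show IsOpenImmersion.lift VO.ι y.left hrange ≫ VO.ι ≫ V.hom = ξ ≫ O.ι
      rw [IsOpenImmersion.lift_fac_assoc]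
      exact Over.w y)
    refine (germM_eq_zero_iff _ _ _ _).2 ⟨V₁, ι₁, y₁, ?_, hzero⟩
    exact Over.OverMorphism.ext (IsOpenImmersion.lift_fac _ _ _)
  refine (NatIso.naturality_1 (stalkPullModIso (Λ := Λ) O.ι ξ) π).symm.trans ?_
  show _ ≫ (EtModW.stalk Λ (ξ ≫ O.ι)).map π ≫ _ = 0
  rw [h0, zero_comp, comp_zero]

theorem isConstructible_pullMod {Y : Scheme.{u}} (f : X ⟶ Y) {F : EtModW.Mod Λ Y}
    (hF : EtModW.IsConstructible Λ F) : EtModW.IsConstructible Λ ((EtModW.pull Λ f).obj F) :=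
  Strata.isConstructible_pull f hF

/-- A chain of subsheaves of a constructible sheaf is stationary on a stratification. -/
theorem exists_strata_stationary [IsNoetherianRing Λ] [IsNoetherian X] {E : EtModW.Mod Λ X}
    (hE : EtModW.IsConstructible Λ E) (K : ℕ → EtModW.Mod Λ X) (j : ∀ k, K k ⟶ E) [∀ k, Mono (j k)]
    (t : ∀ {k l : ℕ}, k ≤ l → (K k ⟶ K l)) (ht : ∀ {k l : ℕ} (h : k ≤ l), t h ≫ j l = j k)
    (C : TopologicalSpace.Closeds X) :
    ∃ (k₀ m : ℕ) (T : Fin m → Scheme.{u}) (g : ∀ i, T i ⟶ X), (C : Set X) ⊆ (⋃ i, Set.range (g i)) ∧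
      ∀ i (k : ℕ) (h : k₀ ≤ k), (EtModW.pull Λ (g i)).map (cokernel.π (t h)) = 0 := by
  classical
  induction C using WellFoundedLT.induction with
  | ind C ih =>
    by_cases hC : (C : Set X) = ∅
    · exact ⟨0, 0, fun i => i.elim0, fun i => i.elim0, by rw [hC]; exact Set.empty_subset _, fun i => i.elim0⟩
    let J := Scheme.IdealSheafData.vanishingIdeal C
    let ι := J.subschemeι
    have hr : Set.range ι = (C : Set X) := by
      rw [Scheme.IdealSheafData.range_subschemeι, Scheme.IdealSheafData.coe_support_vanishingIdeal]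
    haveI : IsLocallyNoetherian J.subscheme := LocallyOfFiniteType.isLocallyNoetherian ι
    haveI : CompactSpace J.subscheme := QuasiCompact.compactSpace_of_compactSpace ι
    haveI : AlgebraicGeometry.IsNoetherian J.subscheme := { }
    haveI : Nonempty J.subscheme := by
      obtain ⟨x, hx⟩ := Set.nonempty_iff_ne_empty.2 hC
      rw [← hr] at hx
      exact ⟨hx.choose⟩
    obtain ⟨V, hV⟩ := exists_irreducible_open J.subscheme
    haveI : IrreducibleSpace V.toScheme := Subtype.irreducibleSpace hV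
    haveI : IsLocallyNoetherian V.toScheme := LocallyOfFiniteType.isLocallyNoetherian V.ι
    haveI : CompactSpace V.toScheme :=
      isCompact_iff_compactSpace.1 (TopologicalSpace.NoetherianSpace.isCompact (V : Set J.subscheme))
    haveI : AlgebraicGeometry.IsNoetherian V.toScheme := { }
    let f : V.toScheme ⟶ X := V.ι ≫ ι
    let P := EtModW.pull Λ f
    obtain ⟨O₀, hO₀, hlc⟩ := exists_open_lc_of_isConstructible f hE
    haveI : ∀ k, Mono (P.map (j k)) := fun k => P.map_mono (j k)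
    obtain ⟨O, k₀, ⟨o, ho⟩, hO⟩ := exists_open_stationary hO₀ hlc (fun k => P.obj (K k)) (fun k => P.map (j k))
      (fun h => P.map (t h)) (fun h => by rw [← P.map_comp, ht h])
    let g₀ : O.toScheme ⟶ X := O.ι ≫ f
    let W : J.subscheme.Opens := V.ι ''ᵁ O
    let C' : TopologicalSpace.Closeds X :=
      ⟨ι '' (W : Set J.subscheme)ᶜ, ι.isClosedEmbedding.isClosedMap _ W.2.isClosed_compl⟩
    have hlt : C' < C := by
      refine lt_of_le_of_ne (fun x hx => ?_) fun h => ?_
      · obtain ⟨y, -, rfl⟩ := hx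
        show ι y ∈ (C : Set X)
        rw [← hr]; exact ⟨y, rfl⟩
      · have hmem : ι (V.ι o) ∈ (C' : Set X) := by rw [h, ← hr]; exact ⟨_, rfl⟩
        obtain ⟨y, hy, hy'⟩ := hmem
        exact hy (ι.isClosedEmbedding.injective hy' ▸ ⟨o, ho, rfl⟩)
    obtain ⟨k₁, m, T, g, hu, hl⟩ := ih C' hlt
    have hzero : ∀ (k : ℕ) (h : k₀ ≤ k), (EtModW.pull Λ g₀).map (cokernel.π (t h)) = 0 := fun k h => by
      refine (NatIso.naturality_2 (LocConstGen24.pullCompA (ModuleCat.{u + 1} Λ) O.ι f)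
        (cokernel.π (t h))).symm.trans ?_
      have e : (EtModW.pull Λ O.ι).map (P.map (cokernel.π (t h))) = 0 := by
        rw [← π_comp_cokernelComparison (t h) P, Functor.map_comp, hO k h, zero_comp]
      show _ ≫ (EtModW.pull Λ O.ι).map (P.map (cokernel.π (t h))) ≫ _ = 0
      rw [e, zero_comp, comp_zero]
    have up : ∀ {T' : Scheme.{u}} (q : T' ⟶ X) {a b k : ℕ} (hab : a ≤ b) (hbk : b ≤ k),
        (EtModW.pull Λ q).map (cokernel.π (t (hab.trans hbk))) = 0 →
          (EtModW.pull Λ q).map (cokernel.π (t hbk)) = 0 := fun {_} q {a b k} hab hbk h0 => by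
      have hfac : t (hab.trans hbk) ≫ cokernel.π (t hbk) = 0 := by
        have e : t (hab.trans hbk) = t hab ≫ t hbk := by
          rw [← cancel_mono (j k), Category.assoc, ht, ht, ht]
        rw [e, Category.assoc, cokernel.condition, comp_zero]
      rw [← cokernel.π_desc (t (hab.trans hbk)) (cokernel.π (t hbk)) hfac, Functor.map_comp, h0, zero_comp]
    refine ⟨max k₀ k₁, m + 1, Fin.cons O.toScheme T, Fin.cases g₀ g, fun x hx => ?_,
      Fin.cases (fun k h => up g₀ (le_max_left _ _) h (hzero k _)) fun i k h =>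
        up (g i) (le_max_right _ _) h (hl i k _)⟩
    rw [Set.mem_iUnion]
    rw [← hr] at hx
    obtain ⟨y, rfl⟩ := hx
    by_cases hy : y ∈ (W : Set J.subscheme)
    · obtain ⟨v, hv, rfl⟩ := hy
      exact ⟨0, ⟨v, hv⟩, rfl⟩
    · obtain ⟨i, hi⟩ := Set.mem_iUnion.1 (hu (show ι y ∈ (C' : Set X) from ⟨y, hy, rfl⟩))
      exact ⟨i.succ, hi⟩

/-- Constructible sheaves are Noetherian objects. -/
theorem isNoetherianObject_of_isConstructible [IsNoetherianRing Λ] [IsNoetherian X] {E : EtModW.Mod Λ X}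
    (hE : EtModW.IsConstructible Λ E) : IsNoetherianObject E := by
  rw [isNoetherianObject_iff_monotone_chain_condition]
  intro f
  obtain ⟨k₀, m, T, g, hu, hl⟩ := exists_strata_stationary hE (fun k => (f k : EtModW.Mod Λ X))
    (fun k => (f k).arrow) (fun {k l} h => Subobject.ofLE _ _ (f.monotone h))
    (fun {k l} h => Subobject.ofLE_arrow _) ⊤
  refine ⟨k₀, fun k hk => le_antisymm (f.monotone hk) ?_⟩
  have h0 : cokernel.π (Subobject.ofLE (f k₀) (f k) (f.monotone hk)) = 0 :=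
    hom_eq_zero_of_pull g (fun y => by
      obtain ⟨i, t, ht⟩ := Set.mem_iUnion.1 (hu (show y ∈ ((⊤ : TopologicalSpace.Closeds X) : Set X) from trivial))
      exact ⟨i, t, ht⟩) _ fun i => hl i k hk
  haveI : Epi (Subobject.ofLE (f k₀) (f k) (f.monotone hk)) := Preadditive.epi_of_cokernel_zero h0
  haveI := isIso_of_mono_of_epi (Subobject.ofLE (f k₀) (f k) (f.monotone hk))
  exact Subobject.le_of_comm (inv (Subobject.ofLE (f k₀) (f k) (f.monotone hk))) (by
    rw [IsIso.inv_comp_eq, Subobject.ofLE_arrow])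

end Groth.Agent.EtModEps19
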