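import Groth.Agent.Lib.EtModEps19.ARX
import Groth.Agent.Lib.EtModEps19.ConstrM
import Groth.Agent.Lib.EtMod3.PullExact
import Groth.Agent.S3163
import Mathlib.CategoryTheory.Limits.FunctorCategory.EpiMono

/-! Systems of constructible sheaves of modules adic up to translation. -/

universe u

open CategoryTheory Limits AlgebraicGeometry Opposite

namespace Groth.Agent.EtModEps19

set_option backward.isDefEq.respectTransparency false
set_option backward.isDefEq.respectTransparency.types false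
set_option linter.style.haveILetI false
set_option linter.unusedSectionVars false
set_option maxHeartbeats 800000

variable {Λ : Type (u + 1)} [CommRing Λ] [IsNoetherianRing Λ] {X : Scheme.{u}} {I : Ideal Λ}

/-- Adic up to translation, with constructible model. -/
abbrev ARC (I : Ideal Λ) (F : ARSys.PS (EtModW.Mod Λ X)) : Prop :=
  ARSys.TermKilled I F ∧ ∃ (Y : ARSys.PS (EtModW.Mod Λ X)) (v : Y ⟶ F),
    ARSys.IsAdic I Y ∧ (∀ n : ℕ, EtModW.IsConstructible Λ (Y.obj (op n))) ∧ ARSys.IsARIso v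

theorem isARAdic_of_ARC {F : ARSys.PS (EtModW.Mod Λ X)} (h : ARC I F) : ARSys.IsARAdic I F :=
  ⟨h.1, h.2.choose, h.2.choose_spec.choose, h.2.choose_spec.choose_spec.1, h.2.choose_spec.choose_spec.2.2⟩

theorem ARC_of_isARAdic {F : ARSys.PS (EtModW.Mod Λ X)} (hc : ∀ n : ℕ, EtModW.IsConstructible Λ (F.obj (op n)))
    (h : ARSys.IsARAdic I F) : ARC I F := by
  obtain ⟨hk, Y, v, hY, hv⟩ := h
  exact ⟨hk, Y, v, hY, fun n => ARX.prop_of_arIso (constrP Λ X) (IsNoetherian.noetherian I) hY hv hc n, hv⟩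

theorem ARC_pull {T : Scheme.{u}} (f : T ⟶ X) {F : ARSys.PS (EtModW.Mod Λ X)} (h : ARC I F) :
    ARC I (F ⋙ EtModW.pull Λ f) :=
  ARX.isARAdic_map (EtModW.pull Λ f) (IsNoetherian.noetherian I) _ _
    (fun _ hE => isConstructible_pullMod f hE) h

theorem stalk_ARC {Ω : Type u} [Field Ω] [IsSepClosed Ω] (ξ : Spec (CommRingCat.of Ω) ⟶ X)
    {F : ARSys.PS (EtModW.Mod Λ X)} (h : ARC I F) :
    ARSys.TermKilled I (F ⋙ EtModW.stalk Λ ξ) ∧ ∃ (Y : ARSys.PS (ModuleCat.{u + 1} Λ))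
      (v : Y ⟶ F ⋙ EtModW.stalk Λ ξ), ARSys.IsAdic I Y ∧ (∀ n : ℕ, Module.Finite Λ (Y.obj (op n))) ∧
        ARSys.IsARIso v :=
  ARX.isARAdic_map (EtModW.stalk Λ ξ) (IsNoetherian.noetherian I) _
    (fun M : ModuleCat.{u + 1} Λ => Module.Finite Λ M) (fun _ hE => finite_stalk ξ hE) h

/-- Locality for a jointly surjective finite family. -/
theorem ARC_of_cover {ι : Type} [Fintype ι] {T : ι → Scheme.{u}} (g : ∀ i, T i ⟶ X)
    (hsurj : ∀ y : X, ∃ (i : ι) (t : T i), g i t = y) {F : ARSys.PS (EtModW.Mod Λ X)}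
    (hc : ∀ n : ℕ, EtModW.IsConstructible Λ (F.obj (op n))) (hk : ARSys.TermKilled I F)
    (h : ∀ i, ARC I (F ⋙ EtModW.pull Λ (g i))) : ARC I F :=
  ARC_of_isARAdic hc (ARX.isARAdic_of_local (fun i => EtModW.pull Λ (g i))
    (fun φ hφ => hom_eq_zero_of_pull g hsurj φ hφ) (IsNoetherian.noetherian I) hk fun i => isARAdic_of_ARC (h i))

theorem kernel_cokernel_ARC [IsNoetherian X] {F G : ARSys.PS (EtModW.Mod Λ X)} (hF : ARSys.IsAdic I F)
    (hG : ARSys.IsAdic I G) (hFc : ∀ n : ℕ, EtModW.IsConstructible Λ (F.obj (op n)))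
    (hGc : ∀ n : ℕ, EtModW.IsConstructible Λ (G.obj (op n))) (w : F ⟶ G) :
    ARC I (kernel w) ∧ ARC I (cokernel w) := by
  have ar : ∀ {A : ARSys.PS (EtModW.Mod Λ X)}, ARSys.IsAdic I A →
      (∀ n : ℕ, EtModW.IsConstructible Λ (A.obj (op n))) → ARSys.IsARAdicNoeth I A := fun {A} hA hAc =>
    ⟨⟨hA.1, A, 𝟙 A, hA, (Groth.Agent.AR.isARIso_iff (𝟙 A)).2 (Groth.Agent.AR.hasPInv_iso (𝟙 A))⟩,
      fun n => isNoetherianObject_of_isConstructible (hAc n)⟩
  obtain ⟨hk, hco⟩ := Groth.Agent.S3163.result I w (ar hF hFc) (ar hG hGc)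
  refine ⟨ARC_of_isARAdic (fun n => ?_) hk.1, ARC_of_isARAdic (fun n => ?_) hco.1⟩
  · let E := (evaluation ℕᵒᵖ (EtModW.Mod Λ X)).obj (op n)
    refine isConstructible_of_iso (PreservesKernel.iso E w).symm ?_
    exact (constrP Λ X).prop_of_isLimit_kernelFork (k := KernelFork.ofι _ (kernel.condition (E.map w)))
      (kernelIsKernel _) (hFc n) (hGc n)
  · let E := (evaluation ℕᵒᵖ (EtModW.Mod Λ X)).obj (op n)
    refine isConstructible_of_iso (PreservesCokernel.iso E w).symm ?_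
    exact (constrP Λ X).prop_of_isColimit_cokernelCofork (k := CokernelCofork.ofπ _ (cokernel.condition (E.map w)))
      (cokernelIsCokernel _) (hFc n) (hGc n)

end Groth.Agent.EtModEps19
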