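import Groth.Agent.Lib.ARSys.Strict
import Groth.Agent.Lib.ARSys.QShift
import Groth.Agent.Lib.ARSys.Noeth
import Groth.Agent.S3151
import Groth.Prelude.Def_WeakSerre
import Mathlib.CategoryTheory.Linear.LinearFunctor
import Mathlib.CategoryTheory.Limits.Preserves.Shapes.Kernels
import Mathlib.Data.Fintype.Lattice

/-! Systems adic up to translation: exact functors, descent, and membership of the terms. -/

set_option autoImplicit false

universe w v u v' u'

open CategoryTheory CategoryTheory.Limits Opposite ZeroObject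

set_option linter.style.haveILetI false

namespace Groth.Agent.EtModEps19.ARX

open ARSys Groth.Agent.AR

variable {C : Type u} [Category.{v} C] [Abelian C] {D : Type u'} [Category.{v'} D] [Abelian D]

/-- A translation inverse, mapped. -/
theorem isARIso_map (E : C ⥤ D) {X Y : PS C} {v : Y ⟶ X} (hv : IsARIso v) :
    IsARIso (Functor.whiskerRight v E) := by
  obtain ⟨r, ⟨p⟩⟩ := (isARIso_iff v).1 hv
  refine isARIso_of_pinv (r := r)
    { w := fun n m h => E.map (p.w n m h), nat := ?_, w_u := ?_, u_w := ?_ }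
  · intro n n' m m' h h' hn hm
    show E.map _ ≫ E.map _ = E.map _ ≫ E.map _
    rw [← E.map_comp, ← E.map_comp, p.nat h h' hn hm]
  · intro n m h
    show E.map _ ≫ E.map _ = E.map _
    rw [← E.map_comp, p.w_u h]
  · intro n m h
    show E.map _ ≫ E.map _ = E.map _
    rw [← E.map_comp, p.u_w h]

theorem isARIso_of_comp {X Y Z : PS C} {g : Z ⟶ Y} {ι : Y ⟶ X} [Mono ι] (h : IsARIso (g ≫ ι)) :
    IsARIso g := by
  obtain ⟨r, ⟨p⟩⟩ := (isARIso_iff _).1 h
  refine isARIso_of_pinv (r := r)
    { w := fun n m h => ι.app (op m) ≫ p.w n m h, nat := ?_, w_u := ?_, u_w := ?_ }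
  · intro n n' m m' h h' hn hm
    rw [← Category.assoc, tr_nat, Category.assoc, p.nat h h' hn hm, Category.assoc]
  · intro n m h
    haveI := mono_app ι n
    rw [← cancel_mono (ι.app (op n)), Category.assoc, Category.assoc, tr_nat]
    exact congrArg (ι.app (op m) ≫ ·) (p.w_u h)
  · intro n m h
    rw [← Category.assoc]
    exact p.u_w h

theorem isARIso_of_comp_left {X Y Z : PS C} {a : Z ⟶ Y} {b : Y ⟶ X} (ha : IsARIso a)
    (h : IsARIso (a ≫ b)) : IsARIso b := by
  obtain ⟨r, ⟨p⟩⟩ := (isARIso_iff a).1 ha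
  obtain ⟨s, ⟨q⟩⟩ := (isARIso_iff _).1 h
  refine isARIso_of_pinv (r := r + s)
    { w := fun n m hm => q.w n m (by omega) ≫ a.app (op n), nat := ?_, w_u := ?_, u_w := ?_ }
  · intro n n' m m' hm hm' hn hmm
    rw [← Category.assoc, q.nat (by omega) (by omega) hn hmm, Category.assoc, tr_nat, Category.assoc]
  · intro n m hm
    rw [Category.assoc]
    exact q.w_u (by omega)
  · intro n m hm
    have hs : n + s ≤ m := by omega
    -- push `b` back through the inverse of `a`
    have e : tr Y (show n + s ≤ m from hs) = p.w (n + s) m (by omega) ≫ a.app (op (n + s)) :=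
      (p.w_u (n := n + s) (by omega)).symm
    have e2 : q.w n m hs = tr X hs ≫ q.w n (n + s) le_rfl := by
      rw [q.nat le_rfl hs le_rfl hs, tr_rfl, Category.comp_id]
    rw [e2, Category.assoc, ← Category.assoc (b.app (op m)), ← tr_nat, e]
    simp only [Category.assoc]
    have e3 := q.u_w (n := n) (m := n + s) le_rfl
    rw [NatTrans.comp_app, Category.assoc] at e3
    rw [reassoc_of% e3, tr_nat, reassoc_of% (p.w_u (n := n + s) (m := m) (by omega)), tr_tr]

theorem image_le_of_comp_cokernel {A A' B : C} (a : A ⟶ B) (b : A' ⟶ B) (h : a ≫ cokernel.π b = 0) :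
    imageSubobject a ≤ imageSubobject b := by
  have e : imageSubobject b = kernelSubobject (cokernel.π b) :=
    (ShortComplex.mk b (cokernel.π b) (cokernel.condition b)).exact_iff_image_eq_kernel.1
      (ShortComplex.exact_cokernel b)
  rw [e]
  exact image_le_kernel a _ h

section Linear

variable {A : Type w} [CommRing A] [Linear A C] [Linear A D] {J : Ideal A}

theorem homKilled_map (E : C ⥤ D) [E.Additive] [E.Linear A] {I : Ideal A} {X Y : C} {φ : X ⟶ Y}
    (h : HomKilledBy I φ) : HomKilledBy I (E.map φ) := fun a ha => by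
  rw [← Functor.map_smul, h a ha, Functor.map_zero]

theorem killed_map (E : C ⥤ D) [E.Additive] [E.Linear A] {I : Ideal A} {X : C} (h : KilledBy I X) :
    KilledBy I (E.obj X) := fun a ha => by
  rw [← CategoryTheory.Functor.map_id, ← Functor.map_smul, h a ha, Functor.map_zero]

/-- Multiplication by finitely many scalars as one morphism, compatibly with a functor. -/
theorem exists_mulMap (P : ObjectProperty C) [P.ContainsZero] (hbi : ∀ T T' : C, P T → P T' → P (T ⊞ T'))
    [P.IsClosedUnderIsomorphisms] (E : C ⥤ D) [E.Additive] [E.Linear A] (B : C) (hB : P B) (s : Finset A) :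
    ∃ (T : C) (f : T ⟶ B), P T ∧ (∀ (Y : C) (φ : B ⟶ Y), f ≫ φ = 0 ↔ ∀ a ∈ s, a • φ = 0) ∧
      ∀ (Y : D) (φ : E.obj B ⟶ Y), E.map f ≫ φ = 0 ↔ ∀ a ∈ s, a • φ = 0 := by
  classical
  induction s using Finset.induction_on with
  | empty =>
    obtain ⟨Z, hZ, hPZ⟩ := P.exists_prop_of_containsZero
    exact ⟨Z, 0, hPZ, fun Y φ => by simp, fun Y φ => by simp⟩
  | insert a s _ ih =>
    obtain ⟨T, f, hT, hf, hf'⟩ := ih
    refine ⟨T ⊞ B, biprod.desc f (a • 𝟙 B), hbi T B hT hB, fun Y φ => ?_, fun Y φ => ?_⟩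
    · rw [Finset.forall_mem_insert, ← hf]
      constructor
      · intro h
        exact ⟨by simpa using biprod.inr ≫= h, by simpa using biprod.inl ≫= h⟩
      · rintro ⟨h, h'⟩
        exact biprod.hom_ext' _ _ (by simpa using h') (by simpa using h)
    · rw [Finset.forall_mem_insert, ← hf']
      have h1 : E.map (biprod.inl : T ⟶ T ⊞ B) ≫ E.map (biprod.desc f (a • 𝟙 B)) = E.map f := by
        rw [← E.map_comp, biprod.inl_desc]
      have h2 : E.map (biprod.inr : B ⟶ T ⊞ B) ≫ E.map (biprod.desc f (a • 𝟙 B)) = a • 𝟙 (E.obj B) := by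
        rw [← E.map_comp, biprod.inr_desc, Functor.map_smul, CategoryTheory.Functor.map_id]
      constructor
      · intro h
        refine ⟨?_, ?_⟩
        · have := E.map (biprod.inr : B ⟶ T ⊞ B) ≫= h
          rw [← Category.assoc, h2, comp_zero, Linear.smul_comp, Category.id_comp] at this
          exact this
        · have := E.map (biprod.inl : T ⟶ T ⊞ B) ≫= h
          rw [← Category.assoc, h1, comp_zero] at this
          exact this
      · rintro ⟨h, h'⟩
        have ht : 𝟙 (E.obj (T ⊞ B)) = E.map biprod.fst ≫ E.map biprod.inl + E.map biprod.snd ≫ E.map biprod.inr := by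
          rw [← E.map_comp, ← E.map_comp, ← E.map_add, biprod.total, E.map_id]
        rw [← Category.id_comp (E.map _ ≫ φ), ht, Preadditive.add_comp, Category.assoc, Category.assoc,
          reassoc_of% h1, reassoc_of% h2, h', Linear.smul_comp, Category.id_comp, h, comp_zero, comp_zero,
          add_zero]

/-- A right exact linear functor preserves quotients modulo a finitely generated ideal. -/
theorem isQuot_map (E : C ⥤ D) [E.Additive] [E.Linear A] [PreservesFiniteColimits E] {I : Ideal A}
    (hI : I.FG) {X Q : C} {p : X ⟶ Q} (hp : IsQuot I p) : IsQuot I (E.map p) := by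
  obtain ⟨s, hs⟩ := hI
  haveI : ObjectProperty.ContainsZero (fun _ : C => True) := ⟨0, isZero_zero C, trivial⟩
  haveI : ObjectProperty.IsClosedUnderIsomorphisms (fun _ : C => True) := ⟨fun _ _ => trivial⟩
  obtain ⟨T, f, -, hf, hf'⟩ := exists_mulMap (fun _ : C => True) (fun _ _ _ _ => trivial) E X trivial s
  have hq := isQuot_of_cokernel (I := I) (s : Set A) hs f fun Y φ => by simpa using hf Y φ
  let a := quotDesc hp (cokernel.π f) (smul_eq_zero_of_killed_target hq.1 _)
  let b := quotDesc hq p (smul_eq_zero_of_killed_target hp.1 _)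
  let e : cokernel f ≅ Q :=
    { hom := b
      inv := a
      hom_inv_id := by
        rw [← cancel_epi (cokernel.π f), ← Category.assoc, quotDesc_fac hq, quotDesc_fac hp, Category.comp_id]
      inv_hom_id := by
        haveI := isQuot_epi hp
        rw [← cancel_epi p, ← Category.assoc, quotDesc_fac hp, quotDesc_fac hq, Category.comp_id] }
  have hq' := isQuot_of_cokernel (I := I) (s : Set A) hs (E.map f) fun Y φ => by simpa using hf' Y φ
  have h := isQuot_comp_iso hq' ((PreservesCokernel.iso E f).symm ≪≫ E.mapIso e)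
  have e1 : cokernel.π (E.map f) ≫ ((PreservesCokernel.iso E f).symm ≪≫ E.mapIso e).hom = E.map p := by
    simp only [Iso.trans_hom, Iso.symm_hom, PreservesCokernel.iso_inv, π_comp_cokernelComparison_assoc,
      Functor.mapIso_hom, ← E.map_comp]
    exact congrArg E.map (quotDesc_fac hq p (smul_eq_zero_of_killed_target hp.1 _))
  rwa [e1] at h

theorem isAdic_map (E : C ⥤ D) [E.Additive] [E.Linear A] [PreservesFiniteColimits E] (hJ : J.FG) {X : PS C}
    (hX : IsAdic J X) : IsAdic J (X ⋙ E) :=
  ⟨fun n => killed_map E (hX.1 n), fun n m h => isQuot_map E (Ideal.FG.pow hJ) (hX.2 n m h)⟩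

/-- The shape of the statements about systems with terms in `P`. -/
theorem isARAdic_map (E : C ⥤ D) [E.Additive] [E.Linear A] [PreservesFiniteColimits E] (hJ : J.FG)
    (P : C → Prop) (P' : D → Prop) (hP : ∀ X, P X → P' (E.obj X)) {X : PS C}
    (h : TermKilled J X ∧ ∃ (Y : PS C) (v : Y ⟶ X), IsAdic J Y ∧ (∀ n : ℕ, P (Y.obj (op n))) ∧ IsARIso v) :
    TermKilled J (X ⋙ E) ∧ ∃ (Y : PS D) (v : Y ⟶ X ⋙ E), IsAdic J Y ∧ (∀ n : ℕ, P' (Y.obj (op n))) ∧
      IsARIso v := by
  obtain ⟨hk, Y, v, hY, hYP, hv⟩ := h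
  exact ⟨fun n => killed_map E (hk n), Y ⋙ E, Functor.whiskerRight v E, isAdic_map E hJ hY,
    fun n => hP _ (hYP n), isARIso_map E hv⟩

/-- The terms of an adic model of a system with terms in a weak Serre class. -/
theorem prop_of_arIso (P : ObjectProperty C) [WSerre.IsWeakSerre P] (hJ : J.FG) {X Y : PS C} {v : Y ⟶ X}
    (hY : IsAdic J Y) (hv : IsARIso v) (hX : ∀ n : ℕ, P (X.obj (op n))) (n : ℕ) : P (Y.obj (op n)) := by
  obtain ⟨r, ⟨p⟩⟩ := (isARIso_iff v).1 hv
  let N := n + r
  have hw : Epi (p.w N (N + r) le_rfl) := by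
    haveI := isAdic_epi hY (Nat.le_add_right N r)
    exact epi_of_epi_fac (p.u_w (n := N) le_rfl)
  let B := Abelian.image (tr X (Nat.le_add_right N r))
  let ι : B ⟶ X.obj (op N) := Abelian.image.ι _
  let π : X.obj (op (N + r)) ⟶ B := Abelian.factorThruImage _
  have hB : P B := by
    refine P.prop_of_isLimit_kernelFork (k := KernelFork.ofι _ (kernel.condition (cokernel.π (tr X (Nat.le_add_right N r))))) (kernelIsKernel _) (hX N) ?_
    exact P.prop_of_isColimit_cokernelCofork (k := CokernelCofork.ofπ _ (cokernel.condition (tr X (Nat.le_add_right N r)))) (cokernelIsCokernel _) (hX _) (hX _)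
  have hfac : v.app (op N) ≫ cokernel.π (tr X (Nat.le_add_right N r)) = 0 := by
    haveI := hw
    rw [← cancel_epi (p.w N (N + r) le_rfl), comp_zero, ← Category.assoc, p.w_u, cokernel.condition]
  let e : Y.obj (op N) ⟶ B := kernel.lift _ (v.app (op N)) hfac
  have he : e ≫ ι = v.app (op N) := kernel.lift_ι _ _ _
  have hwe : p.w N (N + r) le_rfl ≫ e = π := by
    rw [← cancel_mono ι, Category.assoc, he, p.w_u]
    exact (Abelian.image.fac _).symm
  haveI : Epi e := epi_of_epi_fac hwe
  let q : B ⟶ Y.obj (op n) := ι ≫ p.w n N le_rfl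
  have heq : e ≫ q = tr Y (Nat.le_add_right n r) := by
    rw [← Category.assoc, he]
    exact p.u_w le_rfl
  haveI := isAdic_epi hY (Nat.le_add_right n r)
  haveI : Epi q := epi_of_epi_fac heq
  have hq : IsQuot (J ^ (n + 1)) q := by
    refine isQuot_of_epi (hY.1 n) fun Z φ hφ => ?_
    refine ⟨quotDesc (hY.2 n N (Nat.le_add_right n r)) (e ≫ φ) (homKilled_comp_left e hφ), ?_⟩
    rw [← cancel_epi e, ← Category.assoc, heq]
    exact quotDesc_fac _ _ _
  obtain ⟨s, hs⟩ := Ideal.FG.pow (n := n + 1) hJ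
  obtain ⟨T, f, hT, hf, -⟩ := exists_mulMap P (fun _ _ h h' => P.prop_biprod h h') (𝟭 C) B hB s
  have hc := isQuot_of_cokernel (I := J ^ (n + 1)) (s : Set A) hs f fun Z φ => by simpa using hf Z φ
  haveI := isQuot_epi hc
  refine P.prop_of_iso ?_ (P.prop_of_isColimit_cokernelCofork (k := CokernelCofork.ofπ _ (cokernel.condition f)) (cokernelIsCokernel f) hT hB)
  exact
    { hom := quotDesc hc q (smul_eq_zero_of_killed_target hq.1 _)
      inv := quotDesc hq (cokernel.π f) (smul_eq_zero_of_killed_target hc.1 _)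
      hom_inv_id := by
        rw [← cancel_epi (cokernel.π f), ← Category.assoc, quotDesc_fac hc, quotDesc_fac hq]
        exact (Category.comp_id _).symm
      inv_hom_id := by
        rw [← cancel_epi q, ← Category.assoc, quotDesc_fac hq, quotDesc_fac hc, Category.comp_id] }

section Local

variable {ι : Type*} [Fintype ι] {Dl : ι → Type u'} [∀ i, Category.{v'} (Dl i)] [∀ i, Abelian (Dl i)]
  [∀ i, Linear A (Dl i)] (E : ∀ i, C ⥤ Dl i) [∀ i, (E i).Additive] [∀ i, (E i).Linear A]
  [∀ i, PreservesFiniteLimits (E i)] [∀ i, PreservesFiniteColimits (E i)]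
  (hE : ∀ {X Y : C} (φ : X ⟶ Y), (∀ i, (E i).map φ = 0) → φ = 0)

include hE in
/-- Being adic up to translation is local for a finite conservative family. -/
theorem isARAdic_of_local (hJ : J.FG) {X : PS C} (hk : TermKilled J X)
    (h : ∀ i, IsARAdic J (X ⋙ E i)) : IsARAdic J X := by
  classical
  have hml : ∀ i, IsMLAR (X ⋙ E i) := fun i => by
    obtain ⟨-, Y, v, hY, hv⟩ := h i
    exact (Groth.Agent.S3151.result _).2 ⟨Y, v, isAdic_isStrict hY, hv⟩
  choose r hr using hml
  have hX : IsMLAR X := by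
    refine ⟨Finset.univ.sup r, fun s hs n => le_antisymm (image_shiftMap_anti X hs) ?_⟩
    refine image_le_of_comp_cokernel _ _ (hE _ fun i => ?_)
    rw [Functor.map_comp]
    have hi : r i ≤ Finset.univ.sup r := Finset.le_sup (Finset.mem_univ i)
    have heq := (hr i s (hi.trans hs) n).trans (hr i _ hi n).symm
    obtain ⟨T, π, hπ, z, hz⟩ := (image_le_iff ((E i).map (shiftMap X (Finset.univ.sup r) n))
      ((E i).map (shiftMap X s n))).1 heq.ge
    haveI := hπ
    rw [← cancel_epi π, comp_zero, reassoc_of% hz, ← (E i).map_comp, cokernel.condition,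
      Functor.map_zero, comp_zero]
  obtain ⟨-, X', ι', hι', hX', hιAR, -, -⟩ := exists_strict_sub hX
  have hk' : TermKilled J X' := termKilled_of_mono ι' hk
  have hX'i : ∀ i, ∃ r : ℕ, ∀ (n : ℕ) (Z : C) (φ : X'.obj (op n) ⟶ Z), HomKilledBy (J ^ (n - r)) φ →
      (E i).map ((Fker X' n).arrow ≫ φ) = 0 := by
    intro i
    obtain ⟨-, Y, v, hY, hv⟩ := h i
    have hι'' := isARIso_map (E i) hιAR
    have hki : TermKilled J (X' ⋙ E i) := fun n => killed_map (E i) (hk' n)
    obtain ⟨g, hg, -⟩ := existsUnique_lift hY hι'' hki v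
    haveI : ∀ a, Mono ((Functor.whiskerRight ι' (E i)).app a) := fun ⟨a⟩ => by
      haveI := mono_app ι' a
      exact inferInstanceAs (Mono ((E i).map (ι'.app (op a))))
    haveI : Mono (Functor.whiskerRight ι' (E i)) := NatTrans.mono_of_mono_app _
    have hAR : IsARIso g := isARIso_of_comp (ι := Functor.whiskerRight ι' (E i)) (hg.symm ▸ hv)
    obtain ⟨r, -, hr⟩ := fker_le_of_isARAdic (J := J) (X := X' ⋙ E i) (fun n m h => by
      haveI := hX' n m h
      exact inferInstanceAs (Epi ((E i).map (tr X' h)))) ⟨hki, Y, g, hY, hAR⟩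
    refine ⟨r, fun n Z φ hφ => ?_⟩
    have h0 := hr n _ _ (homKilled_map (E i) hφ)
    cases n with
    | zero =>
      have h1 : φ = 0 := by
        have := hφ 1 (by simp)
        rwa [one_smul] at this
      rw [h1, comp_zero, Functor.map_zero]
    | succ k =>
      let l : (E i).obj (kernelSubobject (tr X' (Nat.le_succ k)) : C) ⟶
          (kernelSubobject ((E i).map (tr X' (Nat.le_succ k))) : Dl i) :=
        factorThruKernelSubobject _ ((E i).map (kernelSubobject (tr X' (Nat.le_succ k))).arrow)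
          (by rw [← Functor.map_comp, kernelSubobject_arrow_comp, Functor.map_zero])
      show (E i).map ((kernelSubobject (tr X' (Nat.le_succ k))).arrow ≫ φ) = 0
      rw [Functor.map_comp, ← factorThruKernelSubobject_comp_arrow ((E i).map (tr X' (Nat.le_succ k)))
        ((E i).map (kernelSubobject (tr X' (Nat.le_succ k))).arrow)
        (by rw [← Functor.map_comp, kernelSubobject_arrow_comp, Functor.map_zero]), Category.assoc]
      exact (congrArg (_ ≫ ·) h0).trans comp_zero
  choose r' hr' using hX'i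
  have hF : ∀ n, SubLEIdeal (J ^ (n - Finset.univ.sup r')) (Fker X' n) := fun n Z φ hφ =>
    hE _ fun i => hr' i n Z φ (homKilled_mono (Ideal.pow_le_pow_right
      (Nat.sub_le_sub_left (Finset.le_sup (Finset.mem_univ i)) n)) hφ)
  obtain ⟨Y, q, hq, hY⟩ := exists_adic_quot_shift (Or.inl hJ) hX' hF
  obtain ⟨-, Y', u, hY', hu⟩ := isARAdic_of_quot_shift hk' (fun n => q.app (op n)) hq
    (fun h => q.naturality (homOfLE h).op) hY
  exact ⟨hk, Y', u ≫ ι', hY', isARIso_comp hu hιAR⟩

end Local

end Linear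

end Groth.Agent.EtModEps19.ARX
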