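import Groth.Agent.Lib.ARSys.Basic
import Groth.Agent.S13621
import Mathlib.CategoryTheory.Abelian.Refinements
import Mathlib.CategoryTheory.Linear.Basic
import Mathlib.Algebra.Homology.ShortComplex.ShortExact
import Mathlib.RingTheory.Ideal.Operations
import Mathlib.CategoryTheory.Abelian.Exact

/-! Towers of reductions modulo the powers of an element, and extensions. -/

set_option autoImplicit false

universe w v u

open CategoryTheory CategoryTheory.Limits Opposite

namespace Groth.Agent.EtModEps19.Tw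

open ARSys Groth.Agent.AR

set_option linter.style.haveILetI false
set_option linter.unusedSectionVars false

variable {C : Type u} [Category.{v} C] [Abelian C] {A : Type w} [CommRing A] [Linear A C] (a : A)

/-- The reduction modulo `a ^ (n + 1)`. -/
noncomputable abbrev q (E : C) (n : ℕ) : C := cokernel (a ^ (n + 1) • 𝟙 E)

noncomputable abbrev pr (E : C) (n : ℕ) : E ⟶ q a E n := cokernel.π _

theorem smul_pr (E : C) (n k : ℕ) (h : n + 1 ≤ k) {T : C} (y : T ⟶ E) : (a ^ k • y) ≫ pr a E n = 0 := by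
  obtain ⟨d, rfl⟩ := Nat.exists_eq_add_of_le h
  have : a ^ (n + 1 + d) • y = (a ^ d • y) ≫ (a ^ (n + 1) • 𝟙 E) := by
    rw [Linear.comp_smul, Category.comp_id, smul_smul, pow_add]
  rw [this, Category.assoc, cokernel.condition, comp_zero]

noncomputable def trq (E : C) {n m : ℕ} (h : n ≤ m) : q a E m ⟶ q a E n :=
  cokernel.desc _ (pr a E n) (smul_pr a E n (m + 1) (by omega) (𝟙 E))

theorem pr_trq (E : C) {n m : ℕ} (h : n ≤ m) : pr a E m ≫ trq a E h = pr a E n := cokernel.π_desc _ _ _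

/-- The tower of reductions. -/
noncomputable def tw (E : C) : PS C where
  obj k := q a E k.unop
  map f := trq a E (leOfHom f.unop)
  map_id k := by
    rw [← cancel_epi (pr a E k.unop), pr_trq, Category.comp_id]
  map_comp f g := by
    rw [← cancel_epi (pr a E _), pr_trq, ← Category.assoc, pr_trq, pr_trq]

theorem pr_tr (E : C) {n m : ℕ} (h : n ≤ m) : pr a E m ≫ tr (tw a E) h = pr a E n := pr_trq a E h

/-- The projection from the object. -/
noncomputable def twP (E : C) : (Functor.const ℕᵒᵖ).obj E ⟶ tw a E where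
  app k := pr a E k.unop
  naturality i j f := by
    show 𝟙 E ≫ pr a E j.unop = pr a E i.unop ≫ trq a E (leOfHom f.unop)
    rw [Category.id_comp, pr_trq]

theorem isQuot_pr (E : C) (n : ℕ) : IsQuot (Ideal.span {a} ^ (n + 1)) (pr a E n) := by
  have hmem : ∀ b ∈ Ideal.span {a} ^ (n + 1), ∃ c, b = c * a ^ (n + 1) := fun b hb => by
    rw [Ideal.span_singleton_pow, Ideal.mem_span_singleton'] at hb
    obtain ⟨c, hc⟩ := hb
    exact ⟨c, hc.symm⟩
  refine ⟨fun b hb => ?_, fun Y φ hφ => ?_⟩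
  · obtain ⟨c, rfl⟩ := hmem b hb
    rw [mul_smul, ← cancel_epi (pr a E n), comp_zero, Linear.comp_smul, Linear.comp_smul, Category.comp_id]
    have h0 : a ^ (n + 1) • pr a E n = 0 := by
      have := smul_pr a E n (n + 1) le_rfl (𝟙 E)
      rwa [Linear.smul_comp, Category.id_comp] at this
    rw [h0, smul_zero]
  · have h0 : (a ^ (n + 1) • 𝟙 E) ≫ φ = 0 := by
      rw [Linear.smul_comp, Category.id_comp]
      exact hφ _ (Ideal.pow_mem_pow (Ideal.mem_span_singleton_self a) _)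
    exact ⟨cokernel.desc _ φ h0, cokernel.π_desc _ _ _, fun y hy => by
      rw [← cancel_epi (pr a E n), cokernel.π_desc]; exact hy⟩

/-- Functoriality of the tower. -/
noncomputable def twMap {E E' : C} (f : E ⟶ E') : tw a E ⟶ tw a E' where
  app k := cokernel.map _ _ f f (by
    rw [Linear.smul_comp, Category.id_comp, Linear.comp_smul, Category.comp_id])
  naturality i j g := by
    show trq a E (leOfHom g.unop) ≫ _ = _ ≫ trq a E' (leOfHom g.unop)
    refine (cancel_epi (pr a E i.unop)).1 ?_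
    rw [← Category.assoc, pr_trq, ← Category.assoc]
    simp [pr, trq]

theorem pr_twMap {E E' : C} (f : E ⟶ E') (n : ℕ) :
    pr a E n ≫ (twMap a f).app (op n) = f ≫ pr a E' n := cokernel.π_desc _ _ _

theorem twP_nat {E E' : C} (f : E ⟶ E') :
    twP a E ≫ twMap a f = (Functor.const ℕᵒᵖ).map f ≫ twP a E' := by
  ext k
  exact pr_twMap a f k.unop

/-- Any tower of quotients is the tower of reductions. -/
theorem nonempty_iso {E : C} {Q : PS C} (p : (Functor.const ℕᵒᵖ).obj E ⟶ Q)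
    (hp : ∀ n : ℕ, IsQuot (Ideal.span {a} ^ (n + 1)) (p.app (op n))) :
    ∃ e : tw a E ≅ Q, twP a E ≫ e.hom = p := by
  choose u hu hu' using fun n => (isQuot_pr a E n).2 _ (p.app (op n)) fun b hb => by
    rw [← Category.comp_id (p.app (op n)), ← Linear.comp_smul]
    exact (congrArg (p.app (op n) ≫ ·) ((hp n).1 b hb)).trans comp_zero
  choose d hd hd' using fun n => (hp n).2 _ (pr a E n) fun b hb => by
    rw [← Category.comp_id (pr a E n), ← Linear.comp_smul, (isQuot_pr a E n).1 b hb, comp_zero]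
  have hepi : ∀ n, Epi (p.app (op n)) := fun n => ⟨fun {Z} g g' h => by
    obtain ⟨ψ, -, hψ'⟩ := (hp n).2 Z (p.app (op n) ≫ g) fun b hb => by
      rw [← Category.id_comp g, ← Linear.comp_smul, ← Linear.smul_comp, (hp n).1 b hb, zero_comp, comp_zero]
    exact (hψ' g rfl).trans (hψ' g' h.symm).symm⟩
  let e : ∀ k : ℕᵒᵖ, (tw a E).obj k ≅ Q.obj k := fun k =>
    { hom := u k.unop
      inv := d k.unop
      hom_inv_id := by
        show u k.unop ≫ d k.unop = 𝟙 (q a E k.unop)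
        rw [← cancel_epi (pr a E k.unop), ← Category.assoc, hu]
        exact (hd k.unop).trans (Category.comp_id _).symm
      inv_hom_id := by
        haveI := hepi k.unop
        show d k.unop ≫ u k.unop = 𝟙 (Q.obj k)
        rw [← cancel_epi (p.app (op k.unop)), ← Category.assoc, hd]
        exact (hu k.unop).trans (Category.comp_id _).symm }
  refine ⟨NatIso.ofComponents e fun {i j} f => ?_, NatTrans.ext (funext fun k => hu k.unop)⟩
  show trq a E (leOfHom f.unop) ≫ u j.unop = u i.unop ≫ Q.map f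
  rw [← cancel_epi (pr a E i.unop), ← Category.assoc, pr_trq, hu, ← Category.assoc, hu]
  exact (Category.id_comp _).symm.trans (p.naturality f)

section Ext

variable (S : ShortComplex C) (hS : S.ShortExact)

/-- The kernel of the reduced tower map. -/
noncomputable abbrev K : PS C := kernel (twMap a S.g)

theorem twMap_zero : twMap a S.f ≫ twMap a S.g = 0 := by
  ext k
  refine (cancel_epi (pr a S.X₁ k.unop)).1 ?_
  show pr a S.X₁ k.unop ≫ (twMap a S.f).app (op k.unop) ≫ (twMap a S.g).app (op k.unop) = pr a S.X₁ k.unop ≫ 0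
  rw [comp_zero]
  calc pr a S.X₁ k.unop ≫ (twMap a S.f).app (op k.unop) ≫ (twMap a S.g).app (op k.unop)
      = (S.f ≫ pr a S.X₂ k.unop) ≫ (twMap a S.g).app (op k.unop) := by
        rw [← pr_twMap]; exact (Category.assoc _ _ _).symm
    _ = S.f ≫ S.g ≫ pr a S.X₃ k.unop := by rw [← pr_twMap a S.g]; exact Category.assoc _ _ _
    _ = 0 := by rw [← Category.assoc, S.zero, zero_comp]

/-- From the first tower to the kernel. -/
noncomputable def j : tw a S.X₁ ⟶ K a S := kernel.lift _ (twMap a S.f) (twMap_zero a S)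

theorem j_ι (n : ℕ) : (j a S).app (op n) ≫ (kernel.ι (twMap a S.g)).app (op n) = (twMap a S.f).app (op n) :=
  congrArg (fun t : tw a S.X₁ ⟶ tw a S.X₂ => t.app (op n)) (kernel.lift_ι _ _ (twMap_zero a S))

/-- Vanishing of a section of the reduction. -/
theorem exists_of_pr_eq_zero {E : C} {n : ℕ} {T : C} (y : T ⟶ E) (h : y ≫ pr a E n = 0) :
    ∃ (T' : C) (π : T' ⟶ T) (_ : Epi π) (z : T' ⟶ E), π ≫ y = a ^ (n + 1) • z := by
  obtain ⟨T', π, hπ, z, hz⟩ :=
    (ShortComplex.exact_cokernel (a ^ (n + 1) • 𝟙 E)).exact_up_to_refinements y h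
  exact ⟨T', π, hπ, z, hz.trans (by
    show z ≫ (a ^ (n + 1) • 𝟙 E) = _
    rw [Linear.comp_smul, Category.comp_id])⟩

include hS in
theorem epi_j (n : ℕ) : Epi ((j a S).app (op n)) := by
  haveI := hS.mono_f
  haveI := hS.epi_g
  rw [epi_iff_surjective_up_to_refinements]
  intro T y
  let tg : q a S.X₂ n ⟶ q a S.X₃ n := (twMap a S.g).app (op n)
  let x : T ⟶ q a S.X₂ n := y ≫ (kernel.ι (twMap a S.g)).app (op n)
  have hx : x ≫ tg = 0 := by
    have h0 := congrArg (fun t => y ≫ t.app (op n)) (kernel.condition (twMap a S.g))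
    exact (Category.assoc _ _ _).trans (h0.trans comp_zero)
  obtain ⟨T₁, π₁, _, z, hz⟩ := surjective_up_to_refinements_of_epi (pr a S.X₂ n) x
  have hp : pr a S.X₂ n ≫ tg = S.g ≫ pr a S.X₃ n := pr_twMap a S.g n
  have h1 : (z ≫ S.g) ≫ pr a S.X₃ n = 0 := by
    rw [Category.assoc, ← hp, ← Category.assoc, ← hz, Category.assoc, hx, comp_zero]
  obtain ⟨T₂, π₂, _, w, hw⟩ := exists_of_pr_eq_zero a _ h1
  obtain ⟨T₃, π₃, _, w', hw'⟩ := surjective_up_to_refinements_of_epi S.g w
  have h2 : (π₃ ≫ π₂ ≫ z - a ^ (n + 1) • w') ≫ S.g = 0 := by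
    rw [Preadditive.sub_comp, Category.assoc, Category.assoc, hw, Linear.comp_smul, hw', Linear.smul_comp, sub_self]
  obtain ⟨v, hv⟩ : ∃ v, v ≫ S.f = π₃ ≫ π₂ ≫ z - a ^ (n + 1) • w' :=
    ⟨hS.fIsKernel.lift (KernelFork.ofι _ h2), Fork.IsLimit.lift_ι hS.fIsKernel⟩
  refine ⟨T₃, π₃ ≫ π₂ ≫ π₁, inferInstance, v ≫ pr a S.X₁ n, ?_⟩
  refine (cancel_mono ((kernel.ι (twMap a S.g)).app (op n))).1 ?_
  show ((π₃ ≫ π₂ ≫ π₁) ≫ y) ≫ _ = ((v ≫ pr a S.X₁ n) ≫ (j a S).app (op n)) ≫ _
  have e : ((v ≫ pr a S.X₁ n) ≫ (j a S).app (op n)) ≫ (kernel.ι (twMap a S.g)).app (op n) =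
      v ≫ S.f ≫ pr a S.X₂ n := by
    rw [← pr_twMap a S.f n, ← j_ι a S n]
    exact (Category.assoc _ _ _).trans (Category.assoc _ _ _)
  refine Eq.trans ?_ e.symm
  show (((π₃ ≫ π₂ ≫ π₁) ≫ y) ≫ (kernel.ι (twMap a S.g)).app (op n) : T₃ ⟶ q a S.X₂ n) = _
  rw [← Category.assoc v, hv, Preadditive.sub_comp, smul_pr a S.X₂ n (n + 1) le_rfl w', sub_zero]
  calc ((π₃ ≫ π₂ ≫ π₁) ≫ y) ≫ (kernel.ι (twMap a S.g)).app (op n) = π₃ ≫ π₂ ≫ π₁ ≫ x := by
        simp only [Category.assoc]; rfl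
    _ = (π₃ ≫ π₂ ≫ z) ≫ pr a S.X₂ n := by rw [hz]; simp only [Category.assoc]

include hS in
/-- The comparison is an isomorphism up to translation. -/
theorem isARIso_j (N : ℕ) (hN : ∀ (k : ℕ) (T : C) (z : T ⟶ S.X₃), a ^ k • z = 0 → a ^ N • z = 0) :
    IsARIso (j a S) := by
  haveI := hS.mono_f
  haveI := hS.epi_g
  refine ⟨(kernelNull_iff _).2 ⟨N, fun n m h T x hx => ?_⟩, (cokernelNull_iff _).2 ⟨0, fun n m h T y => ?_⟩⟩
  · let x' : T ⟶ q a S.X₁ m := x
    let tf : q a S.X₁ m ⟶ q a S.X₂ m := (twMap a S.f).app (op m)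
    have hx' : x' ≫ tf = 0 := by
      have h0 : x ≫ (j a S).app (op m) ≫ (kernel.ι (twMap a S.g)).app (op m) = 0 := by
        rw [← Category.assoc, hx, zero_comp]
      rw [j_ι] at h0
      exact h0
    obtain ⟨T₁, π₁, _, y, hy⟩ := surjective_up_to_refinements_of_epi (pr a S.X₁ m) x'
    have hp : pr a S.X₁ m ≫ tf = S.f ≫ pr a S.X₂ m := pr_twMap a S.f m
    have h1 : (y ≫ S.f) ≫ pr a S.X₂ m = 0 := by
      rw [Category.assoc, ← hp, ← Category.assoc, ← hy, Category.assoc, hx', comp_zero]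
    obtain ⟨T₂, π₂, _, z, hz⟩ := exists_of_pr_eq_zero a _ h1
    have h2 : (a ^ N • z) ≫ S.g = 0 := by
      rw [Linear.smul_comp]
      refine hN (m + 1) _ _ ?_
      rw [← Linear.smul_comp, ← hz, Category.assoc, Category.assoc, S.zero, comp_zero, comp_zero]
    obtain ⟨w, hw⟩ : ∃ w, w ≫ S.f = a ^ N • z :=
      ⟨hS.fIsKernel.lift (KernelFork.ofι _ h2), Fork.IsLimit.lift_ι hS.fIsKernel⟩
    have h3 : π₂ ≫ y = a ^ (m + 1 - N) • w := by
      rw [← cancel_mono S.f, Category.assoc, hz, Linear.smul_comp, hw, smul_smul, ← pow_add,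
        Nat.sub_add_cancel (by omega)]
    show x' ≫ trq a S.X₁ (Nat.le_of_add_right_le h) = 0
    rw [← cancel_epi π₁, comp_zero, reassoc_of% hy, pr_trq, ← cancel_epi π₂, comp_zero, ← Category.assoc, h3]
    exact smul_pr a S.X₁ n _ (by omega) w
  · haveI := epi_j a S hS n
    obtain ⟨T', π, hπ, x, hx⟩ := surjective_up_to_refinements_of_epi ((j a S).app (op n))
      (y ≫ tr (K a S) (Nat.le_of_add_right_le h))
    exact ⟨T', π, hπ, x, hx⟩

include hS in
/-- The terms of the kernel are cokernels of maps out of the torsion of the quotient. -/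
theorem exists_cokernel_iso (n : ℕ) :
    ∃ (δ : kernel (a ^ (n + 1) • 𝟙 S.X₃) ⟶ q a S.X₁ n), Nonempty (cokernel δ ≅ (K a S).obj (op n)) := by
  haveI := hS.mono_f
  haveI := hS.epi_g
  let c := a ^ (n + 1)
  let k₃ := kernel.ι (c • 𝟙 S.X₃)
  let fst := pullback.fst S.g k₃
  let snd := pullback.snd S.g k₃
  have hk : c • k₃ = 0 := by
    have := kernel.condition (c • 𝟙 S.X₃)
    rwa [Linear.comp_smul, Category.comp_id] at this
  have hz : (c • fst) ≫ S.g = 0 := by
    rw [Linear.smul_comp, pullback.condition, ← Linear.comp_smul, hk, comp_zero]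
  obtain ⟨ψ, hψ⟩ : ∃ ψ, ψ ≫ S.f = c • fst :=
    ⟨hS.fIsKernel.lift (KernelFork.ofι _ hz), Fork.IsLimit.lift_ι hS.fIsKernel⟩
  have hd : kernel.ι snd ≫ ψ ≫ pr a S.X₁ n = 0 := by
    have h0 : (kernel.ι snd ≫ fst) ≫ S.g = 0 := by
      rw [Category.assoc, pullback.condition, ← Category.assoc, kernel.condition, zero_comp]
    obtain ⟨w, hw⟩ : ∃ w, w ≫ S.f = kernel.ι snd ≫ fst :=
      ⟨hS.fIsKernel.lift (KernelFork.ofι _ h0), Fork.IsLimit.lift_ι hS.fIsKernel⟩
    have e : kernel.ι snd ≫ ψ = c • w := by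
      rw [← cancel_mono S.f, Category.assoc, hψ, Linear.comp_smul, Linear.smul_comp, hw]
    rw [← Category.assoc, e]
    exact smul_pr a S.X₁ n _ le_rfl w
  let δ : kernel (c • 𝟙 S.X₃) ⟶ q a S.X₁ n := Abelian.epiDesc snd (ψ ≫ pr a S.X₁ n) hd
  have hδ : snd ≫ δ = ψ ≫ pr a S.X₁ n := Abelian.comp_epiDesc _ _ _
  let jn : q a S.X₁ n ⟶ (K a S).obj (op n) := (j a S).app (op n)
  let ι : (K a S).obj (op n) ⟶ q a S.X₂ n := (kernel.ι (twMap a S.g)).app (op n)
  haveI : Mono ι := inferInstanceAs (Mono ((kernel.ι (twMap a S.g)).app (op n)))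
  have hjι : pr a S.X₁ n ≫ jn ≫ ι = S.f ≫ pr a S.X₂ n :=
    (congrArg (pr a S.X₁ n ≫ ·) (j_ι a S n)).trans (pr_twMap a S.f n)
  have h0 : δ ≫ jn = 0 := by
    rw [← cancel_mono ι, zero_comp, Category.assoc, ← cancel_epi snd, comp_zero, reassoc_of% hδ, hjι,
      reassoc_of% hψ]
    exact smul_pr a S.X₂ n _ le_rfl fst
  have hex : (ShortComplex.mk δ jn h0).Exact := by
    rw [ShortComplex.exact_iff_exact_up_to_refinements]
    intro T x hx
    change T ⟶ q a S.X₁ n at x
    change x ≫ jn = 0 at hx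
    obtain ⟨T₁, π₁, _, y, hy⟩ := surjective_up_to_refinements_of_epi (pr a S.X₁ n) x
    have h1 : (y ≫ S.f) ≫ pr a S.X₂ n = 0 := by
      rw [Category.assoc, ← hjι, ← reassoc_of% hy, reassoc_of% hx, zero_comp, comp_zero]
    obtain ⟨T₂, π₂, _, z, hz'⟩ := exists_of_pr_eq_zero a _ h1
    have hk' : (z ≫ S.g) ≫ (c • 𝟙 S.X₃) = 0 := by
      rw [Linear.comp_smul, Category.comp_id, ← Linear.smul_comp, ← hz', Category.assoc, Category.assoc, S.zero,
        comp_zero, comp_zero]
    let t : T₂ ⟶ pullback S.g k₃ := pullback.lift z (kernel.lift _ _ hk') (kernel.lift_ι _ _ _).symm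
    have ht : t ≫ fst = z := pullback.lift_fst _ _ _
    have e : t ≫ ψ = π₂ ≫ y := by
      rw [← cancel_mono S.f, Category.assoc, hψ, Linear.comp_smul, ht, Category.assoc, hz']
    refine ⟨T₂, π₂ ≫ π₁, inferInstance, t ≫ snd, ?_⟩
    show (π₂ ≫ π₁) ≫ x = (t ≫ snd) ≫ δ
    rw [Category.assoc, Category.assoc, hδ, reassoc_of% e, hy]
  haveI : Epi jn := epi_j a S hS n
  exact ⟨δ, ⟨(cokernelIsCokernel δ).coconePointUniqueUpToIso hex.gIsCokernel⟩⟩

variable [HasLimitsOfShape ℕᵒᵖ C]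

/-- The canonical map to the limit of the tower. -/
noncomputable abbrev toLim (E : C) : E ⟶ limit (tw a E) := limit.lift _ (Cone.mk E (twP a E))

theorem toLim_nat {E E' : C} (f : E ⟶ E') : toLim a E ≫ limMap (twMap a f) = f ≫ toLim a E' := by
  refine limit.hom_ext fun k => ?_
  rw [Category.assoc, limMap_π, limit.lift_π_assoc, Category.assoc, limit.lift_π]
  exact congrArg (fun t : (Functor.const ℕᵒᵖ).obj E ⟶ tw a E' => t.app k) (twP_nat a f)

theorem isIso_toLim_of_iso {E : C} {Q : PS C} (p : (Functor.const ℕᵒᵖ).obj E ⟶ Q) (e : tw a E ≅ Q)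
    (he : twP a E ≫ e.hom = p) [IsIso (limit.lift Q (Cone.mk E p))] : IsIso (toLim a E) := by
  have h : toLim a E = limit.lift Q (Cone.mk E p) ≫ limMap e.inv := by
    refine limit.hom_ext fun k => ?_
    rw [limit.lift_π, Category.assoc, limMap_π, limit.lift_π_assoc]
    show (twP a E).app k = p.app k ≫ e.inv.app k
    rw [← he, NatTrans.comp_app, Category.assoc, ← NatTrans.comp_app, e.hom_inv_id, NatTrans.id_app,
      Category.comp_id]
  haveI : IsIso (limMap e.inv) := inferInstanceAs (IsIso (lim.map e.inv))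
  rw [h]
  infer_instance

include hS in
/-- The middle term of an extension is complete. -/
theorem isIso_toLim_middle (N : ℕ) (hN : ∀ (k : ℕ) (T : C) (z : T ⟶ S.X₃), a ^ k • z = 0 → a ^ N • z = 0)
    [IsIso (toLim a S.X₁)] [IsIso (toLim a S.X₃)] : IsIso (toLim a S.X₂) := by
  haveI := hS.mono_f
  haveI := hS.epi_g
  let R : ShortComplex (PS C) := ShortComplex.mk (kernel.ι (twMap a S.g)) (twMap a S.g) (kernel.condition _)
  let R' := R.map (lim : PS C ⥤ C)
  haveI := Groth.Agent.S13621.result (j a S) (isARIso_j a S hS N hN)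
  haveI : Mono R'.f := inferInstanceAs (Mono (lim.map (kernel.ι (twMap a S.g))))
  have hepi : Epi R'.g := by
    haveI : Epi (toLim a S.X₂ ≫ limMap (twMap a S.g)) := by rw [toLim_nat]; infer_instance
    exact epi_of_epi (toLim a S.X₂) (limMap (twMap a S.g))
  have hR : R'.ShortExact :=
    { exact := ShortComplex.exact_of_f_is_kernel _
        (KernelFork.mapIsLimit _ (kernelIsKernel (twMap a S.g)) (lim : PS C ⥤ C)) }
  let φ : S ⟶ R' :=
    { τ₁ := toLim a S.X₁ ≫ limMap (j a S)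
      τ₂ := toLim a S.X₂
      τ₃ := toLim a S.X₃
      comm₁₂ := by
        show (toLim a S.X₁ ≫ limMap (j a S)) ≫ limMap (kernel.ι (twMap a S.g)) = S.f ≫ toLim a S.X₂
        rw [Category.assoc, ← toLim_nat]
        refine congrArg (toLim a S.X₁ ≫ ·) ?_
        refine ((lim : PS C ⥤ C).map_comp _ _).symm.trans ?_
        exact congrArg (lim : PS C ⥤ C).map (kernel.lift_ι _ _ (twMap_zero a S))
      comm₂₃ := toLim_nat a S.g }
  haveI : IsIso φ.τ₁ := inferInstanceAs (IsIso (toLim a S.X₁ ≫ limMap (j a S)))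
  haveI : IsIso φ.τ₃ := inferInstanceAs (IsIso (toLim a S.X₃))
  exact ShortComplex.isIso₂_of_shortExact_of_isIso₁₃ φ hS hR

end Ext

end Groth.Agent.EtModEps19.Tw
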