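import Groth.Prelude.Def_EtModW
import Groth.Prelude.Def_ARSys
import Mathlib.CategoryTheory.Linear.FunctorCategory
import Mathlib.CategoryTheory.Sites.EpiMono
import Mathlib.RingTheory.Finiteness.Ideal
import Mathlib.Algebra.Homology.ShortComplex.ModuleCat
import Mathlib.CategoryTheory.Limits.Shapes.Biproducts

/-! Sections of quotient maps over weakly contractible objects. -/

universe u

open CategoryTheory Limits AlgebraicGeometry Opposite

namespace Groth.Agent.EtModEps19

set_option backward.isDefEq.respectTransparency false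
set_option backward.isDefEq.respectTransparency.types false
set_option linter.style.haveILetI false
set_option maxHeartbeats 800000

variable {Λ : Type (u + 1)} [CommRing Λ] {X : Scheme.{u}}

theorem wc_surjective {W : X.ProEt} (hW : ProEtS.IsWC W) {F G : EtModW.ModP Λ X} (φ : F ⟶ G) [Epi φ] :
    Function.Surjective (φ.hom.app (op W)) := by
  haveI : Sheaf.IsLocallySurjective φ := (Sheaf.isLocallySurjective_iff_epi' _ φ).2 inferInstance
  let φ' := (sheafCompose (Scheme.ProEt.topology X) (CategoryTheory.forget (ModuleCat.{u + 1} Λ))).map φ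
  haveI : Sheaf.IsLocallySurjective φ' :=
    ⟨fun {U} s ↦ Presheaf.imageSieve_mem (Scheme.ProEt.topology X) φ.hom s⟩
  exact hW _ _ φ' ((Sheaf.isLocallySurjective_iff_epi φ').1 inferInstance)

theorem epi_of_isQuot {C : Type*} [Category C] [Preadditive C] [Linear Λ C] {I : Ideal Λ} {F Q : C}
    {p : F ⟶ Q} (hp : ARSys.IsQuot I p) : Epi p := by
  refine ⟨fun {Y} a b h => ?_⟩
  have hk : ARSys.HomKilledBy I (p ≫ a) := fun r hr => by
    rw [← Linear.comp_smul, ← Category.id_comp a, ← Linear.smul_comp, hp.1 r hr, zero_comp, comp_zero]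
  obtain ⟨ψ, -, huniq⟩ := hp.2 Y (p ≫ a) hk
  exact (huniq a rfl).trans (huniq b h.symm).symm

theorem smul_app {F G : EtModW.ModP Λ X} (r : Λ) (φ : F ⟶ G) (U : X.ProEtᵒᵖ) (x : F.obj.obj U) :
    (r • φ).hom.app U x = r • φ.hom.app U x := rfl

theorem sections_isQuot {I : Ideal Λ} (hI : I.FG) {F Q : EtModW.ModP Λ X} (p : F ⟶ Q)
    (hp : ARSys.IsQuot I p) (U : X.ProEt) (hU : ProEtS.IsWC U) :
    Function.Surjective (p.hom.app (op U)).hom ∧
      LinearMap.ker (p.hom.app (op U)).hom = I • (⊤ : Submodule Λ (F.obj.obj (op U))) := by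
  haveI := epi_of_isQuot hp
  refine ⟨wc_surjective hU p, le_antisymm (fun x hx => ?_) (Submodule.smul_le.2 fun r hr x _ => ?_)⟩
  swap
  · rw [LinearMap.mem_ker, map_smul]
    have := congr($(hp.1 r hr).hom.app (op U) (p.hom.app (op U) x))
    rw [smul_app] at this
    exact this
  haveI : HasFiniteBiproducts (EtModW.ModP Λ X) := HasFiniteBiproducts.of_hasFiniteProducts
  obtain ⟨n, a, ha⟩ := Submodule.fg_iff_exists_fin_generating_family.1 hI
  let μ : (⨁ fun _ : Fin n => F) ⟶ F := biproduct.desc fun j => a j • 𝟙 F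
  have hz : μ ≫ p = 0 := biproduct.hom_ext' _ _ fun j => by
    have hj : a j ∈ I := ha ▸ Submodule.subset_span ⟨j, rfl⟩
    rw [comp_zero, biproduct.ι_desc_assoc, Linear.smul_comp, Category.id_comp, ← Category.comp_id p,
      ← Linear.comp_smul, hp.1 _ hj, comp_zero]
  have hkill : ARSys.HomKilledBy I (cokernel.π μ) := by
    intro r hr
    rw [← ha] at hr
    induction hr using Submodule.span_induction with
    | mem y hy =>
      obtain ⟨j, rfl⟩ := hy
      have h1 := congrArg (biproduct.ι (fun _ : Fin n => F) j ≫ ·) (cokernel.condition μ)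
      simp only [μ, biproduct.ι_desc_assoc, comp_zero, Linear.smul_comp, Category.id_comp] at h1
      exact h1
    | zero => exact zero_smul _ _
    | add y z _ _ hy hz => rw [add_smul, hy, hz, add_zero]
    | smul c y _ hy => rw [smul_eq_mul, mul_smul, hy, smul_zero]
  obtain ⟨ψ, hψ, -⟩ := hp.2 _ _ hkill
  let e : (⨁ fun _ : Fin n => F) ⟶ kernel p := kernel.lift p μ hz
  haveI : Epi e := by
    have hk : kernel.ι p ≫ cokernel.π μ = 0 := by rw [← hψ, kernel.condition_assoc, zero_comp]
    have hexact : (ShortComplex.mk μ p hz).Exact := by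
      let c : CokernelCofork μ := CokernelCofork.ofπ p hz
      have hc : IsColimit c := CokernelCofork.IsColimit.ofπ _ _
        (fun {W} g hg => ψ ≫ cokernel.desc μ g hg)
        (fun {W} g hg => by rw [← Category.assoc, hψ, cokernel.π_desc])
        (fun {W} g hg m hm => by rw [← cancel_epi p, hm, ← Category.assoc, hψ, cokernel.π_desc])
      exact ShortComplex.exact_of_g_is_cokernel _ hc
    exact hexact.epi_kernelLift
  let E : EtModW.ModP Λ X ⥤ ModuleCat.{u + 1} Λ :=
    sheafToPresheaf (Scheme.ProEt.topology X) (ModuleCat.{u + 1} Λ) ⋙ (evaluation _ _).obj (op U)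
  haveI : PreservesFiniteLimits E := comp_preservesFiniteLimits _ _
  haveI : E.Additive := inferInstance
  have hx' : ∃ k, (kernel.ι p).hom.app (op U) k = x := by
    have hS : ((ShortComplex.mk (kernel.ι p) p (kernel.condition p)).map E).Exact :=
      (ShortComplex.exact_kernel p).map_of_mono_of_preservesKernel E inferInstance inferInstance
    exact (ShortComplex.moduleCat_exact_iff _).1 hS x hx
  obtain ⟨k, hk⟩ := hx'
  obtain ⟨z, rfl⟩ := wc_surjective hU e k
  have hx'' : μ.hom.app (op U) z = x := by
    rw [← hk]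
    exact congr($((kernel.lift_ι p μ hz).symm).hom.app (op U) z)
  have htot : z = ∑ j, (biproduct.ι (fun _ : Fin n => F) j).hom.app (op U)
      ((biproduct.π (fun _ : Fin n => F) j).hom.app (op U) z) := by
    have h := congrArg (fun φ => E.map φ) (biproduct.total (f := fun _ : Fin n => F))
    simp only [Functor.map_sum, Functor.map_comp] at h
    have h2 := congr($h z)
    simp at h2
    exact h2.symm
  rw [← hx'', htot, map_sum]
  refine Submodule.sum_mem _ fun j _ => ?_
  have hj : ∀ w, μ.hom.app (op U) ((biproduct.ι (fun _ : Fin n => F) j).hom.app (op U) w) = a j • w := fun w =>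
    congr($(biproduct.ι_desc (fun j => a j • 𝟙 F) j).hom.app (op U) w)
  rw [hj]
  exact Submodule.smul_mem_smul (ha ▸ Submodule.subset_span ⟨j, rfl⟩) Submodule.mem_top

end Groth.Agent.EtModEps19
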