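import Groth.Agent.Lib.EtModEps19.Exact
import Groth.Agent.Lib.EtModEps19.WC
import Groth.Agent.Lib.ProEtWC.Cover
import Mathlib.CategoryTheory.Linear.LinearFunctor

/-! The limit of the inverse image of an adic system. -/

universe u

open CategoryTheory Limits AlgebraicGeometry Opposite

namespace Groth.Agent.EtModEps19

set_option backward.isDefEq.respectTransparency false
set_option backward.isDefEq.respectTransparency.types false
set_option linter.style.haveILetI false
set_option linter.unusedSectionVars false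
set_option maxHeartbeats 800000

section Module

variable {Λ : Type*} [CommRing Λ] {N : Type*} [AddCommGroup N] [Module Λ N]

theorem exists_sum_of_mem_smul {r : ℕ} (a : Fin r → Λ) {J : Ideal Λ} (ha : Ideal.span (Set.range a) = J)
    (S : Submodule Λ N) {x : N} (hx : x ∈ J • S) :
    ∃ y : Fin r → N, (∀ j, y j ∈ S) ∧ ∑ j, a j • y j = x := by
  refine Submodule.smul_induction_on hx (fun c hc n hn => ?_) (fun x y hx hy => ?_)
  · rw [← ha] at hc
    obtain ⟨d, hd⟩ := (Ideal.mem_span_range_iff_exists_fun).1 hc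
    refine ⟨fun j => d j • n, fun j => S.smul_mem _ hn, ?_⟩
    rw [← hd, Finset.sum_smul]
    exact Finset.sum_congr rfl fun j _ => by rw [smul_smul, mul_comm]
  · obtain ⟨f, hf, rfl⟩ := hx
    obtain ⟨g, hg, rfl⟩ := hy
    exact ⟨f + g, fun j => S.add_mem (hf j) (hg j), by simp [smul_add, Finset.sum_add_distrib]⟩

/-- A tower of modules with surjective transition maps and adic kernels. -/
theorem tower_isQuot {I : Ideal Λ} (hI : I.FG) (M : ℕ → Type*) [∀ m, AddCommGroup (M m)]
    [∀ m, Module Λ (M m)] (p : ∀ m, N →ₗ[Λ] M m) (T : ∀ n m, n ≤ m → (M m →ₗ[Λ] M n))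
    (hid : ∀ n (x : M n), T n n le_rfl x = x)
    (hT : ∀ n m l (h : n ≤ m) (h' : m ≤ l) (x : M l), T n m h (T m l h' x) = T n l (h.trans h') x)
    (hp : ∀ n m h x, T n m h (p m x) = p n x)
    (hext : ∀ x y : N, (∀ m, p m x = p m y) → x = y)
    (hglue : ∀ y : ∀ m, M m, (∀ n, T n (n + 1) n.le_succ (y (n + 1)) = y n) → ∃ x, ∀ m, p m x = y m)
    (hsurj : ∀ n m h, Function.Surjective (T n m h))
    (hker : ∀ n m h, LinearMap.ker (T n m h) = I ^ (n + 1) • (⊤ : Submodule Λ (M m))) (n : ℕ) :
    Function.Surjective (p n) ∧ LinearMap.ker (p n) = I ^ (n + 1) • (⊤ : Submodule Λ N) := by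
  have hkill : ∀ m, I ^ (m + 1) • (⊤ : Submodule Λ (M m)) = ⊥ := fun m => by
    rw [← hker m m le_rfl, eq_bot_iff]
    exact fun x hx => (hid m x).symm.trans hx
  refine ⟨fun x => ?_, le_antisymm (fun x hx => ?_) ?_⟩
  · let s : ∀ k : ℕ, M (n + k) := fun k =>
      Nat.rec (motive := fun k => M (n + k)) x (fun k z => (hsurj (n + k) (n + k + 1) (n + k).le_succ z).choose) k
    have hs : ∀ k, T (n + k) (n + (k + 1)) (n + k).le_succ (s (k + 1)) = s k := fun k =>
      (hsurj (n + k) (n + k + 1) (n + k).le_succ (s k)).choose_spec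
    have hs' : ∀ m, T m (n + (m + 1)) (by omega) (s (m + 1)) = T m (n + m) (by omega) (s m) := fun m => by
      rw [← hs m, hT]
    obtain ⟨z, hz⟩ := hglue (fun m => T m (n + m) (by omega) (s m)) (fun m => by
      rw [hT]; exact hs' m)
    refine ⟨z, ?_⟩
    rw [hz]
    have key : ∀ k, T n (n + k) (by omega) (s k) = x := fun k => by
      induction k with
      | zero => exact hid n x
      | succ k ih => rw [← hs k, hT] at ih; exact ih
    exact key n
  · let J := I ^ (n + 1)
    obtain ⟨r, a, ha⟩ := Submodule.fg_iff_exists_fin_generating_family.1 (Ideal.FG.pow (n := n + 1) hI)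
    let P : ∀ k, (Fin r → M (n + k)) → Prop := fun k y => ∑ j, a j • y j = p (n + k) x
    have step : ∀ k (y : Fin r → M (n + k)), P k y → ∃ y' : Fin r → M (n + (k + 1)), P (k + 1) y' ∧
        ∀ j, T (n + k) (n + (k + 1)) (n + k).le_succ (y' j) - y j ∈
          I ^ k • (⊤ : Submodule Λ (M (n + k))) := fun k y hy => by
      choose w hw using fun j => hsurj (n + k) (n + (k + 1)) (n + k).le_succ (y j)
      have hd : p (n + (k + 1)) x - ∑ j, a j • w j ∈
          LinearMap.ker (T (n + k) (n + (k + 1)) (n + k).le_succ) := by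
        rw [LinearMap.mem_ker, map_sub, hp, map_sum, sub_eq_zero]
        refine hy.symm.trans (Finset.sum_congr rfl fun j _ => ?_)
        rw [map_smul, hw]
      rw [hker, show n + k + 1 = (n + 1) + k by omega, pow_add, Submodule.mul_smul] at hd
      obtain ⟨z, hz, hze⟩ := exists_sum_of_mem_smul a ha _ hd
      refine ⟨fun j => w j + z j, ?_, fun j => ?_⟩
      · simp only [P, smul_add, Finset.sum_add_distrib, hze]
        exact add_sub_cancel _ _
      · have := Submodule.mem_map_of_mem (f := T (n + k) (n + (k + 1)) (n + k).le_succ) (hz j)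
        rw [Submodule.map_smul''] at this
        simpa [hw] using Submodule.smul_mono le_rfl le_top this
    have h0 : ∃ y : Fin r → M (n + 0), P 0 y := ⟨0, by
      simp only [P, Pi.zero_apply, smul_zero, Finset.sum_const_zero]
      exact (LinearMap.mem_ker.1 hx).symm⟩
    let Y : ∀ k, {y : Fin r → M (n + k) // P k y} := fun k =>
      Nat.rec (motive := fun k => {y : Fin r → M (n + k) // P k y}) ⟨h0.choose, h0.choose_spec⟩
        (fun k z => ⟨(step k z.1 z.2).choose, (step k z.1 z.2).choose_spec.1⟩) k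
    have hY : ∀ k j, T (n + k) (n + (k + 1)) (n + k).le_succ ((Y (k + 1)).1 j) - (Y k).1 j ∈
        I ^ k • (⊤ : Submodule Λ (M (n + k))) := fun k => (step k (Y k).1 (Y k).2).choose_spec.2
    choose z hz using fun j => hglue (fun m => T m (n + (m + 1)) (by omega) ((Y (m + 1)).1 j)) fun m => by
      have h := Submodule.mem_map_of_mem (f := T m (n + (m + 1)) (by omega)) (hY (m + 1) j)
      rw [Submodule.map_smul''] at h
      have h' := Submodule.smul_mono (le_refl (I ^ (m + 1))) le_top h
      rw [hkill, Submodule.mem_bot, map_sub, hT, sub_eq_zero] at h'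
      rw [hT]
      exact h'
    have hxz : x = ∑ j, a j • z j := hext _ _ fun m => by
      rw [map_sum]
      simp only [map_smul, hz]
      simp only [← map_smul, ← map_sum, (Y (m + 1)).2, P] 
      rw [hp]
    rw [hxz]
    exact Submodule.sum_mem _ fun j _ =>
      Submodule.smul_mem_smul (ha ▸ Ideal.subset_span ⟨j, rfl⟩) Submodule.mem_top
  · refine Submodule.smul_le.2 fun c hc x _ => ?_
    rw [LinearMap.mem_ker, map_smul, ← Submodule.mem_bot Λ, ← hkill n]
    exact Submodule.smul_mem_smul hc Submodule.mem_top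

end Module

variable (Λ : Type (u + 1)) [CommRing Λ] {X : Scheme.{u}}

variable {Λ} in
theorem hom_ext_wc {F G : EtModW.ModP Λ X} (f g : F ⟶ G)
    (h : ∀ W : X.ProEt, ProEtS.IsWC W → ∀ x, f.hom.app (op W) x = g.hom.app (op W) x) : f = g := by
  ext U x
  obtain ⟨V, a, ha, hV⟩ := ProEtWC.exists_wc_cover U.unop
  refine (((isSheaf_iff_isSheaf_of_type _ _).1
    ((Presheaf.isSheaf_iff_isSheaf_forget _ G.obj (forget (ModuleCat.{u + 1} Λ))).1 G.property)) _ ha).isSeparatedFor.ext
      fun W b hb => ?_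
  obtain ⟨Z, c, d, ⟨⟩, rfl⟩ := hb
  show G.obj.map (c ≫ a).op _ = G.obj.map (c ≫ a).op _
  rw [op_comp, Functor.map_comp_apply, Functor.map_comp_apply, ← NatTrans.naturality_apply f.hom,
    ← NatTrans.naturality_apply g.hom]
  exact congrArg _ (h V hV _)

variable {Λ} in
theorem homKilledBy_of_killedBy {C : Type*} [Category C] [Preadditive C] [Linear Λ C] {I : Ideal Λ} {F G : C}
    (φ : F ⟶ G) (hG : ARSys.KilledBy I G) : ARSys.HomKilledBy I φ := fun r hr => by
  rw [← Category.comp_id φ, ← Linear.comp_smul, hG r hr, comp_zero]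

variable [ProEtS.EpsCont X]

instance linear_epsPushMod : Functor.Linear Λ (epsPushMod (X := X) Λ) where
  map_smul f r := by ext; rfl

instance linear_epsPullMod : Functor.Linear Λ (EtModW.epsPullMod Λ X) where
  map_smul {F G} f r := by
    refine ((epsAdjMod Λ).homEquiv _ _).injective ?_
    rw [Adjunction.homEquiv_unit, Adjunction.homEquiv_unit,
      (epsPushMod (X := X) Λ).map_smul r ((EtModW.epsPullMod Λ X).map f), Linear.comp_smul]
    have h := (epsAdjMod (X := X) Λ).unit.naturality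
    refine (h (r • f)).symm.trans ?_
    rw [Functor.id_map, Linear.smul_comp]
    exact congrArg (r • ·) (h f)

theorem isQuot_map {J : Ideal Λ} {F Q : EtModW.Mod Λ X} {p : F ⟶ Q} (hp : ARSys.IsQuot J p) :
    ARSys.IsQuot J ((EtModW.epsPullMod Λ X).map p) := by
  refine ⟨fun a ha => ?_, fun Y φ hφ => ?_⟩
  · rw [← CategoryTheory.Functor.map_id, ← Functor.map_smul, hp.1 a ha, Functor.map_zero]
  · let A := epsAdjMod (X := X) Λ
    obtain ⟨ψ, hψ, huniq⟩ := hp.2 _ (A.homEquiv _ _ φ) fun a ha => by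
      rw [Adjunction.homEquiv_unit, ← Linear.comp_smul, ← Functor.map_smul, hφ a ha, Functor.map_zero, comp_zero]
    refine ⟨(A.homEquiv _ _).symm ψ, ?_, fun y hy => ?_⟩
    · show _ ≫ _ = _
      rw [← Adjunction.homEquiv_naturality_left_symm, hψ, Equiv.symm_apply_apply]
    · refine (A.homEquiv _ _).injective ?_
      rw [Equiv.apply_symm_apply]
      exact huniq _ ((A.homEquiv_naturality_left _ _).symm.trans (congrArg _ hy))

variable {Λ} {I : Ideal Λ} (hI : I.FG) (G : ARSys.PS (EtModW.Mod Λ X)) (hG : ARSys.IsAdic I G)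

/-- The limit of the inverse images. -/
noncomputable abbrev limEps : EtModW.ModP Λ X := limit (G ⋙ EtModW.epsPullMod Λ X)

include hI hG

theorem sections_limit (W : X.ProEt) (hW : ProEtS.IsWC W) (n : ℕ) :
    Function.Surjective ((limit.π (G ⋙ EtModW.epsPullMod Λ X) (op n)).hom.app (op W)).hom ∧
      LinearMap.ker ((limit.π (G ⋙ EtModW.epsPullMod Λ X) (op n)).hom.app (op W)).hom =
        I ^ (n + 1) • (⊤ : Submodule Λ ((limEps G).obj.obj (op W))) := by
  let H := G ⋙ EtModW.epsPullMod Λ X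
  let E : EtModW.ModP Λ X ⥤ ModuleCat.{u + 1} Λ :=
    sheafToPresheaf (Scheme.ProEt.topology X) (ModuleCat.{u + 1} Λ) ⋙ (evaluation _ _).obj (op W)
  have hl := Types.isLimit_iff ((E ⋙ forget _).mapCone (limit.cone H))
  obtain hl' := hl.1 ⟨isLimitOfPreserves (E ⋙ forget _) (limit.isLimit H)⟩
  refine tower_isQuot hI (fun m => (H.obj (op m)).obj.obj (op W)) (fun m => ((limit.π H (op m)).hom.app (op W)).hom)
    (fun n m h => ((ARSys.tr H h).hom.app (op W)).hom) (fun m x => ?_) (fun n m l h h' x => ?_)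
    (fun n m h x => ?_) (fun x y h => ?_) (fun y hy => ?_) (fun n m h => ?_) (fun n m h => ?_) n
  · exact congr($(H.map_id (op m)).hom.app (op W) x)
  · exact (congr($(H.map_comp (homOfLE h').op (homOfLE h).op).hom.app (op W) x)).symm
  · exact congr($(limit.w H (homOfLE h).op).hom.app (op W) x)
  · obtain ⟨z, -, hz⟩ := hl' (fun j => (limit.π H j).hom.app (op W) x) (fun {j k} f => by
      exact congr($(limit.w H f).hom.app (op W) x))
    exact (hz x fun j => rfl).trans (hz y fun j => (h j.unop).symm).symm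
  · have hc : ∀ n m (h : n ≤ m), (ARSys.tr H h).hom.app (op W) (y m) = y n := fun n m h => by
      induction m, h using Nat.le_induction with
      | base => exact congr($(H.map_id (op n)).hom.app (op W) (y n))
      | succ m h ih =>
        conv_rhs => rw [← ih, ← hy m]
        exact congr($(H.map_comp (homOfLE m.le_succ).op (homOfLE h).op).hom.app (op W) (y (m + 1)))
    obtain ⟨z, hz, -⟩ := hl' (fun j => y j.unop) (fun {j k} f => hc k.unop j.unop f.unop.le)
    exact ⟨z, fun m => hz (op m)⟩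
  · exact (sections_isQuot (Ideal.FG.pow hI) _ (isQuot_map Λ (hG.2 n m h)) W hW).1
  · exact (sections_isQuot (Ideal.FG.pow hI) _ (isQuot_map Λ (hG.2 n m h)) W hW).2

theorem epi_limit_π (n : ℕ) : Epi (limit.π (G ⋙ EtModW.epsPullMod Λ X) (op n)) := by
  refine ⟨fun a b h => hom_ext_wc a b fun W hW x => ?_⟩
  obtain ⟨y, rfl⟩ := (sections_limit hI G hG W hW n).1 x
  exact congr($(h).hom.app (op W) y)

theorem isQuot_limit_π (n : ℕ) :
    ARSys.IsQuot (I ^ (n + 1)) (limit.π (G ⋙ EtModW.epsPullMod Λ X) (op n)) := by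
  haveI := epi_limit_π hI G hG n
  let p := limit.π (G ⋙ EtModW.epsPullMod Λ X) (op n)
  refine ⟨(isQuot_map Λ (hG.2 n n le_rfl)).1, fun Y φ hφ => ?_⟩
  have hz : kernel.ι p ≫ φ = 0 := hom_ext_wc _ _ fun W hW k => by
    have hk : (kernel.ι p).hom.app (op W) k ∈ LinearMap.ker (p.hom.app (op W)).hom :=
      LinearMap.mem_ker.2 (congr($(kernel.condition p).hom.app (op W) k))
    rw [(sections_limit hI G hG W hW n).2] at hk
    show φ.hom.app (op W) ((kernel.ι p).hom.app (op W) k) = 0
    refine Submodule.smul_induction_on hk (fun r hr m _ => ?_) (fun a b ha hb => ?_)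
    · rw [map_smul, ← smul_app, hφ r hr]
      rfl
    · rw [map_add, ha, hb, add_zero]
  exact ⟨Abelian.epiDesc p φ hz, Abelian.comp_epiDesc p φ hz,
    fun y hy => (cancel_epi p).1 (hy.trans (Abelian.comp_epiDesc p φ hz).symm)⟩

omit hG in
theorem full_faithful :
    (ObjectProperty.ι (fun G : ARSys.PS (EtModW.Mod Λ X) => ARSys.IsAdic I G) ⋙
        ((Functor.whiskeringRight ℕᵒᵖ (EtModW.Mod Λ X) (EtModW.ModP Λ X)).obj (EtModW.epsPullMod Λ X) ⋙ lim)).Full ∧
    (ObjectProperty.ι (fun G : ARSys.PS (EtModW.Mod Λ X) => ARSys.IsAdic I G) ⋙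
        ((Functor.whiskeringRight ℕᵒᵖ (EtModW.Mod Λ X) (EtModW.ModP Λ X)).obj (EtModW.epsPullMod Λ X) ⋙ lim)).Faithful := by
  let ε := EtModW.epsPullMod Λ X
  refine ⟨⟨fun {A B} ψ => ?_⟩, ⟨fun {A B f g} h => ?_⟩⟩
  · have hk : ∀ n, ARSys.HomKilledBy (I ^ (n + 1)) (ψ ≫ limit.π (B.obj ⋙ ε) (op n)) := fun n =>
      homKilledBy_of_killedBy _ (isQuot_map Λ (B.property.2 n n le_rfl)).1
    choose χ hχ hχ' using fun n => (isQuot_limit_π hI A.obj A.property n).2 _ _ (hk n)
    choose f hf using fun n => ε.map_surjective (χ n)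
    let φ : A.obj ⟶ B.obj := NatTrans.ofOpSequence f fun n => by
      haveI := epi_limit_π hI A.obj A.property (n + 1)
      refine ε.map_injective ?_
      rw [ε.map_comp, ε.map_comp, hf, hf, ← cancel_epi (limit.π (A.obj ⋙ ε) (op (n + 1)))]
      refine ((congrArg (· ≫ χ n) (limit.w (A.obj ⋙ ε) (homOfLE n.le_succ).op)).trans (hχ n)).trans ?_ |>
        (Category.assoc _ _ _).symm.trans
      rw [← Category.assoc, hχ (n + 1), Category.assoc]
      exact congrArg (ψ ≫ ·) (limit.w (B.obj ⋙ ε) (homOfLE n.le_succ).op).symm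
    refine ⟨ObjectProperty.homMk φ, limit.hom_ext fun ⟨n⟩ => ?_⟩
    exact (limMap_π _ _).trans ((congrArg (limit.π (A.obj ⋙ ε) (op n) ≫ ·) (hf n)).trans (hχ n))
  · refine ObjectProperty.hom_ext _ (NatTrans.ext (funext fun ⟨n⟩ => ε.map_injective ?_))
    haveI := epi_limit_π hI A.obj A.property n
    rw [← cancel_epi (limit.π (A.obj ⋙ ε) (op n))]
    exact ((limMap_π _ _).symm.trans (congrArg (· ≫ limit.π (B.obj ⋙ ε) (op n)) h)).trans (limMap_π _ _)

end Groth.Agent.EtModEps19
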