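import Groth.Agent.Lib.EtModEps19.Forget6F
import Groth.Prelude.Def_ARSys
import Mathlib.CategoryTheory.Linear.LinearFunctor
import Mathlib.CategoryTheory.Adjunction.Additive

/-! Adic objects and left adjoints. -/

universe w v v' u u'

open CategoryTheory Limits Opposite

namespace Groth.Agent.EtModEps19

set_option backward.isDefEq.respectTransparency false
set_option backward.isDefEq.respectTransparency.types false
set_option linter.style.haveILetI false
set_option linter.unusedSectionVars false

variable {A : Type w} [CommRing A] {C : Type u} [Category.{v} C] [Preadditive C] [Linear A C]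
  {D : Type u'} [Category.{v'} D] [Preadditive D] [Linear A D] {L : C ⥤ D} {R : D ⥤ C}

theorem map_smul_of_adj (adj : L ⊣ R) [R.Additive] [R.Linear A] (a : A) {P Q : C} (φ : P ⟶ Q) :
    L.map (a • φ) = a • L.map φ := by
  refine (adj.homEquiv _ _).injective ?_
  simp only [Adjunction.homEquiv_unit, Functor.map_smul, Linear.comp_smul]
  have h : ∀ ψ : P ⟶ Q, adj.unit.app P ≫ R.map (L.map ψ) = ψ ≫ adj.unit.app Q := fun ψ =>
    (adj.unit.naturality ψ).symm
  rw [h, h, Linear.smul_comp]

theorem homEquiv_smul (adj : L ⊣ R) [R.Additive] [R.Linear A] (a : A) {P : C} {Y : D} (φ : L.obj P ⟶ Y) :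
    adj.homEquiv _ _ (a • φ) = a • adj.homEquiv _ _ φ := by
  simp [Adjunction.homEquiv_unit, Functor.map_smul, Linear.comp_smul]

theorem isQuot_of_adj (adj : L ⊣ R) [R.Additive] [R.Linear A] {J : Ideal A} {P Q : C} {p : P ⟶ Q}
    (hp : ARSys.IsQuot J p) : ARSys.IsQuot J (L.map p) := by
  haveI : L.Additive := adj.left_adjoint_additive
  refine ⟨fun a ha => ?_, fun Y φ hφ => ?_⟩
  · rw [← CategoryTheory.Functor.map_id, ← map_smul_of_adj adj, hp.1 a ha, Functor.map_zero]
  · obtain ⟨ψ, hψ, huniq⟩ := hp.2 _ (adj.homEquiv _ _ φ) fun a ha => by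
      rw [← homEquiv_smul adj, hφ a ha]
      simp [Adjunction.homEquiv_unit]
    refine ⟨(adj.homEquiv _ _).symm ψ, ?_, fun y hy => ?_⟩
    · show L.map p ≫ _ = φ
      rw [← adj.homEquiv_naturality_left_symm, hψ, Equiv.symm_apply_apply]
    · rw [← huniq (adj.homEquiv _ _ y) (show p ≫ _ = _ by rw [← adj.homEquiv_naturality_left, hy]),
        Equiv.symm_apply_apply]

theorem isIso_lift_map (L : C ⥤ D) [HasLimitsOfShape ℕᵒᵖ C] [HasLimitsOfShape ℕᵒᵖ D]
    [PreservesLimitsOfShape ℕᵒᵖ L] {F : C} {Q : ℕᵒᵖ ⥤ C} (p : (Functor.const ℕᵒᵖ).obj F ⟶ Q)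
    [IsIso (limit.lift Q (Cone.mk F p))] :
    IsIso (limit.lift (Q ⋙ L) (Cone.mk (L.obj F)
      { app := fun n => L.map (p.app n)
        naturality := fun i j f => by
          show 𝟙 _ ≫ L.map (p.app j) = L.map (p.app i) ≫ L.map (Q.map f)
          rw [Category.id_comp, ← L.map_comp, ← p.naturality f]
          exact congrArg L.map (Category.id_comp _).symm })) := by
  have h : L.map (limit.lift Q (Cone.mk F p)) ≫ (preservesLimitIso L Q).hom = limit.lift (Q ⋙ L) (Cone.mk (L.obj F)
      { app := fun n => L.map (p.app n)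
        naturality := fun i j f => by
          show 𝟙 _ ≫ L.map (p.app j) = L.map (p.app i) ≫ L.map (Q.map f)
          rw [Category.id_comp, ← L.map_comp, ← p.naturality f]
          exact congrArg L.map (Category.id_comp _).symm }) := limit.hom_ext fun j => by
    rw [Category.assoc, preservesLimitIso_hom_π, ← L.map_comp, limit.lift_π, limit.lift_π]
  rw [← h]
  infer_instance

end Groth.Agent.EtModEps19
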