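import Groth.Agent.Lib.EtModEps19.AdicLim

/-! Adic pro-étale sheaves are limits of adic systems from the étale site. -/

universe u

open CategoryTheory Limits AlgebraicGeometry Opposite

namespace Groth.Agent.EtModEps19

set_option backward.isDefEq.respectTransparency false
set_option backward.isDefEq.respectTransparency.types false
set_option linter.style.haveILetI false
set_option linter.unusedSectionVars false
set_option maxHeartbeats 800000

variable {Λ : Type (u + 1)} [CommRing Λ] {X : Scheme.{u}}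

theorem isFTLocConst_of_iso {T : Scheme.{u}} {F G : EtModW.Mod Λ T} (e : F ≅ G)
    (h : EtModW.IsFTLocConst Λ F) : EtModW.IsFTLocConst Λ G := by
  obtain ⟨ι, U, hU, h⟩ := h
  refine ⟨ι, U, hU, fun i => ?_⟩
  obtain ⟨M, _, _, hM, ⟨φ⟩⟩ := h i
  exact ⟨M, inferInstance, inferInstance, hM,
    ⟨((T.smallEtaleTopology.overPullback (ModuleCat.{u + 1} Λ) (U i)).mapIso e).symm ≪≫ φ⟩⟩

theorem isConstructible_of_iso {F G : EtModW.Mod Λ X} (e : F ≅ G) (h : EtModW.IsConstructible Λ F) :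
    EtModW.IsConstructible Λ G := by
  intro U hU
  obtain ⟨n, T, g, h₁, h₂, h₃, h₄, h₅⟩ := h U hU
  exact ⟨n, T, g, h₁, h₂, h₃, h₄, fun i => isFTLocConst_of_iso ((EtModW.pull Λ (g i)).mapIso e) (h₅ i)⟩

variable [ProEtS.EpsCont X]

theorem isQuot_of_map {J : Ideal Λ} {A B : EtModW.Mod Λ X} {q : A ⟶ B}
    (h : ARSys.IsQuot J ((EtModW.epsPullMod Λ X).map q)) : ARSys.IsQuot J q := by
  let ε := EtModW.epsPullMod Λ X
  refine ⟨fun a ha => ε.map_injective ?_, fun Y φ hφ => ?_⟩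
  · rw [Functor.map_smul, CategoryTheory.Functor.map_id, h.1 a ha, Functor.map_zero]
  · obtain ⟨ψ, hψ, huniq⟩ := h.2 _ (ε.map φ) fun a ha => by rw [← Functor.map_smul, hφ a ha, Functor.map_zero]
    obtain ⟨ψ', rfl⟩ := ε.map_surjective ψ
    exact ⟨ψ', ε.map_injective ((ε.map_comp _ _).trans hψ),
      fun y hy => ε.map_injective (huniq _ ((ε.map_comp _ _).symm.trans (congrArg ε.map hy)))⟩

/-- Transition maps of a tower of quotient maps are quotient maps. -/
theorem isQuot_tr {C : Type*} [Category C] [Preadditive C] [Linear Λ C] {I : Ideal Λ} {F : C} (Q : ℕᵒᵖ ⥤ C)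
    (p : (Functor.const ℕᵒᵖ).obj F ⟶ Q) (hp : ∀ n : ℕ, ARSys.IsQuot (I ^ (n + 1)) (p.app (op n)))
    (n m : ℕ) (h : n ≤ m) : ARSys.IsQuot (I ^ (n + 1)) (ARSys.tr Q h) := by
  have hw : p.app (op m) ≫ ARSys.tr Q h = p.app (op n) :=
    ((p.naturality (homOfLE h).op).symm.trans (Category.id_comp _))
  haveI := epi_of_isQuot (hp m)
  refine ⟨(hp n).1, fun Y φ hφ => ?_⟩
  obtain ⟨ψ, hψ, huniq⟩ := (hp n).2 Y (p.app (op m) ≫ φ) fun a ha => by
    rw [← Linear.comp_smul, hφ a ha, comp_zero]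
  refine ⟨ψ, (cancel_epi (p.app (op m))).1 ?_, fun y hy => huniq y ?_⟩
  · rw [← Category.assoc, hw, hψ]
  · show p.app (op n) ≫ y = p.app (op m) ≫ φ
    rw [← hy, ← Category.assoc, hw]

theorem isAdicP_iff {I : Ideal Λ} (hI : I.FG) (F : EtModW.ModP Λ X) :
    (∃ (Q : ℕᵒᵖ ⥤ EtModW.ModP Λ X) (p : (Functor.const ℕᵒᵖ).obj F ⟶ Q),
        (∀ n : ℕ, ARSys.IsQuot (I ^ (n + 1)) (p.app (op n))) ∧
        (∀ n : ℕ, ∃ E : EtModW.Mod Λ X, EtModW.IsConstructible Λ E ∧
          Nonempty ((EtModW.epsPullMod Λ X).obj E ≅ Q.obj (op n))) ∧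
        IsIso (limit.lift Q (Cone.mk F p))) ↔
      ∃ G : ARSys.PS (EtModW.Mod Λ X), ARSys.IsAdic I G ∧
        (∀ n : ℕ, EtModW.IsConstructible Λ (G.obj (op n))) ∧
        Nonempty (limit (G ⋙ EtModW.epsPullMod Λ X) ≅ F) := by
  let ε := EtModW.epsPullMod Λ X
  let A := epsAdjMod (X := X) Λ
  constructor
  · rintro ⟨Q, p, hp, hE, hl⟩
    choose E hEc hEi using hE
    have hc : ∀ j : ℕᵒᵖ, IsIso (A.counit.app (Q.obj j)) := fun j => by
      refine (NatTrans.isIso_app_iff_of_iso _ (hEi j.unop).some).1 ?_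
      exact IsIso.of_isIso_fac_left (A.left_triangle_components (E j.unop))
    haveI : ∀ j, IsIso ((Functor.whiskerLeft Q A.counit).app j) := hc
    haveI : IsIso (Functor.whiskerLeft Q A.counit) := NatIso.isIso_of_isIso_app _
    let e : (Q ⋙ epsPushMod Λ) ⋙ ε ≅ Q :=
      Functor.associator _ _ _ ≪≫ asIso (Functor.whiskerLeft Q A.counit) ≪≫ Q.rightUnitor
    haveI := hl
    refine ⟨Q ⋙ epsPushMod Λ, ⟨fun n a ha => ?_, fun n m h => ?_⟩, fun n => ?_,
      ⟨HasLimit.isoOfNatIso e ≪≫ (asIso (limit.lift Q (Cone.mk F p))).symm⟩⟩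
    · show a • 𝟙 ((epsPushMod Λ).obj (Q.obj (op n))) = 0
      rw [← CategoryTheory.Functor.map_id, ← Functor.map_smul, (hp n).1 a ha, Functor.map_zero]
    · refine isQuot_of_map ?_
      have hq := isQuot_tr Q p hp n m h
      have hn : ε.map (ARSys.tr (Q ⋙ epsPushMod Λ) h) ≫ e.hom.app (op n) =
          e.hom.app (op m) ≫ ARSys.tr Q h := e.hom.naturality (homOfLE h).op
      have hn' : ε.map (ARSys.tr (Q ⋙ epsPushMod Λ) h) =
          e.hom.app (op m) ≫ ARSys.tr Q h ≫ e.inv.app (op n) := by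
        rw [← Category.assoc, ← hn, Category.assoc, Iso.hom_inv_id_app]
        exact (Category.comp_id _).symm
      rw [hn']
      refine ⟨fun a ha => ?_, fun Y φ hφ => ?_⟩
      · have h' := hq.1 a ha
        calc a • 𝟙 _ = e.hom.app (op n) ≫ (a • 𝟙 _) ≫ e.inv.app (op n) := by
              rw [Linear.smul_comp, Category.id_comp, Linear.comp_smul, Iso.hom_inv_id_app]
          _ = 0 := by rw [h', zero_comp, comp_zero]
      · obtain ⟨ψ, hψ, huniq⟩ := hq.2 Y (e.inv.app (op m) ≫ φ) fun a ha => by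
          rw [← Linear.comp_smul, hφ a ha, comp_zero]
        refine ⟨e.hom.app (op n) ≫ ψ, ?_, fun y hy => ?_⟩
        · simp only [Category.assoc, Iso.inv_hom_id_app_assoc]
          rw [hψ, Iso.hom_inv_id_app_assoc]
        · rw [← huniq (e.inv.app (op n) ≫ y) (show ARSys.tr Q h ≫ e.inv.app (op n) ≫ y = _ by
            rw [← hy]; simp only [Category.assoc, Iso.inv_hom_id_app_assoc]), Iso.hom_inv_id_app_assoc]
    · exact isConstructible_of_iso (asIso (A.unit.app (E n)) ≪≫ (epsPushMod Λ).mapIso (hEi n).some) (hEc n)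
  · rintro ⟨G, hG, hc, ⟨e⟩⟩
    let p : (Functor.const ℕᵒᵖ).obj F ⟶ G ⋙ ε :=
      { app := fun j => e.inv ≫ limit.π (G ⋙ ε) j
        naturality := fun i j f => by
          show 𝟙 F ≫ e.inv ≫ limit.π (G ⋙ ε) j = (e.inv ≫ limit.π (G ⋙ ε) i) ≫ (G ⋙ ε).map f
          rw [Category.id_comp, Category.assoc, limit.w] }
    refine ⟨G ⋙ ε, p, fun n => ?_, fun n => ⟨G.obj (op n), hc n, ⟨Iso.refl _⟩⟩, ?_⟩
    · have hq := isQuot_limit_π hI G hG n
      refine ⟨hq.1, fun Y φ hφ => ?_⟩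
      obtain ⟨ψ, hψ, huniq⟩ := hq.2 Y (e.hom ≫ φ) fun a ha => by rw [← Linear.comp_smul, hφ a ha, comp_zero]
      refine ⟨ψ, ?_, fun y hy => huniq y ?_⟩
      · show (e.inv ≫ limit.π (G ⋙ ε) (op n)) ≫ ψ = φ
        rw [Category.assoc, hψ, e.inv_hom_id_assoc]
      · show limit.π (G ⋙ ε) (op n) ≫ y = e.hom ≫ φ
        rw [← hy]
        show _ = e.hom ≫ (e.inv ≫ limit.π (G ⋙ ε) (op n)) ≫ y
        rw [Category.assoc, e.hom_inv_id_assoc]
    · have : limit.lift (G ⋙ ε) (Cone.mk F p) = e.inv := limit.hom_ext fun j => by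
        rw [limit.lift_π]
      rw [this]
      infer_instance

end Groth.Agent.EtModEps19
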