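import Groth.Agent.Lib.EtModEps19.LocalRep
import Groth.Agent.Lib.ProEtEps19.Compare
import Groth.Prelude.Def_EtModW

/-! The inverse image of modules to the pro-étale site and the underlying abelian sheaves. -/

universe u

open CategoryTheory Limits AlgebraicGeometry Opposite

namespace Groth.Agent.EtModEps19

set_option backward.isDefEq.respectTransparency false
set_option backward.isDefEq.respectTransparency.types false
set_option linter.style.haveILetI false
set_option linter.unusedSectionVars false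
set_option maxHeartbeats 800000

open Groth.Agent.ProEtEps19 (left_eq)

variable (Λ : Type (u + 1)) [CommRing Λ] {X : Scheme.{u}}

/-- Underlying abelian groups. -/
noncomputable abbrev UM : ModuleCat.{u + 1} Λ ⥤ AddCommGrpCat.{u + 1} := forget₂ _ _

/-- The underlying abelian étale sheaf. -/
noncomputable abbrev fgE (X : Scheme.{u}) : EtModW.Mod Λ X ⥤ EtCoh.Ab X :=
  sheafCompose X.smallEtaleTopology (UM Λ)

/-- The underlying abelian pro-étale sheaf. -/
noncomputable abbrev fgP (X : Scheme.{u}) : EtModW.ModP Λ X ⥤ ProEtS.AbP X :=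
  sheafCompose (Scheme.ProEt.topology X) (UM Λ)

instance isFiltered_costructured (W : X.ProEtᵒᵖ) :
    IsFiltered (CostructuredArrow (ProEtS.eps X).op W) :=
  ProEtEps19.isFiltered_costructured W

instance preservesColimits_costructured (W : X.ProEtᵒᵖ) :
    PreservesColimitsOfShape (CostructuredArrow (ProEtS.eps X).op W) (forget (ModuleCat.{u + 1} Λ)) := by
  haveI : IsFiltered (AsSmall.{u + 1} (CostructuredArrow (ProEtS.eps X).op W)) :=
    IsFiltered.of_equivalence AsSmall.equiv
  exact preservesColimitsOfShape_of_equiv AsSmall.equiv.symm _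

variable [ProEtS.EpsCont X]

/-- `ε_*` on modules. -/
noncomputable abbrev epsPushMod : EtModW.ModP Λ X ⥤ EtModW.Mod Λ X :=
  (ProEtS.eps X).sheafPushforwardContinuous (ModuleCat.{u + 1} Λ) X.smallEtaleTopology
    (Scheme.ProEt.topology X)

/-- The adjunction on modules. -/
noncomputable abbrev epsAdjMod : EtModW.epsPullMod Λ X ⊣ epsPushMod Λ :=
  (ProEtS.eps X).sheafAdjunctionContinuous (ModuleCat.{u + 1} Λ) X.smallEtaleTopology
    (Scheme.ProEt.topology X)

/-- `ε_*` commutes with the forgetful functors. -/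
noncomputable def pushFg : epsPushMod Λ ⋙ fgE Λ X ≅ fgP Λ X ⋙ ProEtS.epsPush X :=
  NatIso.ofComponents (fun _ => Iso.refl _) fun f => by ext; rfl

/-- The comparison map. -/
noncomputable def cmp : fgE Λ X ⋙ ProEtS.epsPull X ⟶ EtModW.epsPullMod Λ X ⋙ fgP Λ X where
  app F := ((ProEtS.epsAdj X).homEquiv _ _).symm
    ((fgE Λ X).map ((epsAdjMod Λ).unit.app F) ≫ (pushFg Λ).hom.app _)
  naturality F G φ := by
    show (ProEtS.epsPull X).map ((fgE Λ X).map φ) ≫ _ =
      _ ≫ (fgP Λ X).map ((EtModW.epsPullMod Λ X).map φ)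
    refine ((ProEtS.epsAdj X).homEquiv_naturality_left_symm _ _).symm.trans
      (Eq.trans ?_ ((ProEtS.epsAdj X).homEquiv_naturality_right_symm _ _))
    refine congrArg _ ?_
    rw [Category.assoc, ← Category.assoc ((fgE Λ X).map φ), ← Functor.map_comp]
    have h1 := (epsAdjMod Λ).unit.naturality φ
    simp only [Functor.id_map, Functor.comp_map] at h1
    rw [h1, Functor.map_comp, Category.assoc]
    exact congrArg (_ ≫ ·) ((pushFg Λ).hom.naturality ((EtModW.epsPullMod Λ X).map φ))

variable (F : EtModW.Mod Λ X)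

/-- The canonical map from sections of a sheaf of modules. -/
noncomputable abbrev unM (V : X.Etale) :
    F.obj.obj (op V) →+ ((EtModW.epsPullMod Λ X).obj F).obj.obj (op ((ProEtS.eps X).obj V)) :=
  (((epsAdjMod Λ).unit.app F).hom.app (op V)).hom.toAddMonoidHom

theorem cmp_un (V : X.Etale) (t : F.obj.obj (op V)) :
    ((cmp Λ).app F).hom.app (op ((ProEtS.eps X).obj V)) (ProEtEps19.un ((fgE Λ X).obj F) V t) =
      unM Λ F V t := by
  have h : (ProEtS.epsAdj X).unit.app ((fgE Λ X).obj F) ≫ (ProEtS.epsPush X).map ((cmp Λ).app F) =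
      (fgE Λ X).map ((epsAdjMod Λ).unit.app F) ≫ (pushFg Λ).hom.app _ :=
    ((ProEtS.epsAdj X).homEquiv_unit _ _ _).symm.trans (((ProEtS.epsAdj X).homEquiv _ _).apply_symm_apply _)
  exact congr($(h).hom.app (op V) t)

theorem cmp_rep {W : X.ProEt} {V : X.Etale} (a : W ⟶ (ProEtS.eps X).obj V) (t : F.obj.obj (op V)) :
    ((cmp Λ).app F).hom.app (op W) (ProEtEps19.rep ((fgE Λ X).obj F) a t) =
      ((EtModW.epsPullMod Λ X).obj F).obj.map a.op (unM Λ F V t) := by
  rw [← cmp_un]
  exact NatTrans.naturality_apply ((cmp Λ).app F).hom a.op _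

theorem cmp_injective (Y : X.ProEt) : Function.Injective (((cmp Λ).app F).hom.app (op Y)) := by
  rw [injective_iff_map_eq_zero]
  intro σ hσ
  let Q := ((EtModW.epsPullMod Λ X).obj F)
  obtain ⟨S, hS, hS'⟩ := ProEtEps19.exists_rep ((fgE Λ X).obj F) σ
  refine ProEtEps19.eq_of_cover hS _ _ _ fun W g hg => ?_
  rw [map_zero]
  obtain ⟨V, a, t, ht⟩ := hS' g hg
  have h0 : Q.obj.map a.op (unM Λ F V t) = 0 := by
    rw [← cmp_rep]
    refine (congrArg _ ht.symm).trans ((NatTrans.naturality_apply ((cmp Λ).app F).hom g.op σ).trans ?_)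
    rw [hσ, map_zero]
  obtain ⟨R, hR, hR'⟩ := exists_local_zero Λ (ProEtS.eps X) X.smallEtaleTopology
    (Scheme.ProEt.topology X) F a t h0
  refine ht.trans ?_
  refine ProEtEps19.eq_of_cover hR ((ProEtS.epsPull X).obj ((fgE Λ X).obj F)) _ _ fun W' q hq => ?_
  obtain ⟨V', b, a', hab, hb⟩ := hR' q hq
  rw [map_zero, ProEtEps19.map_rep, ← hab, ProEtEps19.rep_map]
  refine (congrArg (fun z => ProEtEps19.rep ((fgE Λ X).obj F) a' z) hb).trans ?_
  unfold ProEtEps19.rep
  exact (congrArg _ (map_zero _)).trans (map_zero _)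

theorem cmp_surjective (Y : X.ProEt) : Function.Surjective (((cmp Λ).app F).hom.app (op Y)) := by
  intro σ
  let P := (ProEtS.epsPull X).obj ((fgE Λ X).obj F)
  obtain ⟨S, hS, hS'⟩ := exists_local_rep Λ (ProEtS.eps X) X.smallEtaleTopology
    (Scheme.ProEt.topology X) F σ
  choose V a t ht using hS'
  let fam : Presieve.FamilyOfElements (P.obj ⋙ forget AddCommGrpCat.{u + 1}) S.arrows :=
    fun W g hg => ProEtEps19.rep ((fgE Λ X).obj F) (a g hg) (t g hg)
  have hval : ∀ {W : X.ProEt} (g : W ⟶ Y) (hg : Sieve.arrows S g),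
      ((cmp Λ).app F).hom.app (op W) (fam g hg) =
        ((EtModW.epsPullMod Λ X).obj F).obj.map g.op σ := fun g hg => by
    show ((cmp Λ).app F).hom.app _ (ProEtEps19.rep _ _ _) = _
    rw [cmp_rep]
    exact (ht g hg).symm
  have hc : fam.Compatible := by
    intro Z₁ Z₂ W p₁ p₂ f₁ f₂ h₁ h₂ e
    refine cmp_injective Λ F W ?_
    show ((cmp Λ).app F).hom.app _ (P.obj.map p₁.op _) = ((cmp Λ).app F).hom.app _ (P.obj.map p₂.op _)
    refine (NatTrans.naturality_apply ((cmp Λ).app F).hom p₁.op _).trans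
      (Eq.trans ?_ (NatTrans.naturality_apply ((cmp Λ).app F).hom p₂.op _).symm)
    refine (congrArg _ (hval f₁ h₁)).trans (Eq.trans ?_ (congrArg _ (hval f₂ h₂)).symm)
    refine (Functor.map_comp_apply _ _ _ _).symm.trans (Eq.trans ?_ (Functor.map_comp_apply _ _ _ _))
    rw [← op_comp, ← op_comp, e]
  have hsh := ((isSheaf_iff_isSheaf_of_type _ _).1
    ((Presheaf.isSheaf_iff_isSheaf_forget _ P.obj (forget AddCommGrpCat.{u + 1})).1 P.property)) _ hS
  refine ⟨hsh.amalgamate fam hc, ProEtEps19.eq_of_cover hS _ _ _ fun W g hg => ?_⟩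
  refine (NatTrans.naturality_apply ((cmp Λ).app F).hom g.op _).symm.trans ?_
  refine (congrArg _ (Presieve.IsSheafFor.valid_glue hsh hc g hg)).trans ?_
  exact hval g hg

instance isIso_cmp_app : IsIso ((cmp Λ).app F) := by
  haveI : ∀ Y, IsIso (((cmp Λ).app F).hom.app Y) := fun Y =>
    (ConcreteCategory.isIso_iff_bijective _).2 ⟨cmp_injective Λ F Y.unop, cmp_surjective Λ F Y.unop⟩
  haveI : IsIso ((cmp Λ).app F).hom := NatIso.isIso_of_isIso_app _
  exact (isIso_iff_of_reflects_iso _ (sheafToPresheaf (Scheme.ProEt.topology X) AddCommGrpCat.{u + 1})).1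
    (inferInstanceAs (IsIso ((cmp Λ).app F).hom))

/-- `ε⁻¹` commutes with the forgetful functors. -/
noncomputable def cmpIso : fgE Λ X ⋙ ProEtS.epsPull X ≅ EtModW.epsPullMod Λ X ⋙ fgP Λ X :=
  haveI : IsIso (cmp (X := X) Λ) := NatIso.isIso_of_isIso_app _
  asIso (cmp (X := X) Λ)

theorem unM_bijective (V : X.Etale) : Function.Bijective (unM Λ F V) := by
  have h : ⇑(unM Λ F V) = ⇑(((cmp Λ).app F).hom.app (op ((ProEtS.eps X).obj V))) ∘
      ⇑(ProEtEps19.un ((fgE Λ X).obj F) V) := funext fun t => (cmp_un Λ F V t).symm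
  rw [h]
  exact Function.Bijective.comp ⟨cmp_injective Λ F _, cmp_surjective Λ F _⟩
    ⟨ProEtEps19.un_injective _ V, ProEtEps19.un_surjective _ V⟩

instance isIso_unitMod_app : IsIso ((epsAdjMod Λ).unit.app F) := by
  haveI : ∀ V, IsIso (((epsAdjMod Λ).unit.app F).hom.app V) := fun V =>
    (ConcreteCategory.isIso_iff_bijective _).2 (unM_bijective Λ F V.unop)
  haveI : IsIso ((epsAdjMod Λ).unit.app F).hom := NatIso.isIso_of_isIso_app _
  exact (isIso_iff_of_reflects_iso _ (sheafToPresheaf X.smallEtaleTopology (ModuleCat.{u + 1} Λ))).1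
    (inferInstanceAs (IsIso ((epsAdjMod Λ).unit.app F).hom))

end Groth.Agent.EtModEps19
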