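import Groth.Agent.Lib.ProEtEps19.Colim
import Groth.Agent.Lib.ProEtEps19.Present
import Groth.Agent.Lib.ProEtWC.Cover
import Groth.Agent.Lib.EtModEps19.Forget
import Mathlib.AlgebraicGeometry.AffineScheme
import Mathlib.LinearAlgebra.Pi
import Mathlib.RingTheory.Finiteness.Defs

/-! Presheaves commuting with limits of affine objects; this property is local. -/

universe u

open CategoryTheory Limits AlgebraicGeometry Opposite

namespace Groth.Agent.EtModEps19

set_option backward.isDefEq.respectTransparency false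
set_option backward.isDefEq.respectTransparency.types false
set_option linter.style.haveILetI false
set_option linter.unusedSectionVars false
set_option maxHeartbeats 800000

open Groth.Agent.ProEtWC Groth.Agent.ProEtEps19

variable {X : Scheme.{u}}

/-- The sections over the limit are the colimit of the sections over the stages. -/
def StageColim (P : X.ProEtᵒᵖ ⥤ Type (u + 1)) {I : Type u} [SmallCategory I] (D : I ⥤ X.ProEt)
    (c : Cone D) : Prop :=
  (∀ (i : I) (s t : P.obj (op (D.obj i))), P.map (c.π.app i).op s = P.map (c.π.app i).op t →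
    ∃ (j : I) (a : j ⟶ i), P.map (D.map a).op s = P.map (D.map a).op t) ∧
  ∀ s : P.obj (op c.pt), ∃ (i : I) (t : P.obj (op (D.obj i))), P.map (c.π.app i).op t = s

/-- A presheaf commutes with limits of affine objects. -/
def Cls (P : X.ProEtᵒᵖ ⥤ Type (u + 1)) : Prop :=
  ∀ {I : Type u} [SmallCategory I] [IsCofiltered I] (D : I ⥤ X.ProEt), (∀ i, IsAffine (D.obj i).left) →
    ∀ c : Cone D, IsLimit ((toSch X).mapCone c) → StageColim P D c

/-- The same for systems over `W`. -/
def ClsOver (P : X.ProEtᵒᵖ ⥤ Type (u + 1)) (W : X.ProEt) : Prop :=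
  ∀ {I : Type u} [SmallCategory I] [IsCofiltered I] (D : I ⥤ X.ProEt), (∀ i, IsAffine (D.obj i).left) →
    ∀ c : Cone D, IsLimit ((toSch X).mapCone c) → ∀ i₀ : I, (D.obj i₀ ⟶ W) → StageColim P D c

theorem exists_common {I : Type u} [SmallCategory I] [IsCofiltered I] {i : I} {n : ℕ} (j : Fin n → I)
    (a : ∀ k, j k ⟶ i) : ∃ (m : I) (b : m ⟶ i), ∀ k, ∃ d : m ⟶ j k, d ≫ a k = b := by
  induction n with
  | zero => exact ⟨i, 𝟙 i, fun k => k.elim0⟩
  | succ n ih =>
    obtain ⟨m, b, hb⟩ := ih (fun k => j k.castSucc) (fun k => a k.castSucc)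
    obtain ⟨m', p, q, hpq⟩ := IsCofiltered.cospan b (a (Fin.last n))
    refine ⟨m', p ≫ b, fun k => ?_⟩
    induction k using Fin.lastCases with
    | last => exact ⟨q, hpq.symm⟩
    | cast k =>
      obtain ⟨d, hd⟩ := hb k
      exact ⟨p ≫ d, by rw [Category.assoc, hd]⟩

theorem clsOver_of_equiv {P Q : X.ProEtᵒᵖ ⥤ Type (u + 1)} {W : X.ProEt} (hQ : Cls Q)
    (e : ∀ T : X.ProEt, (T ⟶ W) → P.obj (op T) → Q.obj (op T))
    (he : ∀ T b, Function.Bijective (e T b))
    (hnat : ∀ (T T' : X.ProEt) (g : T' ⟶ T) (b : T ⟶ W) (s : P.obj (op T)),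
      e T' (g ≫ b) (P.map g.op s) = Q.map g.op (e T b s)) :
    ClsOver P W := by
  intro I _ _ D hD c hc i₀ b₀
  obtain ⟨hinj, hsurj⟩ := hQ D hD c hc
  refine ⟨fun i s t h => ?_, fun s => ?_⟩
  · let k := IsCofiltered.min i i₀
    let p : k ⟶ i := IsCofiltered.minToLeft i i₀
    let b : D.obj k ⟶ W := D.map (IsCofiltered.minToRight i i₀) ≫ b₀
    have h' : Q.map (c.π.app k).op (e _ b (P.map (D.map p).op s)) =
        Q.map (c.π.app k).op (e _ b (P.map (D.map p).op t)) := by
      rw [← hnat, ← hnat]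
      refine congrArg _ ?_
      rw [← Functor.map_comp_apply, ← Functor.map_comp_apply, ← op_comp, c.w]
      exact h
    obtain ⟨j, a, ha⟩ := hinj k _ _ h'
    refine ⟨j, a ≫ p, ?_⟩
    rw [← hnat, ← hnat] at ha
    have := (he _ _).1 ha
    rwa [← Functor.map_comp_apply, ← Functor.map_comp_apply, ← op_comp, ← D.map_comp] at this
  · obtain ⟨i, q, hq⟩ := hsurj (e c.pt (c.π.app i₀ ≫ b₀) s)
    let k := IsCofiltered.min i i₀
    obtain ⟨t, ht⟩ := (he _ (D.map (IsCofiltered.minToRight i i₀) ≫ b₀)).2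
      (Q.map (D.map (IsCofiltered.minToLeft i i₀)).op q)
    refine ⟨k, t, (he _ (c.π.app i₀ ≫ b₀)).1 ?_⟩
    have e1 := hnat _ _ (c.π.app k) (D.map (IsCofiltered.minToRight i i₀) ≫ b₀) t
    rw [← Category.assoc, c.w, ht, ← Functor.map_comp_apply, ← op_comp, c.w] at e1
    exact e1.trans hq

theorem exists_finite_refinement {ι : Type u} (U : ι → X.ProEt) (hU : EtModW.CoversP U) (T : X.ProEt)
    [IsAffine T.left] :
    ∃ (n : ℕ) (Z : Fin n → X.ProEt) (g : ∀ k, Z k ⟶ T) (p : Fin n → ι),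
      (∀ k, IsAffine (Z k).left) ∧ (∀ k, Nonempty (Z k ⟶ U (p k))) ∧
      Sieve.generate (Presieve.ofArrows Z g) ∈ Scheme.ProEt.topology X T := by
  obtain ⟨V, v, hv, hVa, hwc⟩ := exists_affine_wc_cover_singleton T
  haveI := hVa
  let t : T ⟶ ProEtS.topP X := MorphismProperty.Over.homMk T.hom (Category.comp_id _)
  obtain ⟨n, O, hO, hd, hcov, hR⟩ := (isWC_iff_refinedByClopen V).1 hwc _
    ((Scheme.ProEt.topology X).pullback_stable (v ≫ t) hU)
  let j : ∀ k, Scheme.ProEt.mk ((O k).ι ≫ V.hom) ⟶ V := fun k => MorphismProperty.Over.homMk (O k).ι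
  have hp : ∀ k, ∃ i, Nonempty (Scheme.ProEt.mk ((O k).ι ≫ V.hom) ⟶ U i) := fun k => by
    obtain ⟨Y, a, b, hb, -⟩ := (hR k)
    obtain ⟨i⟩ := hb
    exact ⟨i, ⟨a⟩⟩
  choose p hp using hp
  refine ⟨n, fun k => Scheme.ProEt.mk ((O k).ι ≫ V.hom), fun k => j k ≫ v, p, fun k => ?_, hp, ?_⟩
  · haveI : IsClosedImmersion (O k).ι := IsClosedImmersion.of_isPreimmersion _ (by
      rw [Scheme.Opens.range_ι]; exact (hO k).1)
    exact isAffine_of_isAffineHom (O k).ι
  · refine GrothendieckTopology.transitive _ hv _ ?_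
    rintro Y f ⟨Y', a, b, hb, rfl⟩
    obtain ⟨⟩ := hb
    rw [Sieve.pullback_comp]
    refine GrothendieckTopology.pullback_stable _ a ?_
    haveI : ∀ k, IsOpenImmersion (j k).left := fun k => inferInstanceAs (IsOpenImmersion (O k).ι)
    refine GrothendieckTopology.superset_covering _ ?_ (openImmersions_cover_mem
      (fun k : ULift.{u} (Fin n) => Scheme.ProEt.mk ((O k.down).ι ≫ V.hom)) (fun k => j k.down) ?_)
    · rw [Sieve.generate_le_iff, Presieve.ofArrows_le_iff]
      exact fun k => ⟨_, 𝟙 _, j k.down ≫ v, ⟨k.down⟩, Category.id_comp _⟩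
    · intro x
      obtain ⟨k, hk⟩ := Set.mem_iUnion.1 (hcov.ge (Set.mem_univ x))
      exact ⟨⟨k⟩, ⟨⟨x, hk⟩, rfl⟩⟩

section Base

theorem fib_hom_ext {W P Q Y : X.ProEt} {g : P ⟶ Y} {h : Q ⟶ Y} {a b : W ⟶ fib g h}
    (h₁ : a ≫ fib₁ g h = b ≫ fib₁ g h) (h₂ : a ≫ fib₂ g h = b ≫ fib₂ g h) : a = b :=
  MorphismProperty.Over.Hom.ext (pullback.hom_ext (left_eq h₁) (left_eq h₂))

theorem isAffine_fib {P Q Y : X.ProEt} (g : P ⟶ Y) (h : Q ⟶ Y) [IsAffine P.left] [IsAffine Q.left]
    [IsAffine Y.left] : IsAffine (fib g h).left :=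
  inferInstanceAs (IsAffine (pullback g.left h.left))

variable {I : Type u} [SmallCategory I] [IsCofiltered I] {D : I ⥤ X.ProEt} {c : Cone D} {i : I}
  {Z : X.ProEt} (f : Z ⟶ D.obj i)

/-- The transition map of the base changed system. -/
noncomputable abbrev stageMap {j : I} (a : j ⟶ i) {j' : I} (e : j' ⟶ j) :
    fib (D.map (e ≫ a)) f ⟶ fib (D.map a) f :=
  fibLift (fib₁ _ _ ≫ D.map e) (fib₂ _ _) (by rw [Category.assoc, ← D.map_comp, fib_condition])

/-- The projection of the base changed limit. -/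
noncomputable abbrev stageProj {j : I} (a : j ⟶ i) : fib (c.π.app i) f ⟶ fib (D.map a) f :=
  fibLift (fib₁ _ _ ≫ c.π.app j) (fib₂ _ _) (by rw [Category.assoc, c.w, fib_condition])

theorem bcSys_fib₁ {a a' : Over i} (m : a ⟶ a') :
    (bcSys (DY := D) f).map m ≫ fib₁ (D.map a'.hom) f = fib₁ (D.map a.hom) f ≫ D.map m.left :=
  MorphismProperty.Over.Hom.ext (pullback.lift_fst _ _ _)

theorem bcSys_fib₂ {a a' : Over i} (m : a ⟶ a') :
    (bcSys (DY := D) f).map m ≫ fib₂ (D.map a'.hom) f = fib₂ (D.map a.hom) f :=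
  MorphismProperty.Over.Hom.ext (pullback.lift_snd _ _ _)

/-- The base change of a system along a map to a stage over `W`. -/
theorem stageColim_fib {P : X.ProEtᵒᵖ ⥤ Type (u + 1)} {W : X.ProEt} (hP : ClsOver P W)
    (hD : ∀ i, IsAffine (D.obj i).left) (hc : IsLimit ((toSch X).mapCone c)) [IsAffine Z.left]
    (b : Z ⟶ W) :
    (∀ (j : I) (a : j ⟶ i) (s t : P.obj (op (fib (D.map a) f))),
      P.map (stageProj (c := c) f a).op s = P.map (stageProj (c := c) f a).op t →
        ∃ (j' : I) (e : j' ⟶ j), P.map (stageMap f a e).op s = P.map (stageMap f a e).op t) ∧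
    ∀ s : P.obj (op (fib (c.π.app i) f)),
      ∃ (j : I) (a : j ⟶ i) (t : P.obj (op (fib (D.map a) f))), P.map (stageProj (c := c) f a).op t = s := by
  haveI := hD
  let cb := bcsCone c f (fib₁ (c.π.app i) f) (fib₂ (c.π.app i) f) (IsPullback.of_hasPullback _ _)
  obtain ⟨hinj, hsurj⟩ := hP (bcSys (DY := D) f) (fun a => isAffine_fib (D.map a.hom) f) cb
    (isLimitBcsCone c f _ _ (IsPullback.of_hasPullback _ _) hc) (Over.mk (𝟙 i))
    (fib₂ (D.map (𝟙 i)) f ≫ b)
  refine ⟨fun j a s t hst => ?_, fun s => ?_⟩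
  · obtain ⟨a', e, he⟩ := hinj (Over.mk a) s t hst
    refine ⟨a'.left, e.left, ?_⟩
    have hw : e.left ≫ a = a'.hom := Over.w e
    let ι' : fib (D.map (e.left ≫ a)) f ⟶ fib (D.map a'.hom) f :=
      fibLift (fib₁ _ _) (fib₂ _ _) (by rw [← hw]; exact fib_condition _ _)
    have h : stageMap f a e.left = ι' ≫ (bcSys (DY := D) f).map e := by
      refine fib_hom_ext ?_ ?_
      · rw [fibLift₁]
        refine Eq.trans ?_ (Category.assoc _ _ _).symm
        refine Eq.trans ?_ (congrArg (ι' ≫ ·) (bcSys_fib₁ f e)).symm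
        rw [← Category.assoc, fibLift₁]
      · rw [fibLift₂]
        refine Eq.trans ?_ (Category.assoc _ _ _).symm
        refine Eq.trans ?_ (congrArg (ι' ≫ ·) (bcSys_fib₂ f e)).symm
        rw [fibLift₂]
    rw [h, op_comp]
    erw [Functor.map_comp_apply, Functor.map_comp_apply]
    exact congrArg _ he
  · obtain ⟨a, t, ht⟩ := hsurj s
    exact ⟨a.left, a.hom, t, ht⟩

end Base

theorem cover_fib {T T' : X.ProEt} (h : T' ⟶ T) {n : ℕ} {Z : Fin n → X.ProEt} (g : ∀ k, Z k ⟶ T)
    (hg : Sieve.generate (Presieve.ofArrows Z g) ∈ Scheme.ProEt.topology X T) :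
    Sieve.generate (Presieve.ofArrows (fun k => fib h (g k)) fun k => fib₁ h (g k)) ∈
      Scheme.ProEt.topology X T' := by
  refine GrothendieckTopology.superset_covering _ ?_ ((Scheme.ProEt.topology X).pullback_stable h hg)
  rintro Y q ⟨Y', a, b, hb, e⟩
  obtain ⟨k⟩ := hb
  exact ⟨_, fibLift q a e.symm, _, ⟨k⟩, fibLift₁ _ _ _⟩

theorem eq_of_fib_cover {P : X.ProEtᵒᵖ ⥤ Type (u + 1)} (hP : Presieve.IsSheaf (Scheme.ProEt.topology X) P)
    {T T' : X.ProEt} (h : T' ⟶ T) {n : ℕ} {Z : Fin n → X.ProEt} (g : ∀ k, Z k ⟶ T)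
    (hg : Sieve.generate (Presieve.ofArrows Z g) ∈ Scheme.ProEt.topology X T) (s t : P.obj (op T'))
    (hst : ∀ k, P.map (fib₁ h (g k)).op s = P.map (fib₁ h (g k)).op t) : s = t := by
  refine (hP.isSeparated _ (cover_fib h g hg)).ext fun Y q hq => ?_
  obtain ⟨Y', q', g', hg', rfl⟩ := hq
  obtain ⟨k⟩ := hg'
  rw [op_comp, Functor.map_comp_apply, Functor.map_comp_apply, hst k]

/-- Commutation with limits of affine objects is local. -/
theorem cls_of_local {P : X.ProEtᵒᵖ ⥤ Type (u + 1)} (hP : Presieve.IsSheaf (Scheme.ProEt.topology X) P)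
    {ι : Type u} (U : ι → X.ProEt) (hU : EtModW.CoversP U) (h : ∀ i, ClsOver P (U i)) : Cls P := by
  intro I _ _ D hD c hc
  haveI := hD
  refine ⟨fun i s t hst => ?_, fun s => ?_⟩
  · obtain ⟨n, Z, g, p, hZ, hb, hg⟩ := exists_finite_refinement U hU (D.obj i)
    have key : ∀ k, ∃ (j : I) (a : j ⟶ i), P.map (fib₁ (D.map a) (g k)).op (P.map (D.map a).op s) =
        P.map (fib₁ (D.map a) (g k)).op (P.map (D.map a).op t) := fun k => by
      haveI := hZ k
      obtain ⟨b⟩ := hb k
      have h1 : stageProj (c := c) (g k) (𝟙 i) ≫ fib₁ _ _ ≫ D.map (𝟙 i) = fib₁ _ _ ≫ c.π.app i := by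
        rw [← Category.assoc, fibLift₁, Category.assoc, c.w]
      obtain ⟨j, a, ha⟩ := (stageColim_fib (g k) (h (p k)) hD hc b).1 i (𝟙 i)
        (P.map (fib₁ _ _ ≫ D.map (𝟙 i)).op s) (P.map (fib₁ _ _ ≫ D.map (𝟙 i)).op t) (by
          rw [← Functor.map_comp_apply, ← Functor.map_comp_apply, ← op_comp, h1, op_comp,
            Functor.map_comp_apply, Functor.map_comp_apply, hst])
      refine ⟨j, a ≫ 𝟙 i, ?_⟩
      have h2 : stageMap (g k) (𝟙 i) a ≫ fib₁ _ _ ≫ D.map (𝟙 i) = fib₁ _ _ ≫ D.map (a ≫ 𝟙 i) := by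
        rw [← Category.assoc, fibLift₁, Category.assoc, ← D.map_comp]
      rwa [← Functor.map_comp_apply, ← Functor.map_comp_apply, ← op_comp, h2, op_comp,
        Functor.map_comp_apply, Functor.map_comp_apply] at ha
    choose j a ha using key
    obtain ⟨m, b, hb'⟩ := exists_common j a
    refine ⟨m, b, eq_of_fib_cover hP (D.map b) g hg _ _ fun k => ?_⟩
    obtain ⟨d, hd⟩ := hb' k
    have h3 : fib₁ (D.map b) (g k) ≫ D.map b =
        fibLift (fib₁ (D.map b) (g k) ≫ D.map d) (fib₂ _ _)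
          (by rw [Category.assoc, ← D.map_comp, hd, fib_condition]) ≫
          fib₁ (D.map (a k)) (g k) ≫ D.map (a k) := by
      rw [← Category.assoc (fibLift _ _ _), fibLift₁, Category.assoc, ← D.map_comp, hd]
    rw [← Functor.map_comp_apply, ← Functor.map_comp_apply, ← op_comp, h3]
    simp only [op_comp, Functor.map_comp_apply]
    exact congrArg _ (ha k)
  · obtain ⟨i⟩ := IsCofiltered.nonempty (C := I)
    obtain ⟨n, Z, g, p, hZ, hb, hg⟩ := exists_finite_refinement U hU (D.obj i)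
    have key : ∀ k, ∃ (j : I) (a : j ⟶ i) (t : P.obj (op (fib (D.map a) (g k)))),
        P.map (stageProj (c := c) (g k) a).op t = P.map (fib₁ (c.π.app i) (g k)).op s := fun k => by
      haveI := hZ k
      obtain ⟨b⟩ := hb k
      exact (stageColim_fib (g k) (h (p k)) hD hc b).2 _
    choose j a t ht using key
    obtain ⟨m, b, hm⟩ := exists_common j a
    choose d hd using hm
    let σ : ∀ k, fib (D.map b) (g k) ⟶ fib (D.map (a k)) (g k) := fun k =>
      fibLift (fib₁ _ _ ≫ D.map (d k)) (fib₂ _ _) (by rw [Category.assoc, ← D.map_comp, hd, fib_condition])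
    let t' : ∀ k, P.obj (op (fib (D.map b) (g k))) := fun k => P.map (σ k).op (t k)
    have hσ : ∀ k, stageProj (c := c) (g k) b ≫ σ k = stageProj (c := c) (g k) (a k) := fun k =>
      fib_hom_ext (by rw [Category.assoc, fibLift₁, ← Category.assoc, fibLift₁, Category.assoc, c.w, fibLift₁])
        (by simp only [σ, Category.assoc, fibLift₂])
    have ht' : ∀ k, P.map (stageProj (c := c) (g k) b).op (t' k) = P.map (fib₁ (c.π.app i) (g k)).op s :=
      fun k => by rw [← Functor.map_comp_apply, ← op_comp, hσ, ht]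
    have mc : ∀ {A B C : X.ProEt} (u : A ⟶ B) (v : B ⟶ C) (x : P.obj (op C)),
        P.map u.op (P.map v.op x) = P.map (u ≫ v).op x := fun u v x => by
      rw [op_comp, Functor.map_comp_apply]
    have key₂ : ∀ kl : Fin n × Fin n, ∃ (j : I) (e : j ⟶ m), ∀ (Y : X.ProEt) (x : Y ⟶ D.obj j)
        (q : Y ⟶ fib (D.map b) (g kl.1)) (q' : Y ⟶ fib (D.map b) (g kl.2)),
        q ≫ fib₁ _ _ = x ≫ D.map e → q' ≫ fib₁ _ _ = x ≫ D.map e →
          P.map q.op (t' kl.1) = P.map q'.op (t' kl.2) := by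
      rintro ⟨k, l⟩
      haveI := hZ k
      haveI := hZ l
      obtain ⟨bk⟩ := hb k
      haveI := isAffine_fib (g k) (g l)
      let f := fib₁ (g k) (g l) ≫ g k
      let r₁ : fib (D.map b) f ⟶ fib (D.map b) (g k) :=
        fibLift (fib₁ _ _) (fib₂ _ _ ≫ fib₁ _ _) (by rw [Category.assoc]; exact fib_condition _ _)
      let r₂ : fib (D.map b) f ⟶ fib (D.map b) (g l) :=
        fibLift (fib₁ _ _) (fib₂ _ _ ≫ fib₂ _ _) (by
          rw [Category.assoc, ← fib_condition (g k) (g l)]; exact fib_condition _ _)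
      let p₁ : fib (c.π.app i) f ⟶ fib (c.π.app i) (g k) :=
        fibLift (fib₁ _ _) (fib₂ _ _ ≫ fib₁ _ _) (by rw [Category.assoc]; exact fib_condition _ _)
      let p₂ : fib (c.π.app i) f ⟶ fib (c.π.app i) (g l) :=
        fibLift (fib₁ _ _) (fib₂ _ _ ≫ fib₂ _ _) (by
          rw [Category.assoc, ← fib_condition (g k) (g l)]; exact fib_condition _ _)
      have hr₁ : stageProj (c := c) f b ≫ r₁ = p₁ ≫ stageProj (c := c) (g k) b :=
        fib_hom_ext (by simp only [r₁, p₁, Category.assoc, fibLift₁]; rw [← Category.assoc, fibLift₁])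
          (by simp only [r₁, p₁, Category.assoc, fibLift₂]; rw [← Category.assoc, fibLift₂])
      have hr₂ : stageProj (c := c) f b ≫ r₂ = p₂ ≫ stageProj (c := c) (g l) b :=
        fib_hom_ext (by simp only [r₂, p₂, Category.assoc, fibLift₁]; rw [← Category.assoc, fibLift₁])
          (by simp only [r₂, p₂, Category.assoc, fibLift₂]; rw [← Category.assoc, fibLift₂])
      obtain ⟨j', e, he⟩ := (stageColim_fib f (h (p k)) hD hc (fib₁ (g k) (g l) ≫ bk)).1 m b
        (P.map r₁.op (t' k)) (P.map r₂.op (t' l)) (by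
          have side : ∀ (k' : Fin n) (r : fib (D.map b) f ⟶ fib (D.map b) (g k'))
              (q : fib (c.π.app i) f ⟶ fib (c.π.app i) (g k')),
              stageProj (c := c) f b ≫ r = q ≫ stageProj (c := c) (g k') b → q ≫ fib₁ _ _ = fib₁ _ _ →
              P.map (stageProj (c := c) f b).op (P.map r.op (t' k')) = P.map (fib₁ (c.π.app i) f).op s :=
            fun k' r q h₁ h₂ =>
              (mc _ _ _).trans ((congrArg (fun z => P.map (Quiver.Hom.op z) (t' k')) h₁).trans
                ((mc _ _ _).symm.trans ((congrArg (P.map q.op) (ht' k')).trans ((mc _ _ _).trans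
                  (congrArg (fun z => P.map (Quiver.Hom.op z) s) h₂)))))
          exact (side k r₁ p₁ hr₁ (fibLift₁ _ _ _)).trans (side l r₂ p₂ hr₂ (fibLift₁ _ _ _)).symm)
      refine ⟨j', e, fun Y x q q' hq hq' => ?_⟩
      have hc₁ : x ≫ D.map (e ≫ b) = (q ≫ fib₂ _ _) ≫ g k := by
        rw [D.map_comp, ← Category.assoc, ← hq, Category.assoc, fib_condition, Category.assoc]
      have hc₂ : (q ≫ fib₂ _ _) ≫ g k = (q' ≫ fib₂ _ _) ≫ g l := by
        rw [← hc₁, D.map_comp, ← Category.assoc, ← hq', Category.assoc, fib_condition, Category.assoc]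
      let y : Y ⟶ fib (D.map (e ≫ b)) f := fibLift x (fibLift _ _ hc₂) (by
        rw [← Category.assoc, fibLift₁]; exact hc₁)
      have hy₁ : y ≫ stageMap f b e ≫ r₁ = q :=
        fib_hom_ext
          (by simp only [r₁, Category.assoc, fibLift₁]; rw [← Category.assoc, fibLift₁]; exact hq.symm)
          (by simp only [r₁, Category.assoc, fibLift₂]; rw [← Category.assoc (stageMap f b e), fibLift₂,
            ← Category.assoc, fibLift₂, fibLift₁])
      have hy₂ : y ≫ stageMap f b e ≫ r₂ = q' :=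
        fib_hom_ext
          (by simp only [r₂, Category.assoc, fibLift₁]; rw [← Category.assoc, fibLift₁]; exact hq'.symm)
          (by simp only [r₂, Category.assoc, fibLift₂]; rw [← Category.assoc (stageMap f b e), fibLift₂,
            ← Category.assoc, fibLift₂, fibLift₂])
      rw [← hy₁, ← hy₂]
      simp only [op_comp, Functor.map_comp_apply]
      exact congrArg _ he
    choose J₂ e₂ he₂ using key₂
    obtain ⟨m', e', hm'⟩ := exists_common (fun z => J₂ (finProdFinEquiv.symm z)) (fun z => e₂ _)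
    have hm'' : ∀ kl, ∃ w : m' ⟶ J₂ kl, w ≫ e₂ kl = e' := fun kl => by
      have aux : ∀ p, p = kl → (∃ w : m' ⟶ J₂ p, w ≫ e₂ p = e') → ∃ w : m' ⟶ J₂ kl, w ≫ e₂ kl = e' := by
        rintro p rfl h
        exact h
      exact aux _ (finProdFinEquiv.symm_apply_apply kl) (hm' (finProdFinEquiv kl))
    have hsh := (hP _ (cover_fib (D.map (e' ≫ b)) g hg))
    rw [← Presieve.isSheafFor_iff_generate] at hsh
    obtain ⟨v, hv, -⟩ := (Presieve.isSheafFor_arrows_iff _ _).1 hsh
      (fun k => P.map (stageMap (g k) b e').op (t' k)) (fun k l Y q q' hqq => by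
        obtain ⟨w, hw⟩ := hm'' (k, l)
        refine (mc _ _ _).trans ((he₂ (k, l) Y (q ≫ fib₁ _ _ ≫ D.map w) _ _ ?_ ?_).trans (mc _ _ _).symm)
        · simp only [Category.assoc, fibLift₁, ← D.map_comp, hw]
        · simp only [Category.assoc, fibLift₁, ← D.map_comp, hw]
          rw [← Category.assoc, ← Category.assoc]
          exact congrArg (· ≫ D.map e') hqq.symm)
    refine ⟨m', v, eq_of_fib_cover hP (c.π.app i) g hg _ _ fun k => ?_⟩
    have h4 : fib₁ (c.π.app i) (g k) ≫ c.π.app m' =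
        stageProj (c := c) (g k) (e' ≫ b) ≫ fib₁ _ _ := (fibLift₁ _ _ _).symm
    have h5 : stageProj (c := c) (g k) (e' ≫ b) ≫ stageMap (g k) b e' = stageProj (c := c) (g k) b :=
      fib_hom_ext (by simp only [Category.assoc, fibLift₁]; rw [← Category.assoc, fibLift₁, Category.assoc, c.w])
        (by simp only [Category.assoc, fibLift₂])
    exact (mc _ _ _).trans ((congrArg (fun z => P.map (Quiver.Hom.op z) v) h4).trans
      ((mc _ _ _).symm.trans ((congrArg (P.map (stageProj (c := c) (g k) (e' ≫ b)).op) (hv k)).trans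
        ((mc _ _ _).trans ((congrArg (fun z => P.map (Quiver.Hom.op z) (t' k)) h5).trans (ht' k))))))

end Groth.Agent.EtModEps19
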