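import Groth.Agent.Lib.EtModEps19.Forget
import Mathlib.CategoryTheory.Limits.Preserves.Finite
import Mathlib.Algebra.Homology.ShortComplex.ExactFunctor

/-! Exactness of the inverse image of modules; the essential image. -/

universe u

open CategoryTheory Limits AlgebraicGeometry Opposite

namespace Groth.Agent.EtModEps19

set_option backward.isDefEq.respectTransparency false
set_option backward.isDefEq.respectTransparency.types false
set_option linter.style.haveILetI false
set_option linter.unusedSectionVars false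
set_option maxHeartbeats 800000

variable (Λ : Type (u + 1)) [CommRing Λ] {X : Scheme.{u}}

instance preservesLimits_fgE : PreservesLimitsOfSize.{0, 0} (fgE Λ X) := by
  haveI : PreservesLimitsOfSize.{0, 0} (fgE Λ X ⋙ sheafToPresheaf X.smallEtaleTopology AddCommGrpCat.{u + 1}) :=
    inferInstanceAs (PreservesLimitsOfSize.{0, 0} (sheafToPresheaf X.smallEtaleTopology (ModuleCat.{u + 1} Λ) ⋙
      (Functor.whiskeringRight X.Etaleᵒᵖ (ModuleCat.{u + 1} Λ) AddCommGrpCat.{u + 1}).obj (UM Λ)))
  exact preservesLimits_of_reflects_of_preserves (fgE Λ X) (sheafToPresheaf X.smallEtaleTopology AddCommGrpCat.{u + 1})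

instance preservesLimits_fgP : PreservesLimitsOfSize.{0, 0} (fgP Λ X) := by
  haveI : PreservesLimitsOfSize.{0, 0} (fgP Λ X ⋙ sheafToPresheaf (Scheme.ProEt.topology X) AddCommGrpCat.{u + 1}) :=
    inferInstanceAs (PreservesLimitsOfSize.{0, 0} (sheafToPresheaf (Scheme.ProEt.topology X) (ModuleCat.{u + 1} Λ) ⋙
      (Functor.whiskeringRight X.ProEtᵒᵖ (ModuleCat.{u + 1} Λ) AddCommGrpCat.{u + 1}).obj (UM Λ)))
  exact preservesLimits_of_reflects_of_preserves (fgP Λ X) (sheafToPresheaf (Scheme.ProEt.topology X) AddCommGrpCat.{u + 1})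

instance reflectsIso_fgP : (fgP Λ X).ReflectsIsomorphisms := by
  refine ⟨fun {A B} f hf => ?_⟩
  haveI : ∀ U, IsIso (f.hom.app U) := fun U => by
    haveI : IsIso ((UM Λ).map (f.hom.app U)) :=
      inferInstanceAs (IsIso (((sheafToPresheaf (Scheme.ProEt.topology X) AddCommGrpCat.{u + 1}).map
        ((fgP Λ X).map f)).app U))
    exact isIso_of_reflects_iso (f.hom.app U) (UM Λ)
  haveI : IsIso f.hom := NatIso.isIso_of_isIso_app _
  exact (isIso_iff_of_reflects_iso _ (sheafToPresheaf (Scheme.ProEt.topology X) (ModuleCat.{u + 1} Λ))).1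
    (inferInstanceAs (IsIso f.hom))

instance additive_fgE : (fgE Λ X).Additive where
  map_add {_ _ f g} := by
    ext U
    rfl

instance additive_fgP : (fgP Λ X).Additive where
  map_add {_ _ f g} := by
    ext U
    rfl

instance faithful_fgE : (fgE Λ X).Faithful where
  map_injective {_ _ f g} h := by
    ext U x
    exact congr($(h).hom.app U x)

variable [ProEtS.EpsCont X]

instance preservesFiniteLimits_epsPullMod : PreservesFiniteLimits (EtModW.epsPullMod Λ X) := by
  haveI : PreservesFiniteLimits (fgE Λ X) := PreservesLimitsOfSize0.preservesFiniteLimits _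
  haveI : PreservesFiniteLimits (fgP Λ X) := PreservesLimitsOfSize0.preservesFiniteLimits _
  haveI : PreservesFiniteLimits (fgE Λ X ⋙ ProEtS.epsPull X) := comp_preservesFiniteLimits _ _
  haveI : PreservesFiniteLimits (EtModW.epsPullMod Λ X ⋙ fgP Λ X) :=
    preservesFiniteLimits_of_natIso (cmpIso Λ)
  haveI : ReflectsFiniteLimits (fgP Λ X) :=
    ⟨fun J _ _ => reflectsLimitsOfShape_of_reflectsIsomorphisms⟩
  exact preservesFiniteLimits_of_reflects_of_preserves (EtModW.epsPullMod Λ X) (fgP Λ X)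

instance preservesFiniteColimits_epsPullMod : PreservesFiniteColimits (EtModW.epsPullMod Λ X) :=
  haveI := (epsAdjMod (X := X) Λ).isLeftAdjoint
  inferInstance

instance preservesFiniteLimits_epsPushMod : PreservesFiniteLimits (epsPushMod (X := X) Λ) :=
  haveI := (epsAdjMod (X := X) Λ).isRightAdjoint
  inferInstance

instance additive_epsPushMod : (epsPushMod (X := X) Λ).Additive where

instance additive_epsPullMod : (EtModW.epsPullMod Λ X).Additive :=
  (epsAdjMod (X := X) Λ).left_adjoint_additive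

instance isIso_unitMod : IsIso (epsAdjMod (X := X) Λ).unit := NatIso.isIso_of_isIso_app _

instance full_epsPullMod : (EtModW.epsPullMod Λ X).Full :=
  (epsAdjMod (X := X) Λ).fullyFaithfulLOfIsIsoUnit.full

instance faithful_epsPullMod : (EtModW.epsPullMod Λ X).Faithful :=
  (epsAdjMod (X := X) Λ).fullyFaithfulLOfIsIsoUnit.faithful

/-- The restriction of a short exact sequence with first term in the essential image is surjective. -/
theorem epi_epsPush_of_iso {T : ShortComplex (ProEtS.AbP X)} (hT : T.ShortExact) (A : EtCoh.Ab X)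
    (eA : (ProEtS.epsPull X).obj A ≅ T.X₁) : Epi ((ProEtS.epsPush X).map T.g) := by
  let P := ProEtS.epsPush X
  obtain ⟨T'⟩ := RDerLES.exists_sesRes hT
  obtain ⟨w, he⟩ := (RDerLES.exact_sequences P T' 0 1 rfl).2.1
  have hz : IsZero ((P.rightDerived 1).obj T.X₁) :=
    (ProEtEps19.isZero_repsPush_eps 0 A).of_iso ((P.rightDerived 1).mapIso eA.symm)
  haveI : Epi ((P.rightDerived 0).map T.g) := he.epi_f (hz.eq_of_tgt _ _)
  have h := P.rightDerivedZeroIsoSelf.hom.naturality T.g
  haveI : Epi (P.rightDerivedZeroIsoSelf.hom.app T.X₂ ≫ P.map T.g) := h ▸ (inferInstance :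
    Epi ((P.rightDerived 0).map T.g ≫ P.rightDerivedZeroIsoSelf.hom.app T.X₃))
  exact epi_of_epi (P.rightDerivedZeroIsoSelf.hom.app T.X₂) _

theorem preservesEpi_fgP : (fgP Λ X).PreservesEpimorphisms := ⟨fun {A B} f _ => by
  haveI : Sheaf.IsLocallySurjective f := (Sheaf.isLocallySurjective_iff_epi' _ f).2 inferInstance
  refine (Sheaf.isLocallySurjective_iff_epi' _ _).1 ⟨fun {U} s => ?_⟩
  exact Presheaf.imageSieve_mem (Scheme.ProEt.topology X) f.hom s⟩

theorem shortExact_map_fgP {T : ShortComplex (EtModW.ModP Λ X)} (hT : T.ShortExact) :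
    (T.map (fgP Λ X)).ShortExact := by
  haveI := preservesEpi_fgP (X := X) Λ
  haveI : PreservesFiniteLimits (fgP Λ X) := PreservesLimitsOfSize0.preservesFiniteLimits _
  haveI := hT.mono_f
  haveI := hT.epi_g
  haveI : Mono (T.map (fgP Λ X)).f := inferInstanceAs (Mono ((fgP Λ X).map T.f))
  haveI : Epi (T.map (fgP Λ X)).g := inferInstanceAs (Epi ((fgP Λ X).map T.g))
  exact { exact := hT.exact.map_of_mono_of_preservesKernel (fgP Λ X) hT.mono_f inferInstance }

theorem weakSerre :
    (∀ (F G : EtModW.ModP Λ X) (φ : F ⟶ G), (EtModW.epsPullMod Λ X).essImage F →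
      (EtModW.epsPullMod Λ X).essImage G →
        (EtModW.epsPullMod Λ X).essImage (kernel φ) ∧ (EtModW.epsPullMod Λ X).essImage (cokernel φ)) ∧
    ∀ (T : ShortComplex (EtModW.ModP Λ X)), T.ShortExact →
      (EtModW.epsPullMod Λ X).essImage T.X₁ → (EtModW.epsPullMod Λ X).essImage T.X₃ →
        (EtModW.epsPullMod Λ X).essImage T.X₂ := by
  refine ⟨fun F G φ ⟨A, ⟨eA⟩⟩ ⟨B, ⟨eB⟩⟩ => ?_, fun T hT ⟨A, ⟨eA⟩⟩ ⟨B, ⟨eB⟩⟩ => ?_⟩
  · obtain ⟨g, hg⟩ := (EtModW.epsPullMod Λ X).map_surjective (eA.hom ≫ φ ≫ eB.inv)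
    exact ⟨⟨kernel g, ⟨PreservesKernel.iso _ g ≪≫ kernel.mapIso _ _ eA eB (by rw [hg]; simp)⟩⟩,
      ⟨cokernel g, ⟨PreservesCokernel.iso _ g ≪≫ cokernel.mapIso _ _ eA eB (by rw [hg]; simp)⟩⟩⟩
  · let P := epsPushMod (X := X) Λ
    haveI hiso : ∀ (G : EtModW.Mod Λ X) (H : EtModW.ModP Λ X) (e : (EtModW.epsPullMod Λ X).obj G ≅ H),
        IsIso ((epsAdjMod Λ).counit.app H) := fun G H e => by
      refine (NatTrans.isIso_app_iff_of_iso _ e).1 ?_
      have h := (epsAdjMod Λ).left_triangle_components G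
      haveI : IsIso ((EtModW.epsPullMod Λ X).map ((epsAdjMod Λ).unit.app G)) := inferInstance
      exact IsIso.of_isIso_fac_left h
    haveI h1 := hiso A T.X₁ eA
    haveI h3 := hiso B T.X₃ eB
    haveI := hT.mono_f
    haveI : Mono (T.map P).f := inferInstanceAs (Mono (P.map T.f))
    haveI : Epi (T.map P).g := by
      haveI := epi_epsPush_of_iso (shortExact_map_fgP Λ hT) ((fgE Λ X).obj A)
        ((cmpIso Λ).app A ≪≫ (fgP Λ X).mapIso eA)
      haveI : Epi ((fgE Λ X).map (P.map T.g)) :=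
        this
      exact (fgE Λ X).epi_of_epi_map this
    have hP : (T.map P).ShortExact :=
      { exact := hT.exact.map_of_mono_of_preservesKernel P hT.mono_f inferInstance }
    let ψ : (T.map P).map (EtModW.epsPullMod Λ X) ⟶ T :=
      { τ₁ := (epsAdjMod Λ).counit.app T.X₁
        τ₂ := (epsAdjMod Λ).counit.app T.X₂
        τ₃ := (epsAdjMod Λ).counit.app T.X₃
        comm₁₂ := ((epsAdjMod Λ).counit.naturality T.f).symm
        comm₂₃ := ((epsAdjMod Λ).counit.naturality T.g).symm }
    haveI : IsIso ψ.τ₁ := h1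
    haveI : IsIso ψ.τ₃ := h3
    haveI := ShortComplex.isIso₂_of_shortExact_of_isIso₁₃ ψ (hP.map_of_exact _) hT
    exact ⟨P.obj T.X₂, ⟨asIso ψ.τ₂⟩⟩

end Groth.Agent.EtModEps19
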