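import Groth.Agent.Lib.EtModEps19.LocSerre
import Groth.Agent.Lib.EtModEps19.AdicP
import Groth.Agent.Lib.EtModEps19.Exact
import Groth.Agent.Lib.EtMod3.PullExact
import Groth.Agent.Lib.LocConstGen24.Basic
import Mathlib.AlgebraicGeometry.PullbackCarrier
import Mathlib.AlgebraicGeometry.Morphisms.Immersion

/-! Constructible sheaves of modules form a weak Serre subcategory. -/

universe u

open CategoryTheory Limits AlgebraicGeometry Opposite ZeroObject

namespace Groth.Agent.EtModEps19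

set_option backward.isDefEq.respectTransparency false
set_option backward.isDefEq.respectTransparency.types false
set_option linter.style.haveILetI false
set_option linter.unusedSectionVars false
set_option maxHeartbeats 800000

variable {Λ : Type (u + 1)} [CommRing Λ] {X : Scheme.{u}}

instance preservesFiniteColimits_pullMod {T Y : Scheme.{u}} (p : T ⟶ Y) :
    PreservesFiniteColimits (EtModW.pull Λ p) :=
  haveI := (LocConstGen24.adjA (ModuleCat.{u + 1} Λ) p).isLeftAdjoint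
  inferInstance

theorem isFTLocConst_pull {T Y : Scheme.{u}} (p : T ⟶ Y) {F : EtModW.Mod Λ Y} (h : EtModW.IsFTLocConst Λ F) :
    EtModW.IsFTLocConst Λ ((EtModW.pull Λ p).obj F) := by
  obtain ⟨ι, U, hU, h⟩ := h
  refine ⟨ι, fun i => (EtCoh.bc p).obj (U i), LocConstGen24.covers_bc p U hU, fun i => ?_⟩
  obtain ⟨M, _, _, hM, e⟩ := h i
  exact ⟨M, inferInstance, inferInstance, hM, LocConstGen24.over_pull (ModuleCat.{u + 1} Λ) p (U i) F _ e⟩

theorem isFTLocConst_pull_comp {T Y Z : Scheme.{u}} (p : T ⟶ Y) (g : Y ⟶ Z) {F : EtModW.Mod Λ Z}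
    (h : EtModW.IsFTLocConst Λ ((EtModW.pull Λ g).obj F)) :
    EtModW.IsFTLocConst Λ ((EtModW.pull Λ (p ≫ g)).obj F) :=
  isFTLocConst_of_iso ((LocConstGen24.pullCompA (ModuleCat.{u + 1} Λ) p g).app F).symm (isFTLocConst_pull p h)

/-- A property stable on common refinements gives constructibility. -/
theorem isConstructible_two {F G H : EtModW.Mod Λ X} (hF : EtModW.IsConstructible Λ F)
    (hG : EtModW.IsConstructible Λ G)
    (hH : ∀ (T : Scheme.{u}) (g : T ⟶ X), EtModW.IsFTLocConst Λ ((EtModW.pull Λ g).obj F) →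
      EtModW.IsFTLocConst Λ ((EtModW.pull Λ g).obj G) → EtModW.IsFTLocConst Λ ((EtModW.pull Λ g).obj H)) :
    EtModW.IsConstructible Λ H := by
  intro U hU
  obtain ⟨n, T, g, hg, hgc, hgd, hgu, hgl⟩ := hF U hU
  obtain ⟨m, T', g', hg', hgc', hgd', hgu', hgl'⟩ := hG U hU
  obtain ⟨e⟩ : Nonempty (Fin n × Fin m ≃ Fin (n * m)) := ⟨finProdFinEquiv⟩
  let P : Fin n × Fin m → Scheme.{u} := fun p => pullback (g p.1) (g' p.2)
  let q : ∀ p, P p ⟶ X := fun p => pullback.fst (g p.1) (g' p.2) ≫ g p.1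
  have hr : ∀ p, Set.range (q p) = Set.range (g p.1) ∩ Set.range (g' p.2) := fun p =>
    Scheme.Pullback.range_fst_comp _ _
  refine ⟨n * m, fun i => P (e.symm i), fun i => q (e.symm i), fun i => ?_, fun i => ?_, fun i j hij => ?_, ?_,
    fun i => hH _ _ (isFTLocConst_pull_comp _ _ (hgl _)) ?_⟩
  · haveI := hg (e.symm i).1
    haveI := hg' (e.symm i).2
    infer_instance
  · rw [hr, Set.preimage_inter]
    exact (hgc _).inter (hgc' _)
  · show Disjoint (Set.range _) (Set.range _)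
    rw [hr, hr]
    by_cases h : (e.symm i).1 = (e.symm j).1
    · exact (hgd' fun h' => hij (e.symm.injective (Prod.ext h h'))).mono Set.inter_subset_right
        Set.inter_subset_right
    · exact (hgd h).mono Set.inter_subset_left Set.inter_subset_left
  · rw [e.symm.surjective.iUnion_comp fun p => Set.range (q p)]
    ext x
    simp only [Set.mem_iUnion, hr, Set.mem_inter_iff]
    refine ⟨fun ⟨p, hp, _⟩ => hgu ▸ Set.mem_iUnion.2 ⟨_, hp⟩, fun hx => ?_⟩
    obtain ⟨a, ha⟩ := Set.mem_iUnion.1 ((congrArg (x ∈ ·) hgu).mpr hx)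
    obtain ⟨b, hb⟩ := Set.mem_iUnion.1 ((congrArg (x ∈ ·) hgu').mpr hx)
    exact ⟨(a, b), ha, hb⟩
  · have hc : q (e.symm i) = pullback.snd (g (e.symm i).1) (g' (e.symm i).2) ≫ g' (e.symm i).2 :=
      pullback.condition
    exact (congrArg (fun t => EtModW.IsFTLocConst Λ ((EtModW.pull Λ t).obj G)) hc).mpr
      (isFTLocConst_pull_comp _ _ (hgl' _))

theorem isFTLocConst_of_isZero {T : Scheme.{u}} {F : EtModW.Mod Λ T} (h : IsZero F) :
    EtModW.IsFTLocConst Λ F :=
  isFTLocConst_of_pointwise fun x => ⟨EtCoh.top T, x, ModuleCat.of Λ PUnit.{u + 2}, rfl, inferInstance,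
    ⟨((T.smallEtaleTopology.overPullback (ModuleCat.{u + 1} Λ) _).map_isZero h).iso
      ((constantSheaf (T.smallEtaleTopology.over _) (ModuleCat.{u + 1} Λ)).map_isZero
        (ModuleCat.isZero_of_subsingleton _))⟩⟩

theorem isConstructible_of_isZero {F : EtModW.Mod Λ X} (h : IsZero F) : EtModW.IsConstructible Λ F := by
  intro U _
  refine ⟨1, fun _ => U.toScheme, fun _ => U.ι, fun _ => inferInstance, fun _ => ?_,
    fun i j hij => absurd (Subsingleton.elim i j) hij, ?_,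
    fun _ => isFTLocConst_of_isZero ((EtModW.pull Λ U.ι).map_isZero h)⟩
  · rw [U.range_ι, Subtype.coe_preimage_self]
    exact Topology.IsConstructible.univ
  · rw [Set.iUnion_const, U.range_ι]

variable [IsNoetherianRing Λ] [ProEtS.EpsCont X]

theorem isWeakSerre_constructibleP :
    WSerre.IsWeakSerre (fun F : EtModW.ModP Λ X =>
      ∃ E : EtModW.Mod Λ X, EtModW.IsConstructible Λ E ∧ Nonempty ((EtModW.epsPullMod Λ X).obj E ≅ F)) := by
  let ε := EtModW.epsPullMod Λ X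
  let P : ObjectProperty (EtModW.ModP Λ X) := fun F =>
    ∃ E : EtModW.Mod Λ X, EtModW.IsConstructible Λ E ∧ Nonempty (ε.obj E ≅ F)
  haveI : P.ContainsZero :=
    ⟨ε.obj (0 : EtModW.Mod Λ X), ε.map_isZero (isZero_zero _), 0,
      isConstructible_of_isZero (isZero_zero _), ⟨Iso.refl _⟩⟩
  haveI : P.IsClosedUnderKernels := ⟨by
    rintro K ⟨φ, k, hk, ⟨⟨A, hA, ⟨eA⟩⟩, ⟨B, hB, ⟨eB⟩⟩⟩⟩
    obtain ⟨g, hg⟩ := ε.map_surjective (eA.hom ≫ φ ≫ eB.inv)
    refine ⟨kernel g, isConstructible_two hA hB fun T t h h' => isFTLocConst_of_iso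
      (PreservesKernel.iso (EtModW.pull Λ t) g).symm (isFTLocConst_kernel _ h h'),
      ⟨PreservesKernel.iso ε g ≪≫ kernel.mapIso _ _ eA eB (by rw [hg]; simp) ≪≫
        IsLimit.conePointUniqueUpToIso (limit.isLimit _) hk⟩⟩⟩
  haveI : P.IsClosedUnderCokernels := ⟨by
    rintro K ⟨φ, k, hk, ⟨⟨A, hA, ⟨eA⟩⟩, ⟨B, hB, ⟨eB⟩⟩⟩⟩
    obtain ⟨g, hg⟩ := ε.map_surjective (eA.hom ≫ φ ≫ eB.inv)
    refine ⟨cokernel g, isConstructible_two hA hB fun T t h h' => isFTLocConst_of_iso
      (PreservesCokernel.iso (EtModW.pull Λ t) g).symm (isFTLocConst_cokernel _ h h'),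
      ⟨PreservesCokernel.iso ε g ≪≫ cokernel.mapIso _ _ eA eB (by rw [hg]; simp) ≪≫
        IsColimit.coconePointUniqueUpToIso (colimit.isColimit _) hk⟩⟩⟩
  haveI : P.IsClosedUnderExtensions := ⟨fun {T} hT => by
    rintro ⟨A, hA, ⟨eA⟩⟩ ⟨B, hB, ⟨eB⟩⟩
    obtain ⟨E, ⟨eE⟩⟩ := (weakSerre (X := X) Λ).2 T hT ⟨A, ⟨eA⟩⟩ ⟨B, ⟨eB⟩⟩
    obtain ⟨f, hf⟩ := ε.map_surjective (eA.hom ≫ T.f ≫ eE.inv)
    obtain ⟨g, hg⟩ := ε.map_surjective (eE.hom ≫ T.g ≫ eB.inv)
    let S : ShortComplex (EtModW.Mod Λ X) := ShortComplex.mk f g (ε.map_injective (by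
      rw [Functor.map_comp, hf, hg, Functor.map_zero]; simp))
    let e : S.map ε ≅ T := ShortComplex.isoMk eA eE eB 
      (show eA.hom ≫ T.f = ε.map f ≫ eE.hom by rw [hf]; simp)
      (show eE.hom ≫ T.g = ε.map g ≫ eB.hom by rw [hg]; simp)
    have hS' : (S.map ε).ShortExact := ShortComplex.shortExact_of_iso e.symm hT
    haveI : Mono (ε.map S.f) := hS'.mono_f
    haveI : Epi (ε.map S.g) := hS'.epi_g
    have hS : S.ShortExact :=
      ShortComplex.ShortExact.mk' ((ShortComplex.exact_map_iff_of_faithful S ε).1 hS'.exact)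
        (ε.mono_of_mono_map (inferInstanceAs (Mono (ε.map S.f))))
        (ε.epi_of_epi_map (inferInstanceAs (Epi (ε.map S.g))))
    exact ⟨E, isConstructible_two hA hB fun Z t h h' => isFTLocConst_X₂ (hS.map_of_exact (EtModW.pull Λ t)) h h',
      ⟨eE⟩⟩⟩
  exact { }

end Groth.Agent.EtModEps19
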