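import Groth.Agent.Lib.EtModEps19.HomCls
import Groth.Agent.Lib.EtModEps19.Exact
import Groth.Agent.Lib.ProEtEps19.BasCover

/-! Locally constant sheaves of finite presentation come from the étale site. -/

universe u

open CategoryTheory Limits AlgebraicGeometry Opposite

namespace Groth.Agent.EtModEps19

set_option backward.isDefEq.respectTransparency false
set_option backward.isDefEq.respectTransparency.types false
set_option linter.style.haveILetI false
set_option linter.unusedSectionVars false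
set_option maxHeartbeats 800000

open Groth.Agent.ProEtWC Groth.Agent.ProEtEps19

variable {Λ : Type (u + 1)} [CommRing Λ] {X : Scheme.{u}}

theorem exists_etale_system {Y : X.ProEt} (hY : Bas Y) :
    ∃ (J : Type u) (_ : SmallCategory J) (_ : IsCofiltered J) (D : J ⥤ X.ProEt) (π : (Functor.const J).obj Y ⟶ D),
      (∀ j, IsAffine (D.obj j).left) ∧ Nonempty (IsLimit ((toSch X).mapCone ⟨Y, π⟩)) ∧
      ∀ j, ∃ V : X.Etale, (ProEtS.eps X).obj V = D.obj j := by
  obtain ⟨U, g, hU, hg⟩ := hY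
  obtain ⟨J, _, _, R, s, t, ht, hst⟩ := hg.ind
  haveI := hg.affine₁
  haveI : IsAffine ((ProEtS.eps X).obj U).left := hU
  let Y₀ := (ProEtS.eps X).obj U
  let D := specSys Y₀ s fun j => (hst j).1
  let c := specCone Y₀ s (fun j => (hst j).1) g t fun j => (hst j).2
  refine ⟨Jᵒᵖ, inferInstance, inferInstance, D, c.π, fun j => inferInstance,
    ⟨isLimitSpecCone Y₀ s (fun j => (hst j).1) g t (fun j => (hst j).2) ht⟩, fun j => ?_⟩
  haveI : Etale Y₀.hom := U.prop
  haveI := etale_specGam Y₀ s (fun j => (hst j).1) j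
  haveI : Etale (D.obj j).hom := by
    have := MorphismProperty.Over.w ((specGam Y₀ s fun j => (hst j).1).app j)
    rw [← this]
    exact inferInstanceAs (Etale (((specGam Y₀ s fun j => (hst j).1).app j).left ≫ Y₀.hom))
  exact ⟨Scheme.Etale.mk (D.obj j).hom, rfl⟩

variable [ProEtS.EpsCont X]

theorem counit_bijective_eps (G : EtModW.ModP Λ X) (V : X.Etale) :
    Function.Bijective (((epsAdjMod Λ).counit.app G).hom.app (op ((ProEtS.eps X).obj V))) := by
  let F := (epsPushMod Λ).obj G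
  have key : ∀ t, ((epsAdjMod Λ).counit.app G).hom.app (op ((ProEtS.eps X).obj V)) (unM Λ F V t) = t := fun t =>
    congr($((epsAdjMod (X := X) Λ).right_triangle_components G).hom.app (op V) t)
  refine ⟨fun a b h => ?_, fun t => ⟨unM Λ F V t, key t⟩⟩
  obtain ⟨a', rfl⟩ := (unM_bijective Λ F V).2 a
  obtain ⟨b', rfl⟩ := (unM_bijective Λ F V).2 b
  rw [key, key] at h
  rw [h]

theorem isIso_counit_of_clsM {G : EtModW.ModP Λ X} (hG : ClsM G) : IsIso ((epsAdjMod Λ).counit.app G) := by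
  haveI : IsIso ((fgP Λ X).map ((epsAdjMod Λ).counit.app G)) := by
    refine isIso_of_bijective_bas _ fun Y hY => ?_
    obtain ⟨J, _, _, D, π, hD, ⟨hc⟩, hV⟩ := exists_etale_system hY
    let E := (EtModW.epsPullMod Λ X).obj ((epsPushMod Λ).obj G)
    let φ : E ⟶ G := (epsAdjMod Λ).counit.app G
    have hb : ∀ j, Function.Bijective (φ.hom.app (op (D.obj j))) := fun j => by
      obtain ⟨V, hV⟩ := hV j
      rw [← hV]
      exact counit_bijective_eps G V
    obtain ⟨hinjE, hsurjE⟩ := clsM_epsPull ((epsPushMod Λ).obj G) D hD ⟨Y, π⟩ hc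
    obtain ⟨hinjG, hsurjG⟩ := hG D hD ⟨Y, π⟩ hc
    show Function.Bijective (φ.hom.app (op Y))
    refine ⟨fun a b h => ?_, fun s => ?_⟩
    · rw [← sub_eq_zero, ← map_sub] at h
      rw [← sub_eq_zero]
      obtain ⟨j, x, hx⟩ := hsurjE (a - b)
      have hx' : E.obj.map (π.app j).op x = a - b := hx
      have h0 : G.obj.map (π.app j).op (φ.hom.app (op (D.obj j)) x) = G.obj.map (π.app j).op 0 := by
        refine Eq.trans ?_ (map_zero _).symm
        refine (NatTrans.naturality_apply φ.hom (π.app j).op x).symm.trans ?_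
        exact (congrArg _ hx').trans h
      obtain ⟨k, e, he⟩ := hinjG j _ 0 h0
      have he' : φ.hom.app (op (D.obj k)) (E.obj.map (D.map e).op x) = φ.hom.app (op (D.obj k)) 0 := by
        refine (NatTrans.naturality_apply φ.hom (D.map e).op x).trans ?_
        have he₀ : G.obj.map (D.map e).op (φ.hom.app (op (D.obj j)) x) = G.obj.map (D.map e).op 0 := he
        exact (he₀.trans (map_zero _)).trans (map_zero _).symm
      have hw : π.app k ≫ D.map e = π.app j := (Category.id_comp _).symm.trans (π.naturality e).symm |>.symm |>.symm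
      rw [← hx', ← hw, op_comp, Functor.map_comp_apply, (hb k).1 he', map_zero]
    · obtain ⟨j, t, ht⟩ := hsurjG s
      obtain ⟨x, hx⟩ := (hb j).2 t
      exact ⟨E.obj.map (π.app j).op x, (NatTrans.naturality_apply φ.hom (π.app j).op x).trans
        ((congrArg _ hx).trans ht)⟩
  exact isIso_of_reflects_iso _ (fgP Λ X)

theorem locPres_const (M : ModuleCat.{u + 1} Λ) [Module.FinitePresentation Λ M] : LocPres (cP Λ X M) := by
  refine ⟨PUnit, fun _ => ProEtS.topP X, ?_, fun _ => ⟨M, inferInstance, ⟨Iso.refl _⟩⟩⟩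
  refine GrothendieckTopology.superset_covering _ ?_ ((Scheme.ProEt.topology X).top_mem _)
  intro Y f _
  exact ⟨ProEtS.topP X, f, _, ⟨PUnit.unit⟩, by
    refine MorphismProperty.Over.Hom.ext ?_
    exact Category.comp_id _⟩

theorem exists_etale_triv {G : EtModW.ModP Λ X} (hG : LocPres G) (x : X) :
    ∃ (V : X.Etale) (v : V.left) (M : ModuleCat.{u + 1} Λ), V.hom v = x ∧ Module.FinitePresentation Λ M ∧
      Nonempty ((Over.forget ((ProEtS.eps X).obj V)).op ⋙ G.obj ≅
        (Over.forget ((ProEtS.eps X).obj V)).op ⋙ (cP Λ X M).obj) := by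
  have hG' := hG
  obtain ⟨ι, U, hU, h⟩ := hG'
  obtain ⟨W₀, g₀, w₀, ⟨U', a₀, b₀, hb₀, -⟩, hw₀⟩ := exists_point_of_cover hU (x : (ProEtS.topP X).left)
  obtain ⟨i⟩ := hb₀
  obtain ⟨κ, W, g, hg, hW⟩ := exists_bas_cover (U i)
  obtain ⟨W₁, g₁, w₁, ⟨W', a₁, b₁, hb₁, he₁⟩, hw₁⟩ := exists_point_of_cover hg (a₀.left w₀)
  obtain ⟨k⟩ := hb₁
  obtain ⟨M, hM, ⟨α⟩⟩ := h i
  haveI := hM
  obtain ⟨J, _, _, D, π, hD, ⟨hc⟩, hV⟩ := exists_etale_system (hW k).1
  let α' : (Over.forget (W k)).op ⋙ G.obj ≅ (Over.forget (W k)).op ⋙ (cP Λ X M).obj :=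
    Functor.isoWhiskerLeft (Over.map (g k)).op α
  have hC : ClsM (cP Λ X M) := clsM_const M
  have hGc : ClsM G := clsM_of_locPres hG
  obtain ⟨-, hsGC⟩ := cls_presheafHom hG (S := cP Λ X M) @hC D hD ⟨W k, π⟩ hc
  obtain ⟨-, hsCG⟩ := cls_presheafHom (locPres_const M) (S := G) @hGc D hD ⟨W k, π⟩ hc
  obtain ⟨hiGG, -⟩ := cls_presheafHom hG (S := G) @hGc D hD ⟨W k, π⟩ hc
  obtain ⟨hiCC, -⟩ := cls_presheafHom (locPres_const M) (S := cP Λ X M) @hC D hD ⟨W k, π⟩ hc
  obtain ⟨j₁, s₁, hs₁⟩ := hsGC α'.hom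
  obtain ⟨j₂, t₂, ht₂⟩ := hsCG α'.inv
  have hw : ∀ {a b : J} (e : a ⟶ b), π.app a ≫ D.map e = π.app b := fun e =>
    (Cone.w (⟨W k, π⟩ : Cone D) e)
  have mc : ∀ (P Q : X.ProEtᵒᵖ ⥤ ModuleCat.{u + 1} Λ) {A B C : X.ProEt} (e : A ⟶ B) (f : B ⟶ C)
      (z : (presheafHom P Q).obj (op C)), (presheafHom P Q).map e.op ((presheafHom P Q).map f.op z) =
        (presheafHom P Q).map (e ≫ f).op z := fun P Q A B C e f z => by
    rw [op_comp, Functor.map_comp_apply]
  let p₁ : IsCofiltered.min j₁ j₂ ⟶ j₁ := IsCofiltered.minToLeft j₁ j₂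
  let p₂ : IsCofiltered.min j₁ j₂ ⟶ j₂ := IsCofiltered.minToRight j₁ j₂
  let j := IsCofiltered.min j₁ j₂
  let s : (Over.forget (D.obj j)).op ⋙ G.obj ⟶ (Over.forget (D.obj j)).op ⋙ (cP Λ X M).obj :=
    (presheafHom G.obj (cP Λ X M).obj).map (D.map p₁).op s₁
  let t : (Over.forget (D.obj j)).op ⋙ (cP Λ X M).obj ⟶ (Over.forget (D.obj j)).op ⋙ G.obj :=
    (presheafHom (cP Λ X M).obj G.obj).map (D.map p₂).op t₂
  have hs : (presheafHom G.obj (cP Λ X M).obj).map (π.app j).op s = α'.hom :=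
    (mc _ _ _ _ _).trans ((congrArg (fun q => (presheafHom G.obj (cP Λ X M).obj).map (Quiver.Hom.op q) s₁)
      (hw p₁)).trans hs₁)
  have ht : (presheafHom (cP Λ X M).obj G.obj).map (π.app j).op t = α'.inv :=
    (mc _ _ _ _ _).trans ((congrArg (fun q => (presheafHom (cP Λ X M).obj G.obj).map (Quiver.Hom.op q) t₂)
      (hw p₂)).trans ht₂)
  obtain ⟨k₁, e₁, h₁⟩ := hiGG j (s ≫ t : (Over.forget (D.obj j)).op ⋙ G.obj ⟶ _) (𝟙 _) (by
    show Functor.whiskerLeft (Over.map (π.app j)).op (s ≫ t) = Functor.whiskerLeft (Over.map (π.app j)).op (𝟙 _)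
    rw [Functor.whiskerLeft_comp, Functor.whiskerLeft_id']
    exact (congrArg₂ (· ≫ ·) hs ht).trans α'.hom_inv_id)
  obtain ⟨k₂, e₂, h₂⟩ := hiCC j (t ≫ s : (Over.forget (D.obj j)).op ⋙ (cP Λ X M).obj ⟶ _) (𝟙 _) (by
    show Functor.whiskerLeft (Over.map (π.app j)).op (t ≫ s) = Functor.whiskerLeft (Over.map (π.app j)).op (𝟙 _)
    rw [Functor.whiskerLeft_comp, Functor.whiskerLeft_id']
    exact (congrArg₂ (· ≫ ·) ht hs).trans α'.inv_hom_id)
  obtain ⟨l, c₁, c₂, hcc⟩ := IsCofiltered.cospan e₁ e₂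
  obtain ⟨V, hVl⟩ := hV l
  let β : (Over.forget (D.obj l)).op ⋙ G.obj ≅ (Over.forget (D.obj l)).op ⋙ (cP Λ X M).obj :=
    { hom := (presheafHom G.obj (cP Λ X M).obj).map (D.map (c₁ ≫ e₁)).op s
      inv := (presheafHom (cP Λ X M).obj G.obj).map (D.map (c₁ ≫ e₁)).op t
      hom_inv_id := by
        show Functor.whiskerLeft (Over.map (D.map (c₁ ≫ e₁))).op (s ≫ t) = _
        have := congrArg ((presheafHom G.obj G.obj).map (D.map c₁).op) h₁
        rw [mc, mc, ← D.map_comp] at this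
        exact this.trans (Functor.whiskerLeft_id' _)
      inv_hom_id := by
        show Functor.whiskerLeft (Over.map (D.map (c₁ ≫ e₁))).op (t ≫ s) = _
        have := congrArg ((presheafHom (cP Λ X M).obj (cP Λ X M).obj).map (D.map c₂).op) h₂
        rw [mc, mc, ← D.map_comp, ← hcc] at this
        exact this.trans (Functor.whiskerLeft_id' _) }
  have hpt : ∃ z : (D.obj l).left, (D.obj l).hom z = x := by
    refine ⟨(π.app l).left (a₁.left w₁), ?_⟩
    have e1 : (D.obj l).hom ((π.app l).left (a₁.left w₁)) = (W k).hom (a₁.left w₁) :=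
      congr($(MorphismProperty.Over.w (π.app l)) (a₁.left w₁))
    have e2 : (U i).hom ((g k).left (a₁.left w₁)) = (W k).hom (a₁.left w₁) :=
      congr($(MorphismProperty.Over.w (g k)) (a₁.left w₁))
    have e3 : (g k).left (a₁.left w₁) = g₁.left w₁ := congr($(left_eq he₁) w₁)
    have e4 : (U i).hom (a₀.left w₀) = W₀.hom w₀ := congr($(MorphismProperty.Over.w a₀) w₀)
    have e5 : W₀.hom w₀ = x := by
      rw [← hw₀]
      exact congr($((MorphismProperty.Over.w g₀).symm.trans (Category.comp_id g₀.left)) w₀)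
    rw [e1, ← e2, e3, hw₁, e4, e5]
  rw [← hVl] at hpt
  obtain ⟨v, hv⟩ := hpt
  refine ⟨V, v, M, hv, hM, ?_⟩
  rw [hVl]
  exact ⟨β⟩

/-- The constant sheaf on the étale site over an object. -/
noncomputable def constOverEt (V : X.Etale) (M : ModuleCat.{u + 1} Λ) :
    (constantSheaf (X.smallEtaleTopology.over V) (ModuleCat.{u + 1} Λ)).obj M ≅
      ((constantSheaf X.smallEtaleTopology (ModuleCat.{u + 1} Λ)).obj M).over V :=
  ((Over.forget V).pushforwardContinuousSheafificationCompatibility (ModuleCat.{u + 1} Λ)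
    (X.smallEtaleTopology.over V) X.smallEtaleTopology).app ((Functor.const _).obj M)

/-- Restrictions of trivialisations to the étale site. -/
noncomputable def trivEt {G : EtModW.ModP Λ X} {V : X.Etale} {M : ModuleCat.{u + 1} Λ}
    (β : (Over.forget ((ProEtS.eps X).obj V)).op ⋙ G.obj ≅
      (Over.forget ((ProEtS.eps X).obj V)).op ⋙ (cP Λ X M).obj) :
    EtModW.restr Λ ((epsPushMod Λ).obj G) V ≅
      (constantSheaf (X.smallEtaleTopology.over V) (ModuleCat.{u + 1} Λ)).obj M :=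
  let C := (constantSheaf X.smallEtaleTopology (ModuleCat.{u + 1} Λ)).obj M
  let γ : (epsPushMod Λ).obj (cP Λ X M) ≅ C :=
    (epsPushMod Λ).mapIso (constIsoM Λ M) ≪≫ (asIso ((epsAdjMod Λ).unit.app C)).symm
  (fullyFaithfulSheafToPresheaf _ _).preimageIso (X := EtModW.restr Λ ((epsPushMod Λ).obj G) V)
      (Y := EtModW.restr Λ ((epsPushMod Λ).obj (cP Λ X M)) V)
      (Functor.isoWhiskerLeft (Over.post (ProEtS.eps X)).op β) ≪≫
    (X.smallEtaleTopology.overPullback (ModuleCat.{u + 1} Λ) V).mapIso γ ≪≫ (constOverEt V M).symm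

theorem exists_of_locPres {G : EtModW.ModP Λ X} (hG : LocPres G) :
    ∃ F : EtModW.Mod Λ X, EtModW.IsFPLocConst Λ F ∧ Nonempty ((EtModW.epsPullMod Λ X).obj F ≅ G) := by
  have hc : ClsM G := clsM_of_locPres hG
  haveI := isIso_counit_of_clsM @hc
  refine ⟨(epsPushMod Λ).obj G, ?_, ⟨asIso ((epsAdjMod Λ).counit.app G)⟩⟩
  choose V v M hv hM hiso using exists_etale_triv hG
  exact ⟨X, V, fun x => ⟨x, v x, hv x⟩, fun x => ⟨M x, inferInstance, inferInstance, hM x, ⟨trivEt (hiso x).some⟩⟩⟩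

end Groth.Agent.EtModEps19
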