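import Groth.Agent.Lib.EtModEps19.RecollMod
import Groth.Agent.Lib.EtModEps19.Descend
import Groth.Agent.Lib.EtModEps19.ConstrP
import Groth.Agent.Lib.ProEtWC.Cont
import Groth.Agent.Lib.ProEtWC.Glue
import Mathlib.CategoryTheory.Adjunction.Unique

/-! Classical sheaves of modules: behaviour under restriction. -/

universe u

open CategoryTheory Limits AlgebraicGeometry Opposite Set

namespace Groth.Agent.EtModEps19

set_option backward.isDefEq.respectTransparency false
set_option backward.isDefEq.respectTransparency.types false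
set_option linter.style.haveILetI false
set_option linter.unusedSectionVars false
set_option maxHeartbeats 800000

open Groth.Agent.ProEtEps19 (toSch)

variable (Λ : Type (u + 1)) [CommRing Λ] {U V X : Scheme.{u}}

theorem coverPreserving_compP (j : U ⟶ X) [WeaklyEtale j] :
    CoverPreserving (Scheme.ProEt.topology U) (Scheme.ProEt.topology X) (ProEtS.compP j) := by
  constructor
  intro W S hS
  haveI : PreservesLimitsOfShape WalkingCospan (Scheme.ProEt.forget U ⋙ Over.forget U) :=
    comp_preservesLimitsOfShape _ _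
  haveI : (Scheme.ProEt.precoverage U).IsStableUnderComposition :=
    inferInstanceAs (Scheme.proetalePrecoverage.comap _).IsStableUnderComposition
  haveI : (Scheme.ProEt.precoverage U).IsStableUnderBaseChange :=
    inferInstanceAs (Scheme.proetalePrecoverage.comap _).IsStableUnderBaseChange
  haveI : (Scheme.ProEt.precoverage U).HasIsos :=
    inferInstanceAs (Scheme.proetalePrecoverage.comap _).HasIsos
  obtain ⟨T, hT, hle⟩ := Precoverage.mem_toGrothendieck_iff_of_isStableUnderComposition.1 hS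
  obtain ⟨ι, O, g, rfl⟩ := T.exists_eq_ofArrows
  have hT' : (Presieve.ofArrows O g).map (Scheme.ProEt.forget U ⋙ Over.forget U) ∈
    Scheme.proetalePrecoverage W.left := hT
  rw [Presieve.map_ofArrows] at hT'
  refine GrothendieckTopology.superset_covering _
    (S := Sieve.generate (Presieve.ofArrows (fun i ↦ (ProEtS.compP j).obj (O i))
      fun i ↦ (ProEtS.compP j).map (g i))) ?_ (Precoverage.generate_mem_toGrothendieck ?_)
  · rw [Sieve.generate_le_iff, Presieve.ofArrows_le_iff]
    exact fun i ↦ Sieve.image_mem_functorPushforward _ _ (hle _ _ ⟨i⟩)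
  · show (Presieve.ofArrows (fun i ↦ (ProEtS.compP j).obj (O i))
      fun i ↦ (ProEtS.compP j).map (g i)).map (Scheme.ProEt.forget X ⋙ Over.forget X) ∈
      Scheme.proetalePrecoverage ((ProEtS.compP j).obj W).left
    rw [Presieve.map_ofArrows]
    exact hT'

/-- An object mapping to the image of the open comes from the open. -/
noncomputable def compPLift (j : U ⟶ X) [IsOpenImmersion j] {W : U.ProEt} {T : X.ProEt}
    (g : T ⟶ (ProEtS.compP j).obj W) : Σ T' : U.ProEt, (ProEtS.compP j).obj T' ≅ T :=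
  have e : g.left ≫ W.hom ≫ j = T.hom := MorphismProperty.Over.w g
  haveI : WeaklyEtale g.left := ProEtWC.weaklyEtale_left g
  haveI : WeaklyEtale W.hom := W.prop
  ⟨Scheme.ProEt.mk (g.left ≫ W.hom),
    MorphismProperty.Over.isoMk (Iso.refl _)
      ((Category.id_comp T.hom).trans (e.symm.trans (Category.assoc _ _ _).symm))⟩

theorem jPCont (j : U ⟶ X) [IsOpenImmersion j] : ProEtS.JPCont j :=
  haveI := ProEtWC.full_compP j
  haveI := ProEtWC.faithful_compP j
  Functor.isContinuous_of_coverPreserving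
    (compatiblePreservingOfDownwardsClosed _ (ProEtS.compP j) fun g => compPLift j g)
    (coverPreserving_compP j)

/-- Restriction to an open is the inverse image. -/
noncomputable def restrPullR (j : U ⟶ X) [IsOpenImmersion j] [ProEtS.JPCont j] [ProEtS.PCont j] :
    restrR Λ j ≅ pullR Λ j :=
  (restrPushR Λ j).leftAdjointUniq (pullPushR Λ j)

/-- Inverse images compose. -/
noncomputable def pullRComp (f : U ⟶ V) (g : V ⟶ X) [ProEtS.PCont f] [ProEtS.PCont g] [ProEtS.PCont (f ≫ g)] :
    pullR Λ (f ≫ g) ≅ pullR Λ g ⋙ pullR Λ f :=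
  Adjunction.leftAdjointUniq (pullPushR Λ (f ≫ g))
    (((pullPushR Λ g).comp (pullPushR Λ f)).ofNatIsoRight
      (Functor.sheafPushforwardContinuousComp' (F := ProEtS.bcP g) (G := ProEtS.bcP f)
        (FG := ProEtS.bcP (f ≫ g))
        (MorphismProperty.Over.pullbackComp (P := @WeaklyEtale) (Q := ⊤) f g).symm
        (ModuleCat.{u + 1} Λ) (Scheme.ProEt.topology X) (Scheme.ProEt.topology V) (Scheme.ProEt.topology U)))

/-- Inverse image commutes with `ε⁻¹`. -/
noncomputable def pullEpsR (g : U ⟶ X) [ProEtS.PCont g] [ProEtS.EpsCont U] [ProEtS.EpsCont X] :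
    EtModW.pull Λ g ⋙ EtModW.epsPullMod Λ U ≅ EtModW.epsPullMod Λ X ⋙ pullR Λ g :=
  Adjunction.leftAdjointUniq
    ((LocConstGen24.adjA (ModuleCat.{u + 1} Λ) g).comp (epsAdjMod (X := U) Λ))
    (((epsAdjMod (X := X) Λ).comp (pullPushR Λ g)).ofNatIsoRight (Iso.refl _))

theorem isZero_of_isEmpty [IsEmpty X] (G : EtModW.ModP Λ X) : IsZero G := by
  rw [IsZero.iff_id_eq_zero]
  ext W x
  haveI : IsEmpty W.unop.left := @Function.isEmpty _ _ ‹IsEmpty X› (fun w => W.unop.hom.base w)
  haveI : Subsingleton (G.obj.obj W) := ProEtWC.subsingleton_of_isEmpty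
    ((sheafCompose _ (CategoryTheory.forget (ModuleCat.{u + 1} Λ))).obj G) W.unop
  exact Subsingleton.elim _ _

variable {Λ}

/-- A sheaf which comes from the étale site. -/
def EssP [ProEtS.EpsCont X] (G : EtModW.ModP Λ X) : Prop :=
  ∃ E : EtModW.Mod Λ X, Nonempty ((EtModW.epsPullMod Λ X).obj E ≅ G)

theorem EssP.clsM [ProEtS.EpsCont X] {G : EtModW.ModP Λ X} (h : EssP G) : ClsM G := by
  obtain ⟨E, ⟨e⟩⟩ := h
  exact clsM_of_iso e.symm (clsM_epsPull E)

theorem essP_of_clsM [ProEtS.EpsCont X] {G : EtModW.ModP Λ X} (h : ClsM G) : EssP G := by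
  haveI := isIso_counit_of_clsM @h
  exact ⟨_, ⟨asIso ((epsAdjMod Λ).counit.app G)⟩⟩

theorem essP_of_iso [ProEtS.EpsCont X] {G G' : EtModW.ModP Λ X} (e : G ≅ G') (h : EssP G) : EssP G' := by
  obtain ⟨E, ⟨e'⟩⟩ := h
  exact ⟨E, ⟨e' ≪≫ e⟩⟩

theorem essP_of_isZero [ProEtS.EpsCont X] {G : EtModW.ModP Λ X} (h : IsZero G) : EssP G := by
  haveI : (EtModW.epsPullMod Λ X).IsLeftAdjoint := (epsAdjMod Λ).isLeftAdjoint
  exact ⟨(epsPushMod Λ).obj G,
    ⟨((EtModW.epsPullMod Λ X).map_isZero ((epsPushMod Λ).map_isZero h)).iso h⟩⟩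

theorem essP_pullR [ProEtS.EpsCont U] [ProEtS.EpsCont X] (g : U ⟶ X) [ProEtS.PCont g] {G : EtModW.ModP Λ X}
    (h : EssP G) : EssP ((pullR Λ g).obj G) := by
  obtain ⟨E, ⟨e⟩⟩ := h
  exact ⟨(EtModW.pull Λ g).obj E, ⟨(pullEpsR Λ g).app E ≪≫ (pullR Λ g).mapIso e⟩⟩

theorem clsOver_of_restr (j : U ⟶ X) [IsOpenImmersion j] [ProEtS.JPCont j] {G : EtModW.ModP Λ X}
    (h : ClsM ((restrR Λ j).obj G)) :
    ClsOver (G.obj ⋙ CategoryTheory.forget (ModuleCat.{u + 1} Λ)) ((ProEtS.compP j).obj (ProEtS.topP U)) := by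
  intro I _ _ D hD c hc i₀ b₀
  let lft : ∀ (T : X.ProEt), (T ⟶ (ProEtS.compP j).obj (ProEtS.topP U)) → U.ProEt := fun T b =>
    (compPLift j b).1
  let D' : Over i₀ ⥤ U.ProEt :=
    { obj := fun a => lft (D.obj a.left) (D.map a.hom ≫ b₀)
      map := fun {a a'} m => MorphismProperty.Over.homMk (D.map m.left).left (by
        show (D.map m.left).left ≫ (D.map a'.hom ≫ b₀).left ≫ 𝟙 U = (D.map a.hom ≫ b₀).left ≫ 𝟙 U
        exact (Category.assoc _ _ _).symm.trans (congrArg (fun z => z.left ≫ 𝟙 U)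
          (show D.map m.left ≫ D.map a'.hom ≫ b₀ = D.map a.hom ≫ b₀ by
            rw [← Category.assoc, ← D.map_comp, Over.w])))
      map_id := fun a => MorphismProperty.Over.Hom.ext (congrArg (fun z => z.left) (D.map_id a.left))
      map_comp := fun m m' => MorphismProperty.Over.Hom.ext
        (congrArg (fun z => z.left) (D.map_comp m.left m'.left)) }
  let c' : Cone D' :=
    { pt := lft c.pt (c.π.app i₀ ≫ b₀)
      π :=
        { app := fun a => MorphismProperty.Over.homMk (c.π.app a.left).left (by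
            show (c.π.app a.left).left ≫ (D.map a.hom ≫ b₀).left ≫ 𝟙 U = (c.π.app i₀ ≫ b₀).left ≫ 𝟙 U
            exact (Category.assoc _ _ _).symm.trans (congrArg (fun z => z.left ≫ 𝟙 U)
              (show c.π.app a.left ≫ D.map a.hom ≫ b₀ = c.π.app i₀ ≫ b₀ by
                rw [← Category.assoc, c.w])))
          naturality := fun a a' m => MorphismProperty.Over.Hom.ext (by
            show 𝟙 _ ≫ (c.π.app a'.left).left = (c.π.app a.left).left ≫ (D.map m.left).left
            rw [Category.id_comp]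
            exact (congrArg (fun z => z.left) (c.w m.left)).symm) } }
  have hc' : IsLimit ((toSch U).mapCone c') :=
    ((Functor.Initial.isLimitWhiskerEquiv (Over.forget i₀) ((toSch X).mapCone c)).symm hc).ofIsoLimit
      (Cone.ext (Iso.refl _) fun a => (Category.id_comp _).symm)
  obtain ⟨hinj, hsurj⟩ := h D' (fun a => hD a.left) c' hc'
  let P := G.obj ⋙ CategoryTheory.forget (ModuleCat.{u + 1} Λ)
  let α : ∀ a : Over i₀, (ProEtS.compP j).obj (D'.obj a) ≅ D.obj a.left := fun a => (compPLift j _).2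
  let αc : (ProEtS.compP j).obj c'.pt ≅ c.pt := (compPLift j _).2
  have hα : ∀ a, (ProEtS.compP j).map (c'.π.app a) ≫ (α a).hom = αc.hom ≫ c.π.app a.left := fun a =>
    MorphismProperty.Over.Hom.ext ((Category.comp_id _).trans (Category.id_comp _).symm)
  have hm : ∀ {a a' : Over i₀} (m : a ⟶ a'),
      (ProEtS.compP j).map (D'.map m) ≫ (α a').hom = (α a).hom ≫ D.map m.left := fun m =>
    MorphismProperty.Over.Hom.ext ((Category.comp_id _).trans (Category.id_comp _).symm)
  have mc : ∀ {A B C : X.ProEt} (u : A ⟶ B) (v : B ⟶ C) (x : P.obj (op C)),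
      P.map u.op (P.map v.op x) = P.map (u ≫ v).op x := fun u v x => by
    rw [op_comp, Functor.map_comp_apply]
  have hcomm : ∀ (a : Over i₀) (t : P.obj (op (D.obj a.left))),
      P.map ((ProEtS.compP j).map (c'.π.app a)).op (P.map (α a).hom.op t) =
        P.map αc.hom.op (P.map (c.π.app a.left).op t) := fun a t =>
    (mc _ _ _).trans ((congrArg (fun z => P.map (Quiver.Hom.op z) t) (hα a)).trans (mc _ _ _).symm)
  refine ⟨fun i s t hst => ?_, fun s => ?_⟩
  · let a : Over i₀ := Over.mk (IsCofiltered.minToRight i i₀)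
    let p : a.left ⟶ i := IsCofiltered.minToLeft i i₀
    have hp : ∀ x, P.map (c.π.app a.left).op (P.map (D.map p).op x) = P.map (c.π.app i).op x := fun x =>
      (mc _ _ _).trans (congrArg (fun z => P.map (Quiver.Hom.op z) x) (c.w p))
    obtain ⟨a', m, hm'⟩ := hinj a (P.map (α a).hom.op (P.map (D.map p).op s))
      (P.map (α a).hom.op (P.map (D.map p).op t))
      ((hcomm a _).trans ((congrArg _ ((hp s).trans (hst.trans (hp t).symm))).trans (hcomm a _).symm))
    refine ⟨a'.left, m.left ≫ p, ?_⟩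
    have key : ∀ x, P.map ((ProEtS.compP j).map (D'.map m)).op (P.map (α a).hom.op (P.map (D.map p).op x)) =
        P.map (α a').hom.op (P.map (D.map (m.left ≫ p)).op x) := fun x =>
      (mc _ _ _).trans ((congrArg (fun z => P.map (Quiver.Hom.op z) _) (hm m)).trans
        ((mc _ _ _).symm.trans (congrArg _ ((mc _ _ _).trans
          (congrArg (fun z => P.map (Quiver.Hom.op z) x) (D.map_comp m.left p).symm)))))
    have hb : Function.Injective (P.map (α a').hom.op) :=
      ((isIso_iff_bijective _).1 (inferInstance : IsIso (P.map (α a').hom.op))).1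
    exact hb ((key s).symm.trans (hm'.trans (key t)))
  · obtain ⟨a, t, ht⟩ := hsurj (P.map αc.hom.op s)
    have hb : Function.Injective (P.map αc.hom.op) :=
      ((isIso_iff_bijective _).1 (inferInstance : IsIso (P.map αc.hom.op))).1
    refine ⟨a.left, P.map (α a).inv.op t, hb ?_⟩
    refine (hcomm a _).symm.trans ((congrArg _ ?_).trans ht)
    refine (mc _ _ _).trans ?_
    rw [Iso.hom_inv_id, op_id, Functor.map_id_apply]

/-- Being classical is local. -/
theorem clsM_of_opens [ProEtS.EpsCont X] {ι : Type u} (W : ι → X.Opens) (hW : iSup W = ⊤)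
    {G : EtModW.ModP Λ X} [∀ i, ProEtS.JPCont (W i).ι]
    (h : ∀ i, ClsM ((restrR Λ (W i).ι).obj G)) : ClsM G := by
  refine cls_of_local ((isSheaf_iff_isSheaf_of_type _ _).1
    ((Presheaf.isSheaf_iff_isSheaf_forget _ G.obj (CategoryTheory.forget (ModuleCat.{u + 1} Λ))).1 G.property))
    (fun i => (ProEtS.compP (W i).ι).obj (ProEtS.topP (W i).toScheme)) ?_ fun i => clsOver_of_restr _ (h i)
  refine GrothendieckTopology.superset_covering _ ?_ (ProEtWC.opens_cover_mem (ProEtS.topP X) W hW)
  rw [Sieve.generate_le_iff, Presieve.ofArrows_le_iff]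
  intro i
  refine ⟨_, MorphismProperty.Over.homMk (𝟙 _) ?_, _, ⟨i⟩, MorphismProperty.Over.Hom.ext (Category.id_comp _)⟩
  exact Category.id_comp _

end Groth.Agent.EtModEps19
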