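import Groth.Agent.Lib.EtModEps19.ClsLocal
import Groth.Agent.Lib.EtModEps19.ModStrata
import Groth.Agent.Lib.Constr24.Atoms
import Groth.Agent.S0720
import Groth.Agent.S0743
import Mathlib.CategoryTheory.Abelian.RightDerived

/-! Sheaves which are classical on the strata are classical. -/

universe u

open CategoryTheory Limits AlgebraicGeometry Opposite Set

namespace Groth.Agent.EtModEps19

set_option backward.isDefEq.respectTransparency false
set_option backward.isDefEq.respectTransparency.types false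
set_option linter.style.haveILetI false
set_option linter.unusedSectionVars false
set_option maxHeartbeats 800000

variable {Λ : Type (u + 1)} [CommRing Λ] {Z U X : Scheme.{u}}

theorem clsM_of_fgP [ProEtS.EpsCont X] {G : EtModW.ModP Λ X} {A : EtCoh.Ab X}
    (e : (fgP Λ X).obj G ≅ (ProEtS.epsPull X).obj A) : ClsM G :=
  cls_of_iso (P := G.obj ⋙ CategoryTheory.forget (ModuleCat.{u + 1} Λ))
    (Functor.isoWhiskerRight ((sheafToPresheaf _ _).mapIso e) (CategoryTheory.forget AddCommGrpCat.{u + 1}))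
    (cls_pe A)

theorem essP_pushR [ProEtS.EpsCont Z] [ProEtS.EpsCont X] (i : Z ⟶ X) [IsClosedImmersion i] [ProEtS.PCont i]
    {G : EtModW.ModP Λ Z} (h : EssP G) : EssP ((pushR Λ i).obj G) := by
  obtain ⟨E, ⟨e⟩⟩ := h
  refine essP_of_iso ((pushR Λ i).mapIso e) ?_
  obtain ⟨eR⟩ := Groth.Agent.S0720.result i ((fgE Λ Z).obj E) 0
  haveI : (ProEtS.pushP i).IsRightAdjoint := (ProEtS.pullPushAdjP i).isRightAdjoint
  let eM : (fgP Λ X).obj ((pushR Λ i).obj ((EtModW.epsPullMod Λ Z).obj E)) ≅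
      (ProEtS.epsPull X).obj ((EtCoh.Rpush i 0).obj ((fgE Λ Z).obj E)) :=
    (ProEtS.pushP i).mapIso ((cmpIso Λ).app E).symm ≪≫
      ((ProEtS.pushP i).rightDerivedZeroIsoSelf.app _).symm ≪≫ eR
  exact essP_of_clsM (clsM_of_fgP eM)

theorem essP_extR [ProEtS.EpsCont U] [ProEtS.EpsCont X] (j : U ⟶ X) [IsOpenImmersion j] [ProEtS.JPCont j]
    {G : EtModW.ModP Λ U} (h : EssP G) : EssP ((extR Λ j).obj G) := by
  obtain ⟨E, ⟨e⟩⟩ := h
  refine essP_of_iso ((extR Λ j).mapIso e) ?_
  obtain ⟨e'⟩ := Groth.Agent.S0743.result j ((fgE Λ U).obj E)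
  exact essP_of_clsM (clsM_of_fgP ((extPForget Λ j).app _ ≪≫
    (ProEtS.extZeroP j).mapIso ((cmpIso Λ).app E).symm ≪≫ e'.symm))

/-- Gluing a closed subscheme and its complement. -/
theorem essP_step [ProEtS.EpsCont U] [ProEtS.EpsCont Z] [ProEtS.EpsCont X] (i : Z ⟶ X) [IsClosedImmersion i]
    [ProEtS.PCont i] (j : U ⟶ X) [IsOpenImmersion j] [QuasiCompact j] [ProEtS.JPCont j]
    (hc : range j.base = (range i.base)ᶜ) (F : EtModW.ModP Λ X)
    (hU : EssP ((restrR Λ j).obj F)) (hZ : EssP ((pullR Λ i).obj F)) : EssP F := by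
  obtain ⟨w, hS⟩ := shortExact_recollementR Λ i j hc F
  obtain ⟨A, ⟨eA⟩⟩ := essP_extR j hU
  obtain ⟨B, ⟨eB⟩⟩ := essP_pushR i hZ
  obtain ⟨E, ⟨e⟩⟩ := (weakSerre (X := X) Λ).2 _ hS ⟨A, ⟨eA⟩⟩ ⟨B, ⟨eB⟩⟩
  exact ⟨E, ⟨e⟩⟩

variable [hC : ∀ T : Scheme.{u}, ProEtS.EpsCont T]

/-- A surjective closed immersion is invisible. -/
theorem essP_of_surjective (i : Z ⟶ X) [IsClosedImmersion i] [ProEtS.PCont i] (hi : Function.Surjective i.base)
    (F : EtModW.ModP Λ X) (hZ : EssP ((pullR Λ i).obj F)) : EssP F := by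
  haveI hj : IsEmpty ↥(⊥ : X.Opens).toScheme := ⟨fun x => x.2⟩
  haveI : QuasiCompact (⊥ : X.Opens).ι := ⟨fun O _ _ => Set.Subsingleton.isCompact fun a => (hj.false a).elim⟩
  haveI := jPCont (⊥ : X.Opens).ι
  refine essP_step i (⊥ : X.Opens).ι ?_ F (essP_of_isZero (isZero_of_isEmpty Λ _)) hZ
  rw [hi.range_eq, Set.compl_univ]
  exact Set.range_eq_empty _

/-- Classical on every piece implies classical. -/
theorem essP_of_atoms {ι : Type} [Finite ι] :
    ∀ (X : Scheme.{u}) [CompactSpace X] [QuasiSeparatedSpace X] (O : ι → Set X)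
      (_ : ∀ k, IsOpen (O k) ∧ IsCompact (O k)) (F : EtModW.ModP Λ X)
      (_ : ∀ (T : Scheme.{u}) (c : T ⟶ X) [ProEtS.PCont c], IsImmersion c →
        (∃ S : Set ι, ∀ t, ∀ k, c.base t ∈ O k ↔ k ∈ S) → EssP ((pullR Λ c).obj F)),
      EssP F := by
  induction ι using Finite.induction_empty_option with
  | of_equiv e ih =>
    intro X _ _ O hO F h
    refine ih X (fun k => O (e k)) (fun k => hO _) F fun T c _ hc ⟨S, hS⟩ => h T c hc
      ⟨e.symm ⁻¹' S, fun t k => ?_⟩
    have := hS t (e.symm k)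
    rwa [e.apply_symm_apply] at this
  | h_empty =>
    intro X _ _ O hO F h
    haveI := Groth.Agent.ProEtWC.pCont (𝟙 X)
    refine essP_of_surjective (𝟙 X) (fun x => ⟨x, rfl⟩) F ?_
    exact h X (𝟙 X) inferInstance ⟨∅, fun t k => k.elim⟩
  | h_option ih =>
    intro X _ _ O hO F h
    let V : X.Opens := ⟨O none, (hO none).1⟩
    let C : TopologicalSpace.Closeds X := ⟨(V : Set X)ᶜ, V.2.isClosed_compl⟩
    let i := (Scheme.IdealSheafData.vanishingIdeal C).subschemeι
    have hi : Set.range i.base = (V : Set X)ᶜ := by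
      rw [Scheme.IdealSheafData.range_subschemeι, Scheme.IdealSheafData.coe_support_vanishingIdeal]
      rfl
    haveI : CompactSpace V.toScheme := isCompact_iff_compactSpace.1 (hO none).2
    haveI : CompactSpace (Scheme.IdealSheafData.vanishingIdeal C).subscheme :=
      QuasiCompact.compactSpace_of_compactSpace i
    haveI : QuasiSeparatedSpace V.toScheme :=
      (quasiSeparatedSpace_iff_quasiSeparated _).2 ((Limits.terminal.comp_from V.ι).symm ▸ inferInstance)
    haveI : QuasiSeparatedSpace (Scheme.IdealSheafData.vanishingIdeal C).subscheme :=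
      (quasiSeparatedSpace_iff_quasiSeparated _).2 ((Limits.terminal.comp_from i).symm ▸ inferInstance)
    haveI : QuasiCompact V.ι := quasiCompact_of_compactSpace V.ι
    haveI := Groth.Agent.ProEtWC.pCont i
    haveI := Groth.Agent.ProEtWC.pCont V.ι
    haveI := jPCont V.ι
    have hOq : ∀ {Y : Scheme.{u}} (f : Y ⟶ X) [QuasiCompact f] (k),
        IsOpen (f.base ⁻¹' O k) ∧ IsCompact (f.base ⁻¹' O k) := fun f _ k =>
      ⟨(hO k).1.preimage f.continuous, QuasiCompact.isCompact_preimage _ (hO k).1 (hO k).2⟩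
    refine essP_step i V.ι ?_ F ?_ ?_
    · rw [hi, compl_compl]
      exact V.range_ι
    · refine essP_of_iso ((restrPullR Λ V.ι).app F).symm (ih V.toScheme (fun k => V.ι.base ⁻¹' O (some k))
        (fun k => hOq V.ι (some k)) _ fun T c _ hc ⟨S, hS⟩ => ?_)
      haveI := hc
      haveI := Groth.Agent.ProEtWC.pCont (c ≫ V.ι)
      refine essP_of_iso ((pullRComp Λ c V.ι).app F) (h T (c ≫ V.ι) inferInstance
        ⟨{k | k.elim True (· ∈ S)}, fun t k => ?_⟩)
      cases k with
      | none => exact iff_of_true (c.base t).2 trivial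
      | some k => exact hS t k
    · refine ih _ (fun k => i.base ⁻¹' O (some k))
        (fun k => hOq i (some k)) _ fun T c _ hc ⟨S, hS⟩ => ?_
      haveI := hc
      haveI := Groth.Agent.ProEtWC.pCont (c ≫ i)
      refine essP_of_iso ((pullRComp Λ c i).app F) (h T (c ≫ i) inferInstance
        ⟨{k | k.elim False (· ∈ S)}, fun t k => ?_⟩)
      cases k with
      | none => exact iff_of_false (fun hn => (hi.le ⟨c.base t, rfl⟩) hn) id
      | some k => exact hS t k

/-- Classical on a constructible stratification implies classical. -/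
theorem essP_of_strata [CompactSpace U] [QuasiSeparatedSpace U] {m : ℕ} {T : Fin m → Scheme.{u}}
    (g : ∀ i, T i ⟶ U) (hg : ∀ i, IsImmersion (g i)) (hc : ∀ i, Topology.IsConstructible (Set.range (g i).base))
    (hu : (⋃ i, Set.range (g i).base) = Set.univ) (F : EtModW.ModP Λ U) [∀ i, ProEtS.PCont (g i)]
    (hF : ∀ i, EssP ((pullR Λ (g i)).obj F)) : EssP F := by
  choose ι hι O hO P hP using fun i => Constr24.exists_atoms (hc i)
  haveI := hι
  refine essP_of_atoms (ι := Σ i, ι i) U (fun p => O p.1 p.2) (fun p => hO p.1 p.2) F fun T' c _ hcI ⟨S, hS⟩ => ?_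
  rcases isEmpty_or_nonempty T' with hT | ⟨⟨t₀⟩⟩
  · exact essP_of_isZero (isZero_of_isEmpty Λ _)
  obtain ⟨i, hi⟩ := Set.mem_iUnion.1 (hu.ge (Set.mem_univ (c.base t₀)))
  have hsub : ∀ t, c.base t ∈ Set.range (g i).base := fun t => by
    rw [hP i] at hi ⊢
    have : {k | c.base t ∈ O i k} = {k | c.base t₀ ∈ O i k} :=
      Set.ext fun k => (hS t ⟨i, k⟩).trans (hS t₀ ⟨i, k⟩).symm
    show _ ∈ P i
    rw [this]
    exact hi
  haveI := hg i
  haveI := hcI
  have hr : Set.range (pullback.fst c (g i)).base = Set.univ := by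
    rw [Scheme.Pullback.range_fst]
    exact Set.eq_univ_of_forall hsub
  haveI : IsClosedImmersion (pullback.fst c (g i)) :=
    IsClosedImmersion.of_isPreimmersion _ (by rw [hr]; exact isClosed_univ)
  haveI := Groth.Agent.ProEtWC.pCont (pullback.fst c (g i))
  haveI := Groth.Agent.ProEtWC.pCont (pullback.snd c (g i))
  haveI := Groth.Agent.ProEtWC.pCont (pullback.fst c (g i) ≫ c)
  haveI := Groth.Agent.ProEtWC.pCont (pullback.snd c (g i) ≫ g i)
  refine essP_of_surjective (pullback.fst c (g i)) (Set.range_eq_univ.1 hr) _ ?_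
  have hcg : ∀ (q : pullback c (g i) ⟶ U) [ProEtS.PCont q], q = pullback.fst c (g i) ≫ c → EssP ((pullR Λ q).obj F) →
      EssP ((pullR Λ (pullback.fst c (g i))).obj ((pullR Λ c).obj F)) := by
    intro q _ e hq
    subst e
    exact essP_of_iso ((pullRComp Λ _ c).app F) hq
  refine hcg (pullback.snd c (g i) ≫ g i) pullback.condition.symm ?_
  exact essP_of_iso ((pullRComp Λ _ (g i)).app F).symm (essP_pullR _ (hF i))

end Groth.Agent.EtModEps19
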