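import Groth.Agent.Lib.EtModEps19.Descend

/-! The inverse image of a locally constant sheaf is locally constant. -/

universe u

open CategoryTheory Limits AlgebraicGeometry Opposite

namespace Groth.Agent.EtModEps19

set_option backward.isDefEq.respectTransparency false
set_option backward.isDefEq.respectTransparency.types false
set_option linter.style.haveILetI false
set_option linter.unusedSectionVars false
set_option linter.unusedVariables false
set_option maxHeartbeats 800000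

open Groth.Agent.ProEtWC Groth.Agent.ProEtEps19

variable {Λ : Type (u + 1)} [CommRing Λ] {X : Scheme.{u}} [ProEtS.EpsCont X]

/-- The section given by a representative. -/
noncomputable abbrev repM (F : EtModW.Mod Λ X) {V : X.Etale} {W : X.ProEt} (a : W ⟶ (ProEtS.eps X).obj V)
    (t : F.obj.obj (op V)) : ((EtModW.epsPullMod Λ X).obj F).obj.obj (op W) :=
  ((EtModW.epsPullMod Λ X).obj F).obj.map a.op (unM Λ F V t)

theorem map_repM (F : EtModW.Mod Λ X) {V : X.Etale} {W W' : X.ProEt} (g : W' ⟶ W)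
    (a : W ⟶ (ProEtS.eps X).obj V) (t : F.obj.obj (op V)) :
    ((EtModW.epsPullMod Λ X).obj F).obj.map g.op (repM F a t) = repM F (g ≫ a) t := by
  unfold repM
  rw [← Functor.map_comp_apply]
  rfl

theorem repM_map (F : EtModW.Mod Λ X) {V V' : X.Etale} {W : X.ProEt} (a' : W ⟶ (ProEtS.eps X).obj V')
    (b : V' ⟶ V) (t : F.obj.obj (op V)) :
    repM F (a' ≫ (ProEtS.eps X).map b) t = repM F a' (F.obj.map b.op t) := by
  unfold repM
  rw [op_comp, Functor.map_comp_apply]
  exact congrArg (((EtModW.epsPullMod Λ X).obj F).obj.map a'.op)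
    (NatTrans.naturality_apply ((epsAdjMod Λ).unit.app F).hom b.op t).symm

theorem eq_of_coverM (S : EtModW.ModP Λ X) {Y : X.ProEt} {R : Sieve Y} (hR : R ∈ Scheme.ProEt.topology X Y)
    (s t : S.obj.obj (op Y))
    (h : ∀ ⦃_W : X.ProEt⦄ (g : _W ⟶ Y), Sieve.arrows R g → S.obj.map g.op s = S.obj.map g.op t) : s = t :=
  (((isSheaf_iff_isSheaf_of_type _ _).1 ((Presheaf.isSheaf_iff_isSheaf_forget _ S.obj
    (CategoryTheory.forget (ModuleCat.{u + 1} Λ))).1 S.property)) R hR).isSeparatedFor.ext fun W g hg => h g hg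

section Transfer

variable {F G : EtModW.Mod Λ X} {U : X.Etale}
  (α : (Over.forget U).op ⋙ G.obj ≅ (Over.forget U).op ⋙ F.obj)
  (φ : (Over.forget ((ProEtS.eps X).obj U)).op ⋙ ((EtModW.epsPullMod Λ X).obj G).obj ⟶
    (Over.forget ((ProEtS.eps X).obj U)).op ⋙ ((EtModW.epsPullMod Λ X).obj F).obj)
  (hφ : ∀ (O : Over U) (x : G.obj.obj (op O.left)),
    φ.app (op (Over.mk ((ProEtS.eps X).map O.hom))) (unM Λ G O.left x) = unM Λ F O.left (α.hom.app (op O) x))

include hφ in
theorem φ_repM (O : Over U) {W : X.ProEt} (l : W ⟶ (ProEtS.eps X).obj O.left) (x : G.obj.obj (op O.left))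
    (b : W ⟶ (ProEtS.eps X).obj U) (hb : l ≫ (ProEtS.eps X).map O.hom = b) :
    φ.app (op (Over.mk b)) (repM G l x) = repM F l (α.hom.app (op O) x) := by
  refine (NatTrans.naturality_apply φ
    (Over.homMk l hb : Over.mk b ⟶ Over.mk ((ProEtS.eps X).map O.hom)).op (unM Λ G O.left x)).trans ?_
  exact congrArg (((EtModW.epsPullMod Λ X).obj F).obj.map l.op) (hφ O x)

omit [ProEtS.EpsCont X] in
theorem exists_prod_lift {V : X.Etale} {W : X.ProEt} (a : W ⟶ (ProEtS.eps X).obj V)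
    (b : W ⟶ (ProEtS.eps X).obj U) :
    ∃ l : W ⟶ (ProEtS.eps X).obj (etProd V U), l ≫ (ProEtS.eps X).map (etFst V U) = a ∧
      l ≫ (ProEtS.eps X).map (etSnd V U) = b := by
  refine ⟨MorphismProperty.Over.homMk (pullback.lift a.left b.left
    ((MorphismProperty.Over.w a).trans (MorphismProperty.Over.w b).symm)) ?_, ?_, ?_⟩
  · exact ((Category.assoc _ _ _).symm.trans (congrArg (· ≫ V.hom) (pullback.lift_fst _ _ _))).trans
      (MorphismProperty.Over.w a)
  · exact MorphismProperty.Over.Hom.ext (pullback.lift_fst _ _ _)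
  · exact MorphismProperty.Over.Hom.ext (pullback.lift_snd _ _ _)

include hφ in
theorem φ_injective (O : Over ((ProEtS.eps X).obj U)) : Function.Injective (φ.app (op O)) := by
  rw [injective_iff_map_eq_zero]
  intro s hs
  let Gp := (EtModW.epsPullMod Λ X).obj G
  obtain ⟨R, hR, hR'⟩ := exists_local_rep Λ (ProEtS.eps X) X.smallEtaleTopology (Scheme.ProEt.topology X) G s
  refine eq_of_coverM Gp hR s 0 fun W g hg => ?_
  obtain ⟨V, a, t, ht⟩ := hR' g hg
  obtain ⟨l, hl₁, hl₂⟩ := exists_prod_lift a (g ≫ O.hom)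
  let P : Over U := Over.mk (etSnd V U)
  let x : G.obj.obj (op P.left) := G.obj.map (etFst V U).op t
  have hrep : Gp.obj.map g.op s = repM G l x := by
    refine ht.trans ?_
    rw [← repM_map G l (etFst V U) t, hl₁]
    rfl
  have h0 : repM F l (α.hom.app (op P) x) = 0 := by
    refine (φ_repM α φ hφ P l x (g ≫ O.hom) hl₂).symm.trans ?_
    refine (congrArg (φ.app (op (Over.mk (g ≫ O.hom)))) hrep.symm).trans ?_
    refine (NatTrans.naturality_apply φ (Over.homMk g : Over.mk (g ≫ O.hom) ⟶ O).op s).trans ?_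
    rw [hs, map_zero]
  obtain ⟨R', hR₂, hR₂'⟩ := exists_local_zero Λ (ProEtS.eps X) X.smallEtaleTopology
    (Scheme.ProEt.topology X) F l _ h0
  rw [hrep, map_zero]
  refine eq_of_coverM Gp hR₂ _ _ fun W' q hq => ?_
  obtain ⟨V', b, a', hab, hb⟩ := hR₂' q hq
  rw [map_zero, map_repM, ← hab, repM_map]
  have hz : G.obj.map b.op x = 0 := by
    have h := NatTrans.naturality_apply α.hom (Over.homMk b : Over.mk (b ≫ etSnd V U) ⟶ P).op x
    have h' : α.hom.app (op (Over.mk (b ≫ etSnd V U))) (G.obj.map b.op x) = 0 := h.trans hb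
    have hinj : Function.Injective (α.hom.app (op (Over.mk (b ≫ etSnd V U)))) :=
      ((ConcreteCategory.isIso_iff_bijective (α.hom.app (op (Over.mk (b ≫ etSnd V U))))).1 inferInstance).1
    exact hinj (h'.trans (map_zero _).symm)
  show Gp.obj.map a'.op (unM Λ G V' (G.obj.map b.op x)) = 0
  rw [hz, map_zero, map_zero]

include hφ in
theorem φ_surjective (O : Over ((ProEtS.eps X).obj U)) : Function.Surjective (φ.app (op O)) := by
  intro σ
  let Gp := (EtModW.epsPullMod Λ X).obj G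
  let Fp := (EtModW.epsPullMod Λ X).obj F
  obtain ⟨R, hR, hR'⟩ := exists_local_rep Λ (ProEtS.eps X) X.smallEtaleTopology (Scheme.ProEt.topology X) F
    (show Fp.obj.obj (op O.left) from σ)
  have key : ∀ {W : X.ProEt} (g : W ⟶ O.left), Sieve.arrows R g →
      ∃ z : Gp.obj.obj (op W), φ.app (op (Over.mk (g ≫ O.hom))) z = Fp.obj.map g.op σ := fun {W} g hg => by
    obtain ⟨V, a, t, ht⟩ := hR' g hg
    obtain ⟨l, hl₁, hl₂⟩ := exists_prod_lift a (g ≫ O.hom)
    let P : Over U := Over.mk (etSnd V U)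
    refine ⟨repM G l (α.inv.app (op P) (F.obj.map (etFst V U).op t)), ?_⟩
    rw [φ_repM α φ hφ P l _ (g ≫ O.hom) hl₂]
    have hai : α.hom.app (op P) (α.inv.app (op P) (F.obj.map (etFst V U).op t)) = F.obj.map (etFst V U).op t :=
      congr($(α.inv_hom_id_app (op P)) (F.obj.map (etFst V U).op t))
    refine (congrArg (repM F l) hai).trans ?_
    exact ((repM_map F l (etFst V U) t).symm.trans (congrArg (fun q => repM F q t) hl₁)).trans ht.symm
  choose z hz using @key
  let fam : Presieve.FamilyOfElements (Gp.obj ⋙ CategoryTheory.forget (ModuleCat.{u + 1} Λ)) R.arrows :=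
    fun W g hg => z g hg
  have hc : fam.Compatible := by
    intro Z₁ Z₂ W p₁ p₂ f₁ f₂ h₁ h₂ e
    refine φ_injective α φ hφ (Over.mk (p₁ ≫ f₁ ≫ O.hom)) ?_
    have n₁ := NatTrans.naturality_apply φ
      (Over.homMk p₁ : Over.mk (p₁ ≫ f₁ ≫ O.hom) ⟶ Over.mk (f₁ ≫ O.hom)).op (z f₁ h₁)
    have n₂ := NatTrans.naturality_apply φ
      (Over.homMk p₂ (show p₂ ≫ f₂ ≫ O.hom = p₁ ≫ f₁ ≫ O.hom by
        rw [← Category.assoc, ← e, Category.assoc]) : Over.mk (p₁ ≫ f₁ ≫ O.hom) ⟶ Over.mk (f₂ ≫ O.hom)).op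
      (z f₂ h₂)
    refine n₁.trans (Eq.trans ?_ n₂.symm)
    refine (congrArg _ (hz f₁ h₁)).trans (Eq.trans ?_ (congrArg _ (hz f₂ h₂)).symm)
    show Fp.obj.map p₁.op (Fp.obj.map f₁.op σ) = Fp.obj.map p₂.op (Fp.obj.map f₂.op σ)
    rw [← Functor.map_comp_apply, ← Functor.map_comp_apply, ← op_comp, ← op_comp, e]
  have hsh := ((isSheaf_iff_isSheaf_of_type _ _).1 ((Presheaf.isSheaf_iff_isSheaf_forget _ Gp.obj
    (CategoryTheory.forget (ModuleCat.{u + 1} Λ))).1 Gp.property)) _ hR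
  refine ⟨hsh.amalgamate fam hc, eq_of_coverM Fp hR _ _ fun W g hg => ?_⟩
  refine Eq.trans ?_ (hz g hg)
  refine Eq.trans ?_ (congrArg (φ.app (op (Over.mk (g ≫ O.hom)))) (Presieve.IsSheafFor.valid_glue hsh hc g hg))
  exact (NatTrans.naturality_apply φ (Over.homMk g : Over.mk (g ≫ O.hom) ⟶ O).op _).symm

end Transfer

variable (Λ) in
theorem can_unit (M : ModuleCat.{u + 1} Λ) (V : X.Etale) :
    can X.smallEtaleTopology M V ≫
        ((epsAdjMod Λ).unit.app ((constantSheaf X.smallEtaleTopology (ModuleCat.{u + 1} Λ)).obj M)).hom.app (op V) ≫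
          (constIsoM Λ M).inv.hom.app (op ((ProEtS.eps X).obj V)) =
      can (Scheme.ProEt.topology X) M ((ProEtS.eps X).obj V) := by
  let C := (constantSheaf X.smallEtaleTopology (ModuleCat.{u + 1} Λ)).obj M
  let adjP := constantSheafAdj (Scheme.ProEt.topology X) (ModuleCat.{u + 1} Λ)
    (T := (ProEtS.eps X).obj (EtCoh.top X)) (MorphismProperty.Over.mkIdTerminal _ X)
  let adjE := constantSheafAdj X.smallEtaleTopology (ModuleCat.{u + 1} Λ)
    (T := EtCoh.top X) (MorphismProperty.Over.mkIdTerminal _ X)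
  let ν : C ⟶ (epsPushMod Λ).obj (cP Λ X M) :=
    (epsAdjMod Λ).unit.app C ≫ (epsPushMod Λ).map (constIsoM Λ M).inv
  have htop : can X.smallEtaleTopology M (EtCoh.top X) ≫ ν.hom.app (op (EtCoh.top X)) =
      can (Scheme.ProEt.topology X) M ((ProEtS.eps X).obj (EtCoh.top X)) := by
    have h := Adjunction.unit_leftAdjointUniq_hom_app (adjE.comp (epsAdjMod Λ)) adjP M
    rw [Adjunction.comp_unit_app] at h
    have e1 : adjE.unit.app M = can X.smallEtaleTopology M (EtCoh.top X) := by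
      simp [adjE, constantSheafAdj, constantPresheafAdj, can]
    have e2 : adjP.unit.app M = can (Scheme.ProEt.topology X) M ((ProEtS.eps X).obj (EtCoh.top X)) := by
      simp [adjP, constantSheafAdj, constantPresheafAdj, can]
    rw [e1, e2] at h
    refine Eq.trans ?_ h
    rfl
  let t : V ⟶ EtCoh.top X := MorphismProperty.Over.homMk V.hom (Category.comp_id _)
  have hn : C.obj.map t.op ≫ ν.hom.app (op V) =
      ν.hom.app (op (EtCoh.top X)) ≫ (cP Λ X M).obj.map ((ProEtS.eps X).map t).op := ν.hom.naturality t.op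
  show can X.smallEtaleTopology M V ≫ ν.hom.app (op V) = _
  rw [← can_map X.smallEtaleTopology M t, ← can_map (Scheme.ProEt.topology X) M ((ProEtS.eps X).map t),
    ← htop, Category.assoc, Category.assoc, hn]

theorem exists_triv_eps {F : EtModW.Mod Λ X} {U : X.Etale} {M : ModuleCat.{u + 1} Λ}
    (α : (Over.forget U).op ⋙ ((constantSheaf X.smallEtaleTopology (ModuleCat.{u + 1} Λ)).obj M).obj ≅
      (Over.forget U).op ⋙ F.obj) :
    Nonempty ((Over.forget ((ProEtS.eps X).obj U)).op ⋙ ((EtModW.epsPullMod Λ X).obj F).obj ≅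
      (Over.forget ((ProEtS.eps X).obj U)).op ⋙ (cP Λ X M).obj) := by
  let C := (constantSheaf X.smallEtaleTopology (ModuleCat.{u + 1} Λ)).obj M
  let m : M ⟶ ((EtModW.epsPullMod Λ X).obj F).obj.obj (op ((ProEtS.eps X).obj U)) :=
    can X.smallEtaleTopology M U ≫ α.hom.app (op (Over.mk (𝟙 U))) ≫ ((epsAdjMod Λ).unit.app F).hom.app (op U)
  obtain ⟨φ₀, hφ₀⟩ := (homConst_bijective (Scheme.ProEt.topology X) ((ProEtS.eps X).obj U) M
    ((EtModW.epsPullMod Λ X).obj F)).2 m
  let ι : (Over.forget ((ProEtS.eps X).obj U)).op ⋙ ((EtModW.epsPullMod Λ X).obj C).obj ≅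
      (Over.forget ((ProEtS.eps X).obj U)).op ⋙ (cP Λ X M).obj :=
    Functor.isoWhiskerLeft _ ((sheafToPresheaf _ _).mapIso (constIsoM Λ M).symm)
  let φ := ι.hom ≫ φ₀
  let post := (Over.post (X := U) (ProEtS.eps X)).op
  let ηC : (Over.forget U).op ⋙ C.obj ⟶
      post ⋙ (Over.forget ((ProEtS.eps X).obj U)).op ⋙ ((EtModW.epsPullMod Λ X).obj C).obj :=
    Functor.whiskerLeft (Over.forget U).op ((epsAdjMod Λ).unit.app C).hom
  let ηF : (Over.forget U).op ⋙ F.obj ⟶
      post ⋙ (Over.forget ((ProEtS.eps X).obj U)).op ⋙ ((EtModW.epsPullMod Λ X).obj F).obj :=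
    Functor.whiskerLeft (Over.forget U).op ((epsAdjMod Λ).unit.app F).hom
  have heq : ηC ≫ Functor.whiskerLeft post φ = α.hom ≫ ηF := by
    refine (homConst_bijective X.smallEtaleTopology U M ((epsPushMod Λ).obj ((EtModW.epsPullMod Λ X).obj F))).1 ?_
    show can X.smallEtaleTopology M U ≫ ((epsAdjMod Λ).unit.app C).hom.app (op U) ≫
        (constIsoM Λ M).inv.hom.app (op ((ProEtS.eps X).obj U)) ≫
          φ₀.app (op (Over.mk ((ProEtS.eps X).map (𝟙 U)))) = m
    have e : φ₀.app (op (Over.mk ((ProEtS.eps X).map (𝟙 U)))) = φ₀.app (op (Over.mk (𝟙 ((ProEtS.eps X).obj U)))) := by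
      have key : ∀ b, b = 𝟙 ((ProEtS.eps X).obj U) → φ₀.app (op (Over.mk b)) = φ₀.app (op (Over.mk (𝟙 _))) := by
        rintro b rfl
        rfl
      exact key _ ((ProEtS.eps X).map_id U)
    rw [e, ← Category.assoc (((epsAdjMod Λ).unit.app C).hom.app (op U)), ← Category.assoc, can_unit]
    exact hφ₀
  have hφ : ∀ (O : Over U) (x : C.obj.obj (op O.left)),
      φ.app (op (Over.mk ((ProEtS.eps X).map O.hom))) (unM Λ C O.left x) = unM Λ F O.left (α.hom.app (op O) x) :=
    fun O x => congr($(heq).app (op O) x)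
  haveI : ∀ O, IsIso (φ.app O) := fun O => (ConcreteCategory.isIso_iff_bijective _).2
    ⟨φ_injective α φ hφ O.unop, φ_surjective α φ hφ O.unop⟩
  haveI : IsIso φ := NatIso.isIso_of_isIso_app φ
  exact ⟨(asIso φ).symm ≪≫ ι⟩

/-- A trivialisation on the pro-étale site. -/
noncomputable def trivP {G : EtModW.ModP Λ X} {U : X.ProEt} {M : ModuleCat.{u + 1} Λ}
    (β : (Over.forget U).op ⋙ G.obj ≅ (Over.forget U).op ⋙ (cP Λ X M).obj) :
    G.over U ≅ (constantSheaf ((Scheme.ProEt.topology X).over U) (ModuleCat.{u + 1} Λ)).obj M :=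
  (fullyFaithfulSheafToPresheaf _ _).preimageIso (X := G.over U) (Y := (cP Λ X M).over U) β ≪≫
    (constOverIso Λ U M).symm

theorem coversP_eps {ι : Type u} (U : ι → X.Etale) (hU : EtCoh.Covers U) :
    EtModW.CoversP fun i => (ProEtS.eps X).obj (U i) := by
  refine cover_mem (fun i => (ProEtS.eps X).obj (U i))
    (fun i => (MorphismProperty.Over.homMk ((ProEtS.eps X).obj (U i)).hom (Category.comp_id _) :
      (ProEtS.eps X).obj (U i) ⟶ ProEtS.topP X)) ?_ hU
  exact QuasiCompactCover.of_isOpenMap (𝒰 := Scheme.Cover.mkOfCovers (P := @Etale) ι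
    (fun i => (U i).left) (fun i => (U i).hom) hU (fun i => (U i).prop))
    fun i => by
      haveI : Etale (U i).hom := (U i).prop
      exact (U i).hom.isOpenMap

theorem isFPLocConstP_of {F : EtModW.Mod Λ X} (hF : EtModW.IsFPLocConst Λ F) :
    EtModW.IsFPLocConstP Λ ((EtModW.epsPullMod Λ X).obj F) := by
  obtain ⟨ι, U, hU, h⟩ := hF
  refine ⟨ι, fun i => (ProEtS.eps X).obj (U i), coversP_eps U hU, fun i => ?_⟩
  obtain ⟨M, _, _, hM, ⟨e⟩⟩ := h i
  obtain ⟨β⟩ := exists_triv_eps ((sheafToPresheaf _ _).mapIso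
    ((constOverEt (U i) (ModuleCat.of Λ M)).symm ≪≫ e.symm))
  exact ⟨M, inferInstance, inferInstance, hM, ⟨trivP β⟩⟩

theorem locPres_of_isFPLocConstP {G : EtModW.ModP Λ X} (hG : EtModW.IsFPLocConstP Λ G) : LocPres G := by
  obtain ⟨ι, U, hU, h⟩ := hG
  refine ⟨ι, U, hU, fun i => ?_⟩
  obtain ⟨M, _, _, hM, ⟨e⟩⟩ := h i
  exact ⟨ModuleCat.of Λ M, hM, ⟨trivIso e⟩⟩

theorem equiv_locConst :
    (∀ F : EtModW.Mod Λ X, EtModW.IsFPLocConst Λ F →
      EtModW.IsFPLocConstP Λ ((EtModW.epsPullMod Λ X).obj F)) ∧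
    ∀ G : EtModW.ModP Λ X, EtModW.IsFPLocConstP Λ G →
      ∃ F : EtModW.Mod Λ X, EtModW.IsFPLocConst Λ F ∧ Nonempty ((EtModW.epsPullMod Λ X).obj F ≅ G) :=
  ⟨fun _ => isFPLocConstP_of, fun _ hG => exists_of_locPres (locPres_of_isFPLocConstP hG)⟩

end Groth.Agent.EtModEps19
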