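import Mathlib.CategoryTheory.Sites.ConstantSheaf
import Mathlib.CategoryTheory.Sites.CoverLifting
import Mathlib.CategoryTheory.Sites.Over

/-! Morphisms out of a constant sheaf restricted over an object. -/

universe w v u v' u'

open CategoryTheory Limits Opposite

namespace Groth.Agent.EtModEps19

set_option backward.isDefEq.respectTransparency false
set_option backward.isDefEq.respectTransparency.types false
set_option linter.style.haveILetI false

variable {C : Type u} [Category.{v} C] (J : GrothendieckTopology C) {A : Type u'} [Category.{v'} A]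
  [HasWeakSheafify J A] (T : C) [HasWeakSheafify (J.over T) A]
  [∀ F : (Over T)ᵒᵖ ⥤ A, (Over.forget T).op.HasPointwiseRightKanExtension F]

/-- The value as sections of the constant sheaf. -/
noncomputable def can (M : A) (U : C) : M ⟶ ((constantSheaf J A).obj M).obj.obj (op U) :=
  (toSheafify J ((Functor.const Cᵒᵖ).obj M)).app (op U)

omit [HasWeakSheafify (J.over T) A] [∀ F : (Over T)ᵒᵖ ⥤ A, (Over.forget T).op.HasPointwiseRightKanExtension F] in
theorem can_map (M : A) {U V : C} (f : V ⟶ U) :
    can J M U ≫ ((constantSheaf J A).obj M).obj.map f.op = can J M V :=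
  ((toSheafify J ((Functor.const Cᵒᵖ).obj M)).naturality f.op).symm.trans (Category.id_comp _)

theorem homConst_bijective (M : A) (S : Sheaf J A) :
    Function.Bijective (fun α : (Over.forget T).op ⋙ ((constantSheaf J A).obj M).obj ⟶
        (Over.forget T).op ⋙ S.obj => can J M T ≫ α.app (op (Over.mk (𝟙 T)))) := by
  let Φ := ((Over.forget T).pushforwardContinuousSheafificationCompatibility A (J.over T) J).app
    ((Functor.const Cᵒᵖ).obj M)
  let P : (Over T)ᵒᵖ ⥤ A := (Over.forget T).op ⋙ (Functor.const Cᵒᵖ).obj M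
  let η : P ⟶ (Over.forget T).op ⋙ ((constantSheaf J A).obj M).obj :=
    Functor.whiskerLeft _ (toSheafify J ((Functor.const Cᵒᵖ).obj M))
  have hS : Presheaf.IsSheaf (J.over T) ((Over.forget T).op ⋙ S.obj) := (S.over T).property
  have hΦ : toSheafify (J.over T) P ≫ Φ.hom.hom = η :=
    (Over.forget T).toSheafify_pullbackSheafificationCompatibility A (J.over T) J _
  let Φ' : sheafify (J.over T) P ≅ (Over.forget T).op ⋙ ((constantSheaf J A).obj M).obj :=
    (sheafToPresheaf (J.over T) A).mapIso Φ
  refine ⟨fun α β h => (cancel_epi Φ'.hom).1 (sheafify_hom_ext (J.over T) _ _ hS ?_), fun m => ?_⟩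
  · rw [← Category.assoc, ← Category.assoc]
    show (toSheafify (J.over T) P ≫ Φ.hom.hom) ≫ α = (toSheafify (J.over T) P ≫ Φ.hom.hom) ≫ β
    rw [hΦ]
    ext O
    obtain ⟨O⟩ := O
    let f : O ⟶ Over.mk (𝟙 T) := Over.homMk O.hom (Category.comp_id _)
    have h1 := congrArg (· ≫ S.obj.map O.hom.op) h
    have key : ∀ γ : (Over.forget T).op ⋙ ((constantSheaf J A).obj M).obj ⟶ (Over.forget T).op ⋙ S.obj,
        (can J M T ≫ γ.app (op (Over.mk (𝟙 T)))) ≫ S.obj.map O.hom.op = can J M O.left ≫ γ.app (op O) :=
      fun γ => by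
        rw [Category.assoc, ← can_map J M O.hom, Category.assoc]
        exact congrArg (can J M T ≫ ·) (γ.naturality f.op).symm
    exact (key α).symm.trans (h1.trans (key β))
  · let ν : P ⟶ (Over.forget T).op ⋙ S.obj :=
      { app := fun O => m ≫ S.obj.map O.unop.hom.op
        naturality := fun O O' f => by
          show 𝟙 M ≫ m ≫ S.obj.map O'.unop.hom.op =
            (m ≫ S.obj.map O.unop.hom.op) ≫ S.obj.map f.unop.left.op
          rw [Category.id_comp, Category.assoc, ← S.obj.map_comp, ← op_comp, Over.w] }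
    refine ⟨Φ'.inv ≫ sheafifyLift (J.over T) ν hS, ?_⟩
    have h : η ≫ Φ'.inv ≫ sheafifyLift (J.over T) ν hS = ν := by
      rw [← hΦ, Category.assoc]
      exact (congrArg (toSheafify (J.over T) P ≫ ·) (Φ'.hom_inv_id_assoc _)).trans
        (toSheafify_sheafifyLift _ _ _)
    refine (congr($(h).app (op (Over.mk (𝟙 T))))).trans ?_
    show m ≫ S.obj.map (𝟙 T).op = m
    exact (congrArg (m ≫ ·) (S.obj.map_id (op T))).trans (Category.comp_id m)

end Groth.Agent.EtModEps19
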