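import Groth.Agent.Lib.EtModEps19.Cls
import Groth.Agent.Lib.EtModEps19.HomConst
import Mathlib.CategoryTheory.Sites.SheafHom
import Mathlib.Algebra.Module.FinitePresentation

/-! Morphisms between locally constant sheaves of finite presentation commute with limits. -/

universe u

open CategoryTheory Limits AlgebraicGeometry Opposite

namespace Groth.Agent.EtModEps19

set_option backward.isDefEq.respectTransparency false
set_option backward.isDefEq.respectTransparency.types false
set_option linter.style.haveILetI false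
set_option linter.unusedSectionVars false
set_option maxHeartbeats 800000

open Groth.Agent.ProEtEps19 (pe toSch)

variable {Λ : Type (u + 1)} [CommRing Λ] {X : Scheme.{u}}

/-- Commutation with limits for sheaves of modules. -/
abbrev ClsM (S : EtModW.ModP Λ X) : Prop :=
  Cls (S.obj ⋙ CategoryTheory.forget (ModuleCat.{u + 1} Λ))

variable (Λ) in
/-- The constant sheaf. -/
noncomputable abbrev cP (X : Scheme.{u}) (M : ModuleCat.{u + 1} Λ) : EtModW.ModP Λ X :=
  (constantSheaf (Scheme.ProEt.topology X) (ModuleCat.{u + 1} Λ)).obj M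

theorem cls_of_iso {P Q : X.ProEtᵒᵖ ⥤ Type (u + 1)} (e : P ≅ Q) (hQ : Cls Q) : Cls P := by
  intro I _ _ D hD c hc
  obtain ⟨i₀⟩ := IsCofiltered.nonempty (C := I)
  have hb : ∀ T : X.ProEtᵒᵖ, Function.Bijective (e.hom.app T) := fun T =>
    (isIso_iff_bijective _).1 inferInstance
  exact clsOver_of_equiv (W := ProEtS.topP X) hQ (fun T _ s => e.hom.app (op T) s) (fun T _ => hb _)
    (fun T T' g _ s => NatTrans.naturality_apply e.hom g.op s) D hD c hc i₀
    (MorphismProperty.Over.homMk (D.obj i₀).hom (Category.comp_id _))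

theorem clsM_of_iso {S S' : EtModW.ModP Λ X} (e : S ≅ S') (h : ClsM S') : ClsM S :=
  cls_of_iso (Functor.isoWhiskerRight ((sheafToPresheaf _ _).mapIso e) _) h

variable [ProEtS.EpsCont X]

theorem cls_pe (F : EtCoh.Ab X) : Cls (pe F ⋙ CategoryTheory.forget AddCommGrpCat.{u + 1}) := by
  intro I _ _ D hD c hc
  haveI := hD
  exact ⟨fun i s t h => ProEtEps19.exists_stage_eq F hc s t h,
    fun s => ProEtEps19.exists_stage_section (F := F) (σ := s) hc⟩

theorem clsM_epsPull (F : EtModW.Mod Λ X) : ClsM ((EtModW.epsPullMod Λ X).obj F) :=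
  cls_of_iso (Functor.isoWhiskerRight ((sheafToPresheaf _ _).mapIso ((cmpIso Λ).app F).symm)
    (CategoryTheory.forget AddCommGrpCat.{u + 1})) (cls_pe ((fgE Λ X).obj F))

variable (Λ) in
/-- The constant sheaf comes from the étale site. -/
noncomputable def constIsoM (M : ModuleCat.{u + 1} Λ) :
    cP Λ X M ≅ (EtModW.epsPullMod Λ X).obj ((constantSheaf X.smallEtaleTopology (ModuleCat.{u + 1} Λ)).obj M) :=
  (Adjunction.leftAdjointUniq
    (constantSheafAdj (Scheme.ProEt.topology X) (ModuleCat.{u + 1} Λ)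
      (T := (ProEtS.eps X).obj (EtCoh.top X)) (MorphismProperty.Over.mkIdTerminal _ X))
    ((constantSheafAdj X.smallEtaleTopology (ModuleCat.{u + 1} Λ)
      (T := EtCoh.top X) (MorphismProperty.Over.mkIdTerminal _ X)).comp (epsAdjMod Λ))).app M

theorem clsM_const (M : ModuleCat.{u + 1} Λ) : ClsM (cP Λ X M) :=
  clsM_of_iso (constIsoM Λ M) (clsM_epsPull _)

omit [ProEtS.EpsCont X] in
variable (Λ) in
/-- The constant sheaf on the site over an object. -/
noncomputable def constOverIso (U : X.ProEt) (M : ModuleCat.{u + 1} Λ) :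
    (constantSheaf ((Scheme.ProEt.topology X).over U) (ModuleCat.{u + 1} Λ)).obj M ≅ (cP Λ X M).over U :=
  ((Over.forget U).pushforwardContinuousSheafificationCompatibility (ModuleCat.{u + 1} Λ)
    ((Scheme.ProEt.topology X).over U) (Scheme.ProEt.topology X)).app ((Functor.const _).obj M)

variable (Λ) in
/-- The presheaf of homomorphisms out of a module. -/
noncomputable abbrev homP (M : ModuleCat.{u + 1} Λ) (S : EtModW.ModP Λ X) : X.ProEtᵒᵖ ⥤ Type (u + 1) :=
  S.obj ⋙ coyoneda.obj (op M)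

theorem cls_homP {M : ModuleCat.{u + 1} Λ} [Module.FinitePresentation Λ M] {S : EtModW.ModP Λ X}
    (hS : ClsM S) : Cls (homP Λ M S) := by
  intro I _ _ D hD c hc
  obtain ⟨hinj, hsurj⟩ := hS D hD c hc
  obtain ⟨n, K, e, hK⟩ := Module.FinitePresentation.exists_fin (R := Λ) (M := M)
  let q : (Fin n → Λ) →ₗ[Λ] M := e.symm.toLinearMap ∘ₗ K.mkQ
  have hq : Function.Surjective q := e.symm.surjective.comp K.mkQ_surjective
  have hext : ∀ (N : ModuleCat.{u + 1} Λ) (f g : M ⟶ N), (∀ l, f (q (Pi.single l 1)) = g (q (Pi.single l 1))) →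
      f = g := fun N f g h => by
    refine ModuleCat.hom_ext (LinearMap.ext fun x => ?_)
    obtain ⟨y, rfl⟩ := hq x
    have : f.hom ∘ₗ q = g.hom ∘ₗ q := (Pi.basisFun Λ (Fin n)).ext fun l => by
      simpa using h l
    exact LinearMap.congr_fun this y
  classical
  refine ⟨fun i (f : M ⟶ S.obj.obj (op (D.obj i))) (g : M ⟶ S.obj.obj (op (D.obj i))) h => ?_,
    fun (f : M ⟶ S.obj.obj (op c.pt)) => ?_⟩
  · have hl : ∀ l, ∃ (j : I) (a : j ⟶ i), S.obj.map (D.map a).op (f (q (Pi.single l 1))) =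
        S.obj.map (D.map a).op (g (q (Pi.single l 1))) := fun l =>
      hinj i _ _ (by
        have h' : f ≫ S.obj.map (c.π.app i).op = g ≫ S.obj.map (c.π.app i).op := h
        exact congr($h' (q (Pi.single l 1))))
    choose j a ha using hl
    obtain ⟨m, b, hb⟩ := exists_common j a
    refine ⟨m, b, hext _ _ _ fun l => ?_⟩
    obtain ⟨d, hd⟩ := hb l
    show S.obj.map (D.map b).op (f _) = S.obj.map (D.map b).op (g _)
    rw [← hd, D.map_comp, op_comp, Functor.map_comp_apply, Functor.map_comp_apply, ha]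
  · choose i t ht using fun l => hsurj (f (q (Pi.single l 1)))
    obtain ⟨k, hk⟩ : ∃ k : I, ∀ l, Nonempty (k ⟶ i l) := by
      obtain ⟨k, hk⟩ := IsCofiltered.inf_objs_exists (Finset.univ.image i)
      exact ⟨k, fun l => hk (Finset.mem_image_of_mem _ (Finset.mem_univ l))⟩
    let a : ∀ l, k ⟶ i l := fun l => (hk l).some
    let L : (Fin n → Λ) →ₗ[Λ] S.obj.obj (op (D.obj k)) :=
      Fintype.linearCombination Λ fun l => S.obj.map (D.map (a l)).op (t l)
    have hL : ∀ y, S.obj.map (c.π.app k).op (L y) = f (q y) := fun y => by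
      have : (S.obj.map (c.π.app k).op).hom ∘ₗ L = f.hom ∘ₗ q := (Pi.basisFun Λ (Fin n)).ext fun l => by
        simp only [LinearMap.comp_apply, Pi.basisFun_apply]
        show S.obj.map (c.π.app k).op (L (Pi.single l 1)) = f (q (Pi.single l 1))
        simp only [L, Fintype.linearCombination_apply_single, one_smul]
        refine (Functor.map_comp_apply _ _ _ _).symm.trans ?_
        rw [← op_comp, c.w]
        exact ht l
      exact LinearMap.congr_fun this y
    obtain ⟨r, y, hy⟩ := Submodule.fg_iff_exists_fin_generating_family.1 hK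
    have hl : ∀ l, ∃ (j : I) (b : j ⟶ k), S.obj.map (D.map b).op (L (y l)) = S.obj.map (D.map b).op 0 :=
      fun l => hinj k _ _ (by
        show S.obj.map (c.π.app k).op (L (y l)) = S.obj.map (c.π.app k).op 0
        rw [hL, map_zero]
        have : y l ∈ K := hy ▸ Submodule.subset_span ⟨l, rfl⟩
        have h0 : q (y l) = 0 := by
          show e.symm (K.mkQ (y l)) = 0
          rw [Submodule.mkQ_apply, (Submodule.Quotient.mk_eq_zero K).2 this, map_zero]
        rw [h0, map_zero])
    choose j b hb using hl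
    obtain ⟨m, b', hb'⟩ := exists_common j b
    let L' : (Fin n → Λ) →ₗ[Λ] S.obj.obj (op (D.obj m)) := (S.obj.map (D.map b').op).hom ∘ₗ L
    have hK' : K ≤ LinearMap.ker L' := by
      rw [← hy, Submodule.span_le]
      rintro _ ⟨l, rfl⟩
      obtain ⟨d, hd⟩ := hb' l
      show S.obj.map (D.map b').op (L (y l)) = 0
      rw [← hd, D.map_comp, op_comp, Functor.map_comp_apply, hb l, map_zero, map_zero]
    refine ⟨m, ModuleCat.ofHom (K.liftQ L' hK' ∘ₗ e.toLinearMap), hext _ _ _ fun l => ?_⟩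
    have he : e (q (Pi.single l 1)) = K.mkQ (Pi.single l 1) := e.apply_symm_apply _
    show S.obj.map (c.π.app m).op (K.liftQ L' hK' (e (q (Pi.single l 1)))) = _
    rw [he, Submodule.mkQ_apply, Submodule.liftQ_apply]
    refine (Functor.map_comp_apply _ _ _ _).symm.trans ?_
    rw [← op_comp, c.w]
    exact hL _

omit [ProEtS.EpsCont X] in
/-- Trivialisations as isomorphisms of presheaves. -/
noncomputable def trivIso {G : EtModW.ModP Λ X} {U : X.ProEt} {M : ModuleCat.{u + 1} Λ}
    (e : G.over U ≅ (constantSheaf ((Scheme.ProEt.topology X).over U) (ModuleCat.{u + 1} Λ)).obj M) :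
    (Over.forget U).op ⋙ G.obj ≅ (Over.forget U).op ⋙ (cP Λ X M).obj :=
  (sheafToPresheaf _ _).mapIso (e ≪≫ constOverIso Λ U M)

/-- The trivialisation hypothesis on the pro-étale site. -/
def LocPres (G : EtModW.ModP Λ X) : Prop :=
  ∃ (ι : Type u) (U : ι → X.ProEt), EtModW.CoversP U ∧ ∀ i, ∃ M : ModuleCat.{u + 1} Λ,
    Module.FinitePresentation Λ M ∧
      Nonempty ((Over.forget (U i)).op ⋙ G.obj ≅ (Over.forget (U i)).op ⋙ (cP Λ X M).obj)

theorem clsM_of_locPres {G : EtModW.ModP Λ X} (hG : LocPres G) : ClsM G := by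
  obtain ⟨ι, U, hU, h⟩ := hG
  refine cls_of_local ((isSheaf_iff_isSheaf_of_type _ _).1
    ((Presheaf.isSheaf_iff_isSheaf_forget _ G.obj (CategoryTheory.forget (ModuleCat.{u + 1} Λ))).1 G.property)) U hU fun i => ?_
  obtain ⟨M, -, ⟨α⟩⟩ := h i
  refine clsOver_of_equiv (clsM_const M) (fun T b s => α.hom.app (op (Over.mk b)) s) (fun T b => ?_)
    fun T T' g b s => ?_
  · exact (ConcreteCategory.isIso_iff_bijective (α.hom.app (op (Over.mk b)))).1 inferInstance
  · exact NatTrans.naturality_apply α.hom (Over.homMk g : Over.mk (g ≫ b) ⟶ Over.mk b).op s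

theorem cls_presheafHom {G S : EtModW.ModP Λ X} (hG : LocPres G) (hS : ClsM S) :
    Cls (presheafHom G.obj S.obj) := by
  obtain ⟨ι, U, hU, h⟩ := hG
  refine cls_of_local ((isSheaf_iff_isSheaf_of_type _ _).1 (Presheaf.IsSheaf.hom G.obj S.obj S.property)) U hU
    fun i => ?_
  obtain ⟨M, hM, ⟨α⟩⟩ := h i
  haveI := hM
  have hQ : Cls (homP Λ M S) := cls_homP @hS
  let e : ∀ T : X.ProEt, (T ⟶ U i) → (presheafHom G.obj S.obj).obj (op T) → (homP Λ M S).obj (op T) :=
    fun T b (s : (Over.forget T).op ⋙ G.obj ⟶ (Over.forget T).op ⋙ S.obj) =>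
      can (Scheme.ProEt.topology X) M T ≫ α.inv.app (op (Over.mk b)) ≫ s.app (op (Over.mk (𝟙 T)))
  suffices he : (∀ T b, Function.Bijective (e T b)) ∧ ∀ (T T' : X.ProEt) (g : T' ⟶ T) (b : T ⟶ U i)
      (s : (presheafHom G.obj S.obj).obj (op T)),
      e T' (g ≫ b) ((presheafHom G.obj S.obj).map g.op s) = (homP Λ M S).map g.op (e T b s) from
    @clsOver_of_equiv X _ _ (U i) @hQ e he.1 he.2
  refine ⟨fun T b => ?_, fun T T' g b s => ?_⟩
  · let β : (Over.forget T).op ⋙ G.obj ≅ (Over.forget T).op ⋙ (cP Λ X M).obj :=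
      Functor.isoWhiskerLeft (Over.map b).op α
    have hβ : β.inv.app (op (Over.mk (𝟙 T))) = α.inv.app (op (Over.mk b)) := by
      show α.inv.app (op (Over.mk (𝟙 T ≫ b))) = _
      exact presheafHom_map_app (F := (cP Λ X M).obj) (G := G.obj) (𝟙 T) b b (Category.id_comp b)
        α.inv
    have h2 := (homConst_bijective (Scheme.ProEt.topology X) T M S).comp
      (f := fun s : (Over.forget T).op ⋙ G.obj ⟶ (Over.forget T).op ⋙ S.obj => β.inv ≫ s)
      ⟨fun s s' e => (cancel_epi β.inv).1 e, fun s => ⟨β.hom ≫ s, β.inv_hom_id_assoc s⟩⟩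
    have key : ∀ s : (Over.forget T).op ⋙ G.obj ⟶ (Over.forget T).op ⋙ S.obj, e T b s =
        can (Scheme.ProEt.topology X) M T ≫ (β.inv ≫ s).app (op (Over.mk (𝟙 T))) := fun s => by
      show _ = can (Scheme.ProEt.topology X) M T ≫ β.inv.app (op (Over.mk (𝟙 T))) ≫ s.app (op (Over.mk (𝟙 T)))
      rw [hβ]
    refine ⟨fun s s' hss => h2.1 ((key s).symm.trans (hss.trans (key s'))), fun m => ?_⟩
    obtain ⟨s, hs⟩ := h2.2 m
    exact ⟨s, (key s).trans hs⟩
  · show can _ M T' ≫ α.inv.app (op (Over.mk (g ≫ b))) ≫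
        ((presheafHom G.obj S.obj).map g.op s).app (op (Over.mk (𝟙 T'))) =
      (can _ M T ≫ α.inv.app (op (Over.mk b)) ≫ s.app (op (Over.mk (𝟙 T)))) ≫ S.obj.map g.op
    have e1 : (cP Λ X M).obj.map g.op ≫ α.inv.app (op (Over.mk (g ≫ b))) =
        α.inv.app (op (Over.mk b)) ≫ G.obj.map g.op :=
      α.inv.naturality (Over.homMk g : Over.mk (g ≫ b) ⟶ Over.mk b).op
    have e2 : G.obj.map g.op ≫ s.app (op (Over.mk g)) = s.app (op (Over.mk (𝟙 T))) ≫ S.obj.map g.op :=
      s.naturality (Over.homMk g (Category.comp_id g) : Over.mk g ⟶ Over.mk (𝟙 T)).op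
    refine (congrArg (fun z => can _ M T' ≫ α.inv.app (op (Over.mk (g ≫ b))) ≫ z)
      (presheafHom_map_app (𝟙 T') g g (Category.id_comp g) s)).trans ?_
    rw [← can_map (Scheme.ProEt.topology X) M g, Category.assoc, Category.assoc, Category.assoc]
    refine congrArg (can _ M T ≫ ·) ?_
    refine (Category.assoc _ _ _).symm.trans ?_
    refine (congrArg (· ≫ s.app (op (Over.mk g))) e1).trans ?_
    exact (Category.assoc _ _ _).trans (congrArg (α.inv.app (op (Over.mk b)) ≫ ·) e2)

end Groth.Agent.EtModEps19
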