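import Groth.Agent.Lib.EtModEps19.AdicLim
import Mathlib.CategoryTheory.Abelian.Exact
import Mathlib.CategoryTheory.Limits.FunctorCategory.Finite

/-! Surjectivity on limits for systems which are adic up to translation. -/

universe u

open CategoryTheory Limits AlgebraicGeometry Opposite

namespace Groth.Agent.EtModEps19

set_option backward.isDefEq.respectTransparency false
set_option backward.isDefEq.respectTransparency.types false
set_option linter.style.haveILetI false
set_option linter.unusedSectionVars false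
set_option maxHeartbeats 800000

variable {Λ : Type (u + 1)} [CommRing Λ] {X : Scheme.{u}}

theorem exact_wc {W : X.ProEt} (hW : ProEtS.IsWC W) {S : ShortComplex (EtModW.ModP Λ X)} (hS : S.Exact)
    (x : S.X₂.obj.obj (op W)) (hx : S.g.hom.app (op W) x = 0) : ∃ y, S.f.hom.app (op W) y = x := by
  let E : EtModW.ModP Λ X ⥤ ModuleCat.{u + 1} Λ :=
    sheafToPresheaf (Scheme.ProEt.topology X) (ModuleCat.{u + 1} Λ) ⋙ (evaluation _ _).obj (op W)
  haveI : PreservesFiniteLimits E := comp_preservesFiniteLimits _ _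
  haveI : E.Additive := inferInstance
  obtain ⟨k, hk⟩ : ∃ k, (kernel.ι S.g).hom.app (op W) k = x := by
    have h : ((ShortComplex.mk (kernel.ι S.g) S.g (kernel.condition S.g)).map E).Exact :=
      (ShortComplex.exact_kernel S.g).map_of_mono_of_preservesKernel E inferInstance inferInstance
    exact (ShortComplex.moduleCat_exact_iff _).1 h x hx
  haveI := hS.epi_kernelLift
  obtain ⟨y, hy⟩ := wc_surjective hW (kernel.lift S.g S.f S.zero) k
  refine ⟨y, ?_⟩
  rw [← hk, ← hy]
  exact congr($((kernel.lift_ι S.g S.f S.zero).symm).hom.app (op W) y)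

theorem exists_compatible_lift {I : Ideal Λ} (hI : I.FG) [ProEtS.EpsCont X]
    (S : ShortComplex (ARSys.PS (EtModW.Mod Λ X))) (hS : S.ShortExact)
    (Y : ARSys.PS (EtModW.Mod Λ X)) (v : Y ⟶ S.X₁) (hY : ARSys.IsAdic I Y) (hv : ARSys.IsARIso v)
    (W : X.ProEt) (hW : ProEtS.IsWC W)
    (c : ∀ n : ℕ, ((EtModW.epsPullMod Λ X).obj (S.X₃.obj (op n))).obj.obj (op W))
    (hc : ∀ n, ((EtModW.epsPullMod Λ X).map (ARSys.tr S.X₃ n.le_succ)).hom.app (op W) (c (n + 1)) = c n) :
    ∃ b : ∀ n : ℕ, ((EtModW.epsPullMod Λ X).obj (S.X₂.obj (op n))).obj.obj (op W),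
      (∀ n, ((EtModW.epsPullMod Λ X).map (ARSys.tr S.X₂ n.le_succ)).hom.app (op W) (b (n + 1)) = b n) ∧
      ∀ n, ((EtModW.epsPullMod Λ X).map (S.g.app (op n))).hom.app (op W) (b n) = c n := by
  let ε := EtModW.epsPullMod Λ X
  obtain ⟨-, r, hr⟩ := hv
  haveI := hS.epi_g
  let T : ∀ (Z : ARSys.PS (EtModW.Mod Λ X)) {n m : ℕ} (_ : n ≤ m),
      (ε.obj (Z.obj (op m))).obj.obj (op W) →ₗ[Λ] (ε.obj (Z.obj (op n))).obj.obj (op W) :=
    fun Z _ _ h => ((ε.map (ARSys.tr Z h)).hom.app (op W)).hom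
  let A : ∀ {Z Z' : ARSys.PS (EtModW.Mod Λ X)} (_ : Z ⟶ Z') (n : ℕ),
      (ε.obj (Z.obj (op n))).obj.obj (op W) →ₗ[Λ] (ε.obj (Z'.obj (op n))).obj.obj (op W) :=
    fun φ n => ((ε.map (φ.app (op n))).hom.app (op W)).hom
  have hnat : ∀ {Z Z' : ARSys.PS (EtModW.Mod Λ X)} (φ : Z ⟶ Z') {n m : ℕ} (h : n ≤ m) x,
      T Z' h (A φ m x) = A φ n (T Z h x) := fun φ n m h x => by
    have := congrArg ε.map (φ.naturality (homOfLE h).op)
    rw [ε.map_comp, ε.map_comp] at this
    exact congr($(this.symm).hom.app (op W) x)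
  have hTT : ∀ (Z : ARSys.PS (EtModW.Mod Λ X)) {n m l : ℕ} (h : n ≤ m) (h' : m ≤ l) x,
      T Z h (T Z h' x) = T Z (h.trans h') x := fun Z n m l h h' x => by
    have := congrArg ε.map (Z.map_comp (homOfLE h').op (homOfLE h).op)
    rw [ε.map_comp] at this
    exact congr($(this.symm).hom.app (op W) x)
  have hcT : ∀ n k, T S.X₃ (Nat.le_add_right n k) (c (n + k)) = c n := fun n k => by
    induction k with
    | zero =>
      have := congrArg ε.map (S.X₃.map_id (op n))
      rw [ε.map_id] at this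
      exact congr($(this).hom.app (op W) (c n))
    | succ k ih =>
      conv_rhs => rw [← ih, ← hc (n + k)]
      exact (hTT S.X₃ _ _ _).symm
  haveI : PreservesFiniteLimits ε := inferInstance
  choose b' hb' using fun n =>
    haveI : Epi (ε.map (S.g.app (op n))) := inferInstance
    wc_surjective hW (ε.map (S.g.app (op n))) (c n)
  let b₀ : ∀ n, (ε.obj (S.X₂.obj (op n))).obj.obj (op W) := fun n => T S.X₂ (Nat.le_add_right n r) (b' (n + r))
  have hb₀ : ∀ n, A S.g n (b₀ n) = c n := fun n => by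
    rw [← hnat, show A S.g (n + r) (b' (n + r)) = c (n + r) from hb' _, hcT]
  have key : ∀ n, ∃ y, A S.f n (A v n y) = T S.X₂ n.le_succ (b₀ (n + 1)) - b₀ n := fun n => by
    have h1 : n + r ≤ n + 1 + r := by omega
    let d := T S.X₂ h1 (b' (n + 1 + r)) - b' (n + r)
    have hd : A S.g (n + r) d = 0 := by
      rw [map_sub, ← hnat, show A S.g (n + r) (b' (n + r)) = c (n + r) from hb' _,
        show A S.g (n + 1 + r) (b' (n + 1 + r)) = c (n + 1 + r) from hb' _, sub_eq_zero]
      have e : ∀ l l' (e : l = l') (h : n + r ≤ l) (h' : n + r ≤ l'), T S.X₃ h (c l) = T S.X₃ h' (c l') := by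
        rintro l _ rfl _ _; rfl
      exact (e _ (n + r + 1) (by omega) h1 (Nat.le_succ _)).trans (hc _)
    obtain ⟨a, ha⟩ := exact_wc hW ((hS.exact.map ((evaluation _ _).obj (op (n + r)))).map ε) d hd
    let C' := ShortComplex.mk v (cokernel.π v) (cokernel.condition v)
    have hC : C'.Exact := ShortComplex.exact_cokernel v
    have h0 : T C'.X₃ (Nat.le_add_right n r) (A (cokernel.π v) (n + r) a) = 0 := by
      have := congrArg ε.map (hr n)
      rw [ε.map_zero] at this
      exact congr($(this).hom.app (op W) _)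
    rw [hnat] at h0
    obtain ⟨y, hy⟩ := exact_wc hW ((hC.map ((evaluation _ _).obj (op n))).map ε)
      (T S.X₁ (Nat.le_add_right n r) a) h0
    refine ⟨y, ?_⟩
    have hy' : A v n y = T S.X₁ (Nat.le_add_right n r) a := hy
    have ha' : A S.f (n + r) a = d := ha
    rw [hy', ← hnat, ha', map_sub, hTT]
    exact congrArg (· - b₀ n) (hTT S.X₂ _ _ _).symm
  choose y hy using key
  have hsurj : ∀ n : ℕ, Function.Surjective (T Y n.le_succ) := fun n =>
    (sections_isQuot (Ideal.FG.pow hI) _ (isQuot_map Λ (hY.2 n (n + 1) n.le_succ)) W hW).1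
  let z : ∀ n, (ε.obj (Y.obj (op n))).obj.obj (op W) := fun n =>
    Nat.rec (motive := fun n => (ε.obj (Y.obj (op n))).obj.obj (op W)) 0
      (fun n z => (hsurj n (z - y n)).choose) n
  have hz : ∀ n : ℕ, T Y n.le_succ (z (n + 1)) = z n - y n := fun n => (hsurj n (z n - y n)).choose_spec
  refine ⟨fun n => b₀ n + A S.f n (A v n (z n)), fun n => ?_, fun n => ?_⟩
  · show T S.X₂ n.le_succ _ = _
    rw [map_add, hnat, hnat, hz, map_sub, map_sub, hy]
    abel_nf
  · show A S.g n _ = _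
    rw [map_add, hb₀, add_eq_left]
    have := congrArg (fun φ => ε.map (φ.app (op n))) S.zero
    simp only [NatTrans.comp_app, Functor.map_comp, NatTrans.app_zero, Functor.map_zero] at this
    exact congr($(this).hom.app (op W) _)

theorem epi_limMap [ProEtS.EpsCont X] {I : Ideal Λ} (hI : I.FG)
    (S : ShortComplex (ARSys.PS (EtModW.Mod Λ X))) (hS : S.ShortExact)
    (Y : ARSys.PS (EtModW.Mod Λ X)) (v : Y ⟶ S.X₁) (hY : ARSys.IsAdic I Y) (hv : ARSys.IsARIso v) :
    Epi (limMap (Functor.whiskerRight S.g (EtModW.epsPullMod Λ X))) := by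
  let ε := EtModW.epsPullMod Λ X
  refine ⟨fun a b h => hom_ext_wc a b fun W hW x => ?_⟩
  let E : EtModW.ModP Λ X ⥤ ModuleCat.{u + 1} Λ :=
    sheafToPresheaf (Scheme.ProEt.topology X) (ModuleCat.{u + 1} Λ) ⋙ (evaluation _ _).obj (op W)
  have hlim : ∀ (Z : ARSys.PS (EtModW.Mod Λ X)) (y : ∀ n, (ε.obj (Z.obj (op n))).obj.obj (op W)),
      (∀ n, (ε.map (ARSys.tr Z n.le_succ)).hom.app (op W) (y (n + 1)) = y n) →
      ∃! x, ∀ j : ℕᵒᵖ, (limit.π (Z ⋙ ε) j).hom.app (op W) x = y j.unop := fun Z y hy => by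
    have hc : ∀ n m (h : n ≤ m), (ε.map (ARSys.tr Z h)).hom.app (op W) (y m) = y n := fun n m h => by
      induction m, h using Nat.le_induction with
      | base => exact congr($((Z ⋙ ε).map_id (op n)).hom.app (op W) (y n))
      | succ m h ih =>
        conv_rhs => rw [← ih, ← hy m]
        exact congr($((Z ⋙ ε).map_comp (homOfLE m.le_succ).op (homOfLE h).op).hom.app (op W) (y (m + 1)))
    exact (Types.isLimit_iff ((E ⋙ forget _).mapCone (limit.cone (Z ⋙ ε)))).1
      ⟨isLimitOfPreserves (E ⋙ forget _) (limit.isLimit _)⟩ (fun j => y j.unop) (fun {j k} f => hc k.unop j.unop f.unop.le)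
  obtain ⟨w, hw, hw'⟩ := exists_compatible_lift hI S hS Y v hY hv W hW
    (fun n => (limit.π (S.X₃ ⋙ ε) (op n)).hom.app (op W) x)
    (fun n => congr($(limit.w (S.X₃ ⋙ ε) (homOfLE n.le_succ).op).hom.app (op W) x))
  obtain ⟨z, hz, -⟩ := hlim S.X₂ w hw
  obtain ⟨x', -, hu⟩ := hlim S.X₃ (fun n => (limit.π (S.X₃ ⋙ ε) (op n)).hom.app (op W) x)
    (fun n => congr($(limit.w (S.X₃ ⋙ ε) (homOfLE n.le_succ).op).hom.app (op W) x))
  have hx : (limMap (Functor.whiskerRight S.g ε)).hom.app (op W) z = x := by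
    refine (hu _ fun j => ?_).trans (hu x fun j => rfl).symm
    refine (congr($(limMap_π (Functor.whiskerRight S.g ε) j).hom.app (op W) z)).trans ?_
    show (ε.map (S.g.app j)).hom.app (op W) ((limit.π (S.X₂ ⋙ ε) j).hom.app (op W) z) = _
    rw [hz]
    exact hw' j.unop
  rw [← hx]
  exact congr($(h).hom.app (op W) z)

end Groth.Agent.EtModEps19
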