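import Groth.Agent.Lib.EtModEps19.LocSerre
import Groth.Agent.Lib.EtModEps19.ConstrP
import Mathlib.RingTheory.Filtration
import Mathlib.Topology.NoetherianSpace
import Mathlib.CategoryTheory.Abelian.Refinements

/-! Adic systems of constructible sheaves are lisse near generic points. -/

universe u

open CategoryTheory Limits AlgebraicGeometry Opposite

namespace Groth.Agent.EtModEps19

set_option backward.isDefEq.respectTransparency false
set_option backward.isDefEq.respectTransparency.types false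
set_option linter.style.haveILetI false
set_option linter.unusedSectionVars false
set_option maxHeartbeats 800000

variable {Λ : Type (u + 1)} [CommRing Λ] {Z : Scheme.{u}}

theorem eq_zero_sect {G : EtModW.Mod Λ Z} {V : Z.Etale} (z : G.obj.obj (op V))
    (h : ∀ v : V.left, ∃ (W : Z.Etale) (g : W ⟶ V) (w : W.left), g.left w = v ∧ G.obj.map g.op z = 0) :
    z = 0 := by
  let S : Sieve V :=
    { arrows := fun W g => G.obj.map g.op z = 0
      downward_closed := fun {W W'} g hg k => by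
        show G.obj.map (k ≫ g).op z = 0
        rw [op_comp, Functor.map_comp_apply, hg, map_zero] }
  have hS : S ∈ Z.smallEtaleTopology V := by
    rw [EtSite.mem_et_iff]
    intro v
    obtain ⟨W, g, w, hw, hg⟩ := h v
    exact ⟨W, g, w, hg, hw⟩
  exact (((isSheaf_iff_isSheaf_of_type _ _).1 ((Presheaf.isSheaf_iff_isSheaf_forget _ G.obj
    (CategoryTheory.forget (ModuleCat.{u + 1} Λ))).1 G.property)) S hS).isSeparatedFor.ext fun W g hg =>
      (show G.obj.map g.op z = G.obj.map g.op 0 by rw [map_zero]; exact hg)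

theorem sum_app {F G : EtModW.Mod Λ Z} {ι : Type*} (s : Finset ι) (f : ι → (F ⟶ G)) (U : Z.Etaleᵒᵖ)
    (x : F.obj.obj U) : (∑ i ∈ s, f i).hom.app U x = ∑ i ∈ s, (f i).hom.app U x := by
  classical
  induction s using Finset.induction_on with
  | empty => rw [Finset.sum_empty, Finset.sum_empty]; rfl
  | insert i s hi ih =>
    rw [Finset.sum_insert hi, Finset.sum_insert hi, ← ih]
    rfl

theorem isOpen_range_left {W V : Z.Etale} (a : W ⟶ V) : IsOpen (Set.range a.left) := by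
  haveI hV : Etale V.hom := V.prop
  haveI : Etale (a.left ≫ V.hom) := by rw [MorphismProperty.Over.w a]; exact W.prop
  haveI : Etale a.left := Etale.of_comp a.left V.hom
  exact a.left.isOpenMap.isOpen_range

theorem mul_pow_mem {I : Ideal Λ} {n : ℕ} {b a : Λ} (hb : b ∈ I ^ (0 + 1)) (ha : a ∈ I ^ n) :
    b * a ∈ I ^ (n + 1) := by
  rw [pow_succ']
  exact Ideal.mul_mem_mul (by simpa using hb) ha

section System

variable {I : Ideal Λ} {F : ARSys.PS (EtModW.Mod Λ Z)} (hF : ARSys.IsAdic I F)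

/-- Multiplication by an element of `I ^ n`, defined on the bottom stage. -/
noncomputable def mu (n : ℕ) (a : ↥(I ^ n)) : F.obj (op 0) ⟶ F.obj (op n) :=
  ((hF.2 0 n n.zero_le).2 _ ((a : Λ) • 𝟙 (F.obj (op n))) fun b hb => by
    rw [smul_smul]
    exact hF.1 n _ (mul_pow_mem hb a.2)).choose

theorem tr_mu (n : ℕ) (a : ↥(I ^ n)) :
    ARSys.tr F n.zero_le ≫ mu hF n a = (a : Λ) • 𝟙 (F.obj (op n)) :=
  ((hF.2 0 n n.zero_le).2 _ ((a : Λ) • 𝟙 (F.obj (op n))) fun b hb => by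
    rw [smul_smul]
    exact hF.1 n _ (mul_pow_mem hb a.2)).choose_spec.1

theorem mu_add (n : ℕ) (a b : ↥(I ^ n)) : mu hF n (a + b) = mu hF n a + mu hF n b := by
  haveI := epi_of_isQuot (hF.2 0 n n.zero_le)
  rw [← cancel_epi (ARSys.tr F n.zero_le), Preadditive.comp_add, tr_mu, tr_mu, tr_mu, Submodule.coe_add,
    add_smul]

theorem mu_smul (n : ℕ) (c : Λ) (a : ↥(I ^ n)) : mu hF n (c • a) = c • mu hF n a := by
  haveI := epi_of_isQuot (hF.2 0 n n.zero_le)
  rw [← cancel_epi (ARSys.tr F n.zero_le), Linear.comp_smul, tr_mu, tr_mu, Submodule.coe_smul, smul_eq_mul,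
    mul_smul]

theorem mu_succ_le (n : ℕ) (a : ↥(I ^ n)) (ha : (a : Λ) ∈ I ^ (n + 1)) : mu hF n a = 0 := by
  haveI := epi_of_isQuot (hF.2 0 n n.zero_le)
  rw [← cancel_epi (ARSys.tr F n.zero_le), comp_zero, tr_mu, hF.1 n _ ha]

theorem mu_tr (n : ℕ) (a : ↥(I ^ (n + 1))) : mu hF (n + 1) a ≫ ARSys.tr F n.le_succ = 0 := by
  haveI := epi_of_isQuot (hF.2 0 (n + 1) (n + 1).zero_le)
  rw [← cancel_epi (ARSys.tr F (n + 1).zero_le), comp_zero, ← Category.assoc, tr_mu, Linear.smul_comp,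
    Category.id_comp]
  refine Eq.trans ?_ (comp_zero (f := ARSys.tr F n.le_succ))
  rw [← hF.1 n _ a.2, Linear.comp_smul, Category.comp_id]

theorem exists_nu (n : ℕ) (b : Λ) (hb : b ∈ I) :
    ∃ ν : F.obj (op n) ⟶ F.obj (op (n + 1)), ∀ (a : ↥(I ^ n)) (h : b * (a : Λ) ∈ I ^ (n + 1)),
      mu hF (n + 1) ⟨b * a, h⟩ = mu hF n a ≫ ν := by
  obtain ⟨ν, hν, -⟩ := (hF.2 n (n + 1) n.le_succ).2 _ (b • 𝟙 (F.obj (op (n + 1)))) fun c hc => by
    rw [smul_smul]
    exact hF.1 (n + 1) _ (by rw [pow_succ]; exact Ideal.mul_mem_mul hc hb)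
  refine ⟨ν, fun a h => ?_⟩
  haveI := epi_of_isQuot (hF.2 0 (n + 1) (n + 1).zero_le)
  rw [← cancel_epi (ARSys.tr F (n + 1).zero_le), tr_mu]
  show (b * (a : Λ)) • 𝟙 (F.obj (op (n + 1))) = _
  have e : ARSys.tr F (n + 1).zero_le = ARSys.tr F n.le_succ ≫ ARSys.tr F n.zero_le := by
    show F.map _ = F.map _ ≫ F.map _
    rw [← F.map_comp]
    rfl
  rw [e, Category.assoc, ← Category.assoc (ARSys.tr F n.zero_le), tr_mu, Linear.smul_comp, Category.id_comp,
    Linear.comp_smul, hν, smul_smul, mul_comm]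

theorem mem_pow_apply {r n : ℕ} {v : Fin r → Λ} (hv : v ∈ I ^ n • (⊤ : Submodule Λ (Fin r → Λ))) (j : Fin r) :
    v j ∈ I ^ n := by
  refine Submodule.smul_induction_on hv (fun a ha x _ => ?_) (fun a b ha hb => ?_)
  · exact Ideal.mul_mem_right _ _ ha
  · exact add_mem ha hb

variable {W₀ : Z.Etale} {r : ℕ} (s : Fin r → (F.obj (op 0)).obj.obj (op W₀))

/-- The sections of the stages given by coefficient vectors. -/
noncomputable def psi (n : ℕ) {W : Z.Etale} (e : W ⟶ W₀) :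
    ↥(I ^ n • (⊤ : Submodule Λ (Fin r → Λ))) →ₗ[Λ] (F.obj (op n)).obj.obj (op W) where
  toFun v := ∑ j : Fin r, (mu hF n ⟨v.1 j, mem_pow_apply v.2 j⟩).hom.app (op W) ((F.obj (op 0)).obj.map e.op (s j))
  map_add' v w := by
    rw [← Finset.sum_add_distrib]
    refine Finset.sum_congr rfl fun j _ => ?_
    rw [show (⟨(v + w).1 j, mem_pow_apply (v + w).2 j⟩ : ↥(I ^ n)) =
      ⟨v.1 j, mem_pow_apply v.2 j⟩ + ⟨w.1 j, mem_pow_apply w.2 j⟩ from rfl, mu_add]
    rfl
  map_smul' c v := by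
    rw [RingHom.id_apply, Finset.smul_sum]
    refine Finset.sum_congr rfl fun j _ => ?_
    rw [show (⟨(c • v).1 j, mem_pow_apply (c • v).2 j⟩ : ↥(I ^ n)) =
      c • ⟨v.1 j, mem_pow_apply v.2 j⟩ from rfl, mu_smul]
    rfl

theorem psi_map (n : ℕ) {W W' : Z.Etale} (g : W' ⟶ W) (e : W ⟶ W₀)
    (v : ↥(I ^ n • (⊤ : Submodule Λ (Fin r → Λ)))) :
    (F.obj (op n)).obj.map g.op (psi hF s n e v) = psi hF s n (g ≫ e) v := by
  show (F.obj (op n)).obj.map g.op (∑ j : Fin r, _) = ∑ j : Fin r, _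
  rw [map_sum]
  refine Finset.sum_congr rfl fun j _ => ?_
  rw [← NatTrans.naturality_apply (mu hF n _).hom, op_comp, Functor.map_comp_apply]

/-- Vanishing somewhere. -/
def vanPred (n : ℕ) (v : Fin r → Λ) : Prop :=
  ∃ (hv : v ∈ I ^ n • (⊤ : Submodule Λ (Fin r → Λ))) (W : Z.Etale) (e : W ⟶ W₀) (_ : W.left),
    psi hF s n e ⟨v, hv⟩ = 0

variable [IrreducibleSpace W₀.left]

theorem exists_over_two {W₁ W₂ : Z.Etale} (a₁ : W₁ ⟶ W₀) (a₂ : W₂ ⟶ W₀) (w₁ : W₁.left) (w₂ : W₂.left) :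
    ∃ (W : Z.Etale) (g₁ : W ⟶ W₁) (g₂ : W ⟶ W₂) (_ : W.left), g₁ ≫ a₁ = g₂ ≫ a₂ := by
  obtain ⟨x, ⟨y₁, hy₁⟩, ⟨y₂, hy₂⟩⟩ := nonempty_preirreducible_inter (isOpen_range_left a₁)
    (isOpen_range_left a₂) ⟨_, w₁, rfl⟩ ⟨_, w₂, rfl⟩
  obtain ⟨W, g₁, g₂, w, h, -, -⟩ := exists_common_over a₁ a₂ y₁ y₂ (hy₁.trans hy₂.symm)
  exact ⟨W, g₁, g₂, w, h⟩

variable (w₀ : W₀.left)

/-- The submodule of vectors whose section vanishes somewhere. -/
def van (n : ℕ) : Submodule Λ (Fin r → Λ) where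
  carrier := {v | vanPred hF s n v}
  zero_mem' := ⟨Submodule.zero_mem _, W₀, 𝟙 W₀, w₀, map_zero _⟩
  add_mem' := by
    rintro v v' ⟨hv, W, e, w, h⟩ ⟨hv', W', e', w', h'⟩
    obtain ⟨Q, g, g', q, hg⟩ := exists_over_two e e' w w'
    refine ⟨Submodule.add_mem _ hv hv', Q, g ≫ e, q, ?_⟩
    rw [show (⟨v + v', Submodule.add_mem _ hv hv'⟩ : ↥(I ^ n • (⊤ : Submodule Λ (Fin r → Λ)))) =
      ⟨v, hv⟩ + ⟨v', hv'⟩ from rfl, map_add]
    conv_lhs => arg 2; rw [hg]
    rw [← psi_map, ← psi_map, h, h', map_zero, map_zero, add_zero]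
  smul_mem' := by
    rintro c v ⟨hv, W, e, w, h⟩
    refine ⟨Submodule.smul_mem _ c hv, W, e, w, ?_⟩
    rw [show (⟨c • v, Submodule.smul_mem _ c hv⟩ : ↥(I ^ n • (⊤ : Submodule Λ (Fin r → Λ)))) = c • ⟨v, hv⟩
      from rfl, map_smul, h, smul_zero]

theorem psi_smul (n : ℕ) (b : Λ) (hb : b ∈ I) (v : Fin r → Λ) (hv : v ∈ I ^ n • (⊤ : Submodule Λ (Fin r → Λ)))
    (hbv : b • v ∈ I ^ (n + 1) • (⊤ : Submodule Λ (Fin r → Λ))) {W : Z.Etale} (e : W ⟶ W₀)
    (h : psi hF s n e ⟨v, hv⟩ = 0) : psi hF s (n + 1) e ⟨b • v, hbv⟩ = 0 := by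
  obtain ⟨ν, hν⟩ := exists_nu hF n b hb
  refine Eq.trans ?_ ((congrArg (ν.hom.app (op W)) h).trans (map_zero _))
  show (∑ j : Fin r, _) = ν.hom.app (op W) (∑ j : Fin r, _)
  rw [map_sum]
  refine Finset.sum_congr rfl fun j _ => ?_
  exact congr($(hν ⟨v j, mem_pow_apply hv j⟩ (mem_pow_apply hbv j)).hom.app (op W) _)

theorem smul_mem_pow {n : ℕ} {b : Λ} (hb : b ∈ I) {v : Fin r → Λ}
    (hv : v ∈ I ^ n • (⊤ : Submodule Λ (Fin r → Λ))) :
    b • v ∈ I ^ (n + 1) • (⊤ : Submodule Λ (Fin r → Λ)) := by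
  rw [pow_succ', Submodule.mul_smul]
  exact Submodule.smul_mem_smul hb hv

/-- The vanishing vectors form a filtration. -/
def vanFilt : I.Filtration (Fin r → Λ) where
  N := van hF s w₀
  mono n := by
    rintro v ⟨hv, -⟩
    refine ⟨Submodule.smul_mono_left (Ideal.pow_le_pow_right n.le_succ) hv, W₀, 𝟙 W₀, w₀, ?_⟩
    show (∑ j : Fin r, (mu hF n _).hom.app (op W₀) _) = 0
    refine Finset.sum_eq_zero fun j _ => ?_
    rw [mu_succ_le hF n ⟨v j, _⟩ (mem_pow_apply hv j)]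
    rfl
  smul_le n := by
    rw [Submodule.smul_le]
    rintro b hb v ⟨hv, W, e, w, h⟩
    exact ⟨smul_mem_pow hb hv, W, e, w, psi_smul hF s n b hb v hv _ e h⟩

theorem exists_bound [IsNoetherianRing Λ] :
    ∃ d, ∀ n, d ≤ n → van hF s w₀ (n + 1) = I • van hF s w₀ n := by
  obtain ⟨d, hd⟩ := (I.stableFiltration_stable (⊤ : Submodule Λ (Fin r → Λ))).of_le
    (F' := vanFilt hF s w₀) (fun n v hv => hv.1)
  exact ⟨d, fun n hn => (hd n hn).symm⟩

/-- Triviality at the points of a set. -/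
def LC (G : EtModW.Mod Λ Z) (O : Set Z) : Prop :=
  ∀ x ∈ O, ∃ (W : Z.Etale) (w : W.left) (M : ModuleCat.{u + 1} Λ), W.hom w = x ∧ Module.Finite Λ M ∧
    Nonempty (G.over W ≅ (constantSheaf (Z.smallEtaleTopology.over W) (ModuleCat.{u + 1} Λ)).obj M)

variable {W₁ : Z.Etale} (inc : W₁ ⟶ W₀)

/-- Vanishing somewhere is vanishing everywhere on `W₁`. -/
theorem psi_eq_zero [IsNoetherianRing Λ] {d : ℕ}
    (hd : ∀ n, d ≤ n → van hF s w₀ (n + 1) = I • van hF s w₀ n)
    (hlc : ∀ k ≤ d, LC (F.obj (op k)) (Set.range W₁.hom)) (n : ℕ) :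
    ∀ (v : Fin r → Λ) (hv : v ∈ I ^ n • (⊤ : Submodule Λ (Fin r → Λ))), v ∈ van hF s w₀ n →
      ∀ {W : Z.Etale} (e : W ⟶ W₁), psi hF s n (e ≫ inc) ⟨v, hv⟩ = 0 := by
  induction n using Nat.strong_induction_on with
  | _ n ih =>
    intro v hv hmem W e
    by_cases hn : n ≤ d
    · refine eq_zero_sect _ fun y => ?_
      obtain ⟨hv', Wv, ev, wv, hvan⟩ := hmem
      obtain ⟨U, u', M, hu', -, ⟨φ⟩⟩ := hlc n hn (W.hom y) ⟨e.left y, by
        rw [← MorphismProperty.Over.w e]; rfl⟩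
      let α := trivOfRestr φ
      obtain ⟨y', hy₁, hy₂⟩ := Scheme.Pullback.exists_preimage_pullback (f := W.hom) (g := U.hom) y u' hu'.symm
      haveI : Etale W.hom := W.prop
      haveI : Etale U.hom := U.prop
      let P : Z.Etale := Scheme.Etale.mk (pullback.fst W.hom U.hom ≫ W.hom)
      let a₁ : P ⟶ W := MorphismProperty.Over.homMk (pullback.fst W.hom U.hom)
      let a₂ : P ⟶ U := MorphismProperty.Over.homMk (pullback.snd W.hom U.hom) pullback.condition.symm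
      obtain ⟨P', g, p', m, hp', hm⟩ := exists_sg α a₂ (psi hF s n (a₁ ≫ e ≫ inc) ⟨v, hv⟩) y'
      obtain ⟨Q, q₁, q₂, q, hq⟩ := exists_over_two (g ≫ a₁ ≫ e ≫ inc) ev p' wv
      have hm0 : m = 0 := by
        refine sg_injective α (q₁ ≫ g ≫ a₂) q ?_
        rw [map_zero, ← sg_map, ← hm, psi_map, psi_map, hq, ← psi_map]
        exact (congrArg _ hvan).trans (map_zero _)
      refine ⟨P', g ≫ a₁, p', ?_, ?_⟩
      · show a₁.left (g.left p') = y
        rw [hp']
        exact hy₁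
      · rw [psi_map, Category.assoc, ← psi_map, hm, hm0, map_zero]
    · obtain ⟨m, rfl⟩ : ∃ m, n = m + 1 := ⟨n - 1, by omega⟩
      rw [hd m (by omega)] at hmem
      obtain ⟨hv', hz⟩ : ∃ h : v ∈ I ^ (m + 1) • (⊤ : Submodule Λ (Fin r → Λ)),
          psi hF s (m + 1) (e ≫ inc) ⟨v, h⟩ = 0 := by
        refine Submodule.smul_induction_on hmem (fun b hb u hu => ⟨smul_mem_pow hb hu.1, ?_⟩)
          (fun u u' ⟨h, hz⟩ ⟨h', hz'⟩ => ⟨Submodule.add_mem _ h h', ?_⟩)
        · exact psi_smul hF s m b hb u hu.1 _ (e ≫ inc) (ih m (by omega) u hu.1 hu e)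
        · rw [show (⟨u + u', Submodule.add_mem _ h h'⟩ : ↥(I ^ (m + 1) • (⊤ : Submodule Λ (Fin r → Λ)))) =
            ⟨u, h⟩ + ⟨u', h'⟩ from rfl, map_add, hz, hz', add_zero]
      exact hz

include inc in
/-- The kernels of the transition maps are constant on `W₁`. -/
theorem nonempty_kernel_iso [IsNoetherianRing Λ] {d : ℕ}
    (hd : ∀ n, d ≤ n → van hF s w₀ (n + 1) = I • van hF s w₀ n)
    (hlc : ∀ k ≤ d, LC (F.obj (op k)) (Set.range W₁.hom))
    (hgen : ∀ {W : Z.Etale} (e₀ : W ⟶ W₀) (z : (F.obj (op 0)).obj.obj (op W)) (w : W.left),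
      ∃ (W' : Z.Etale) (g : W' ⟶ W) (w' : W'.left) (c : Fin r → Λ), g.left w' = w ∧
        (F.obj (op 0)).obj.map g.op z = ∑ j, c j • (F.obj (op 0)).obj.map (g ≫ e₀).op (s j))
    (n : ℕ) :
    ∃ M : ModuleCat.{u + 1} Λ, Module.Finite Λ M ∧
      Nonempty ((kernel (ARSys.tr F n.le_succ)).over W₁ ≅
        (constantSheaf (Z.smallEtaleTopology.over W₁) (ModuleCat.{u + 1} Λ)).obj M) := by
  classical
  let t := ARSys.tr F n.le_succ
  let K := kernel t
  let ι := kernel.ι t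
  let L : Submodule Λ (Fin r → Λ) := I ^ (n + 1) • ⊤
  let N : Submodule Λ ↥L := (van hF s w₀ (n + 1)).comap L.subtype
  let muK : ↥(I ^ (n + 1)) → (F.obj (op 0) ⟶ K) := fun a => kernel.lift t (mu hF (n + 1) a) (mu_tr hF n a)
  let psiK : ∀ {W : Z.Etale} (_ : W ⟶ W₁) (_ : ↥L), K.obj.obj (op W) := fun {W} e v =>
    ∑ j : Fin r, (muK ⟨v.1 j, mem_pow_apply v.2 j⟩).hom.app (op W) ((F.obj (op 0)).obj.map (e ≫ inc).op (s j))
  have hιK : ∀ {W : Z.Etale} (e : W ⟶ W₁) (v : ↥L),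
      ι.hom.app (op W) (psiK e v) = psi hF s (n + 1) (e ≫ inc) v := fun {W} e v => by
    show ι.hom.app (op W) (∑ j : Fin r, _) = ∑ j : Fin r, _
    rw [map_sum]
    refine Finset.sum_congr rfl fun j _ => ?_
    exact congr($(kernel.lift_ι t (mu hF (n + 1) _) (mu_tr hF n _)).hom.app (op W) _)
  have hinj : ∀ W : Z.Etale, Function.Injective (ι.hom.app (op W)) := fun W => by
    haveI : Mono (ι.hom.app (op W)) := inferInstanceAs (Mono ((sheafToPresheaf Z.smallEtaleTopology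
      (ModuleCat.{u + 1} Λ) ⋙ (evaluation _ _).obj (op W)).map ι))
    exact (ModuleCat.mono_iff_injective (ι.hom.app (op W))).1 inferInstance
  let θ : ↥L →ₗ[Λ] K.obj.obj (op W₁) :=
    { toFun := psiK (𝟙 W₁)
      map_add' := fun v w => hinj W₁ (by rw [map_add, hιK, hιK, hιK, map_add])
      map_smul' := fun c v => hinj W₁ (by rw [RingHom.id_apply, map_smul, hιK, hιK, map_smul]) }
  have hθN : N ≤ LinearMap.ker θ := fun v hv => hinj W₁ (by
    rw [map_zero]
    exact (hιK (𝟙 W₁) v).trans (psi_eq_zero hF s w₀ inc hd hlc (n + 1) v.1 v.2 hv (𝟙 W₁)))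
  have hθmap : ∀ {W : Z.Etale} (e : W ⟶ W₁) (v : ↥L), K.obj.map e.op (θ v) = psiK e v := fun {W} e v =>
    hinj W (by
      rw [NatTrans.naturality_apply ι.hom, hιK]
      show (F.obj (op (n + 1))).obj.map e.op (ι.hom.app (op W₁) (psiK (𝟙 W₁) v)) = _
      rw [hιK, psi_map, Category.id_comp])
  let P : ModuleCat.{u + 1} Λ := ModuleCat.of Λ (↥L ⧸ N)
  obtain ⟨τ, hτ⟩ := (homConst_bijective Z.smallEtaleTopology W₁ P K).2 (ModuleCat.ofHom (N.liftQ θ hθN))
  have hcan : ∀ {W : Z.Etale} (e : W ⟶ W₁) (v : ↥L),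
      τ.app (op (Over.mk e)) (can Z.smallEtaleTopology P W (Submodule.Quotient.mk v)) = psiK e v := by
    intro W e v
    rw [← hθmap]
    refine Eq.trans ?_ (congrArg (K.obj.map e.op) (congr($hτ (Submodule.Quotient.mk v))))
    refine Eq.trans ?_ (NatTrans.naturality_apply τ (Over.homMk e : Over.mk e ⟶ Over.mk (𝟙 W₁)).op _)
    exact congrArg _ (congr($(can_map Z.smallEtaleTopology P e) (Submodule.Quotient.mk v))).symm
  let T : (cEt Λ Z P).over W₁ ⟶ K.over W₁ := ⟨τ⟩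
  have hmem : ∀ (O : Over W₁) (S : Sieve O), (∀ y : O.left.left, ∃ (W : Z.Etale) (g : W ⟶ O.left) (w : W.left),
      g.left w = y ∧ S.arrows (Over.homMk g rfl : Over.mk (g ≫ O.hom) ⟶ O)) →
      S ∈ (Z.smallEtaleTopology.over W₁) O := fun O S h => by
    rw [GrothendieckTopology.mem_over_iff, EtSite.mem_et_iff]
    intro y
    obtain ⟨W, g, w, hw, hg⟩ := h y
    exact ⟨W, g, w, (Sieve.overEquiv_iff S g).2 hg, hw⟩
  haveI hTi : Sheaf.IsLocallyInjective T := ⟨fun {O} x y hxy => by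
    obtain ⟨O⟩ := O
    refine hmem O _ fun v => ?_
    obtain ⟨A, g, a, ⟨p, hp⟩, ha⟩ := (EtSite.mem_et_iff _ _).1 (Presheaf.imageSieve_mem Z.smallEtaleTopology
      (toSheafify Z.smallEtaleTopology ((Functor.const Z.Etaleᵒᵖ).obj P)) (U := op O.left) x) v
    obtain ⟨B, g', b, ⟨q, hq⟩, hb⟩ := (EtSite.mem_et_iff _ _).1 (Presheaf.imageSieve_mem Z.smallEtaleTopology
      (toSheafify Z.smallEtaleTopology ((Functor.const Z.Etaleᵒᵖ).obj P)) (U := op A)
      ((cEt Λ Z P).obj.map g.op y)) a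
    refine ⟨B, g' ≫ g, b, ?_, ?_⟩
    · show g.left (g'.left b) = v
      rw [hb, ha]
    show (cEt Λ Z P).obj.map (g' ≫ g).op x = (cEt Λ Z P).obj.map (g' ≫ g).op y
    rw [op_comp, Functor.map_comp_apply, Functor.map_comp_apply]
    have hx : (cEt Λ Z P).obj.map g'.op ((cEt Λ Z P).obj.map g.op x) = can Z.smallEtaleTopology P B p := by
      refine (congrArg _ hp.symm).trans ?_
      exact congr($(can_map Z.smallEtaleTopology P g') p)
    have hy : (cEt Λ Z P).obj.map g'.op ((cEt Λ Z P).obj.map g.op y) = can Z.smallEtaleTopology P B q := hq.symm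
    let e : B ⟶ W₁ := (g' ≫ g) ≫ O.hom
    obtain ⟨p, rfl⟩ := Submodule.Quotient.mk_surjective N p
    obtain ⟨q, rfl⟩ := Submodule.Quotient.mk_surjective N q
    have h1 : psiK e p = psiK e q := by
      have nx := NatTrans.naturality_apply τ (Over.homMk (g' ≫ g) : Over.mk e ⟶ O).op x
      have ny := NatTrans.naturality_apply τ (Over.homMk (g' ≫ g) : Over.mk e ⟶ O).op y
      have ex : (cEt Λ Z P).obj.map (g' ≫ g).op x =
          can Z.smallEtaleTopology P B (Submodule.Quotient.mk p) := by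
        rw [op_comp, Functor.map_comp_apply]; exact hx
      have ey : (cEt Λ Z P).obj.map (g' ≫ g).op y =
          can Z.smallEtaleTopology P B (Submodule.Quotient.mk q) := by
        rw [op_comp, Functor.map_comp_apply]; exact hy
      rw [← hcan, ← hcan]
      exact (congrArg (τ.app (op (Over.mk e))) ex.symm).trans
        ((nx.trans ((congrArg _ hxy).trans ny.symm)).trans (congrArg (τ.app (op (Over.mk e))) ey))
    rw [hx, hy, (Submodule.Quotient.eq N).2 ?_]
    refine ⟨(p - q).2, B, e ≫ inc, b, ?_⟩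
    have h2 := congrArg (ι.hom.app (op B)) h1
    rw [hιK, hιK] at h2
    show psi hF s (n + 1) (e ≫ inc) (p - q) = 0
    rw [map_sub, h2, sub_self]⟩
  obtain ⟨k, a, ha⟩ := Submodule.fg_iff_exists_fin_generating_family.1 (IsNoetherian.noetherian (I ^ (n + 1)))
  have ha' : ∀ i, a i ∈ I ^ (n + 1) := fun i => ha ▸ Submodule.subset_span ⟨i, rfl⟩
  haveI : HasFiniteBiproducts (EtModW.Mod Λ Z) := Abelian.hasFiniteBiproducts
  let fK : Fin k → (F.obj (op 0) ⟶ K) := fun i => muK ⟨a i, ha' i⟩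
  let tot : (⨁ fun _ : Fin k => F.obj (op 0)) ⟶ K := biproduct.desc fK
  haveI : Epi tot := by
    let π := cokernel.π (tot ≫ ι)
    have hk : ARSys.HomKilledBy (I ^ (n + 1)) π := fun c hc => by
      rw [← ha] at hc
      refine Submodule.span_induction (p := fun c _ => c • π = 0) ?_ (zero_smul _ _)
        (fun x y _ _ hx hy => by rw [add_smul, hx, hy, add_zero])
        (fun c x _ hx => by rw [smul_assoc, hx, smul_zero]) hc
      rintro _ ⟨i, rfl⟩
      have e : a i • π = (a i • 𝟙 (F.obj (op (n + 1)))) ≫ π := by rw [Linear.smul_comp, Category.id_comp]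
      rw [e, ← tr_mu hF (n + 1) ⟨a i, ha' i⟩, Category.assoc]
      have e' : mu hF (n + 1) ⟨a i, ha' i⟩ = biproduct.ι _ i ≫ tot ≫ ι := by
        rw [← Category.assoc, biproduct.ι_desc]
        exact (kernel.lift_ι t _ (mu_tr hF n _)).symm
      rw [e', Category.assoc, Category.assoc]
      show _ ≫ _ ≫ tot ≫ ι ≫ cokernel.π (tot ≫ ι) = 0
      rw [← Category.assoc tot, cokernel.condition, comp_zero, comp_zero]
    obtain ⟨ψ, hψ, -⟩ := (hF.2 n (n + 1) n.le_succ).2 _ π hk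
    have hιπ : ι ≫ π = 0 := by
      rw [← hψ, ← Category.assoc, kernel.condition, zero_comp]
    obtain ⟨A, p, hp, x, hx⟩ := ((ShortComplex.mk (tot ≫ ι) π (cokernel.condition _)).exact_iff_exact_up_to_refinements).1
      (ShortComplex.exact_cokernel (tot ≫ ι)) ι hιπ
    haveI : Epi (x ≫ tot) := by
      rwa [← cancel_mono ι |>.1 ((hx).trans (Category.assoc _ _ _).symm)]
    exact epi_of_epi x tot
  let πi : Fin k → ((⨁ fun _ : Fin k => F.obj (op 0)) ⟶ F.obj (op 0)) :=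
    fun i => biproduct.π (fun _ : Fin k => F.obj (op 0)) i
  haveI hTs : Sheaf.IsLocallySurjective T := ⟨fun {O} z => by
    refine hmem O _ fun v => ?_
    obtain ⟨A, g, w, hw, hA⟩ := exists_lift tot O.left v (n := 1) fun _ => z
    obtain ⟨b, hb⟩ := hA 0
    have step : ∀ (l : Finset (Fin k)), ∃ (B : Z.Etale) (h : B ⟶ A) (b' : B.left), h.left b' = w ∧
        ∀ i ∈ l, ∃ c : Fin r → Λ, (F.obj (op 0)).obj.map h.op ((πi i).hom.app (op A) b) =
          ∑ j, c j • (F.obj (op 0)).obj.map (((h ≫ g) ≫ O.hom) ≫ inc).op (s j) := by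
      intro l
      induction l using Finset.induction_on with
      | empty => exact ⟨A, 𝟙 A, w, rfl, fun i hi => absurd hi (Finset.notMem_empty i)⟩
      | insert i l _ ih =>
        obtain ⟨B, h, b', hb', hl⟩ := ih
        obtain ⟨B', g', b'', c, hb'', hc⟩ := hgen (((h ≫ g) ≫ O.hom) ≫ inc)
          ((F.obj (op 0)).obj.map h.op ((πi i).hom.app (op A) b)) b'
        refine ⟨B', g' ≫ h, b'', ?_, fun i' hi' => ?_⟩
        · show h.left (g'.left b'') = w
          rw [hb'', hb']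
        · rw [Finset.mem_insert] at hi'
          rcases hi' with rfl | hi'
          · refine ⟨c, ?_⟩
            rw [op_comp, Functor.map_comp_apply, hc]
            simp only [Category.assoc]
          · obtain ⟨c', hc'⟩ := hl i' hi'
            refine ⟨c', ?_⟩
            rw [op_comp, Functor.map_comp_apply, hc', map_sum]
            refine Finset.sum_congr rfl fun j _ => ?_
            rw [map_smul, ← Functor.map_comp_apply, ← op_comp]
            simp only [Category.assoc]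
    obtain ⟨B, h, b', hb', hl⟩ := step Finset.univ
    choose c hc using fun i => hl i (Finset.mem_univ i)
    let e : B ⟶ W₁ := (h ≫ g) ≫ O.hom
    have hvmem : (∑ i, a i • c i) ∈ L :=
      Submodule.sum_mem _ fun i _ => Submodule.smul_mem_smul (ha' i) trivial
    refine ⟨B, h ≫ g, b', ?_, can Z.smallEtaleTopology P B (Submodule.Quotient.mk ⟨∑ i, a i • c i, hvmem⟩), ?_⟩
    · show g.left (h.left b') = v
      rw [hb', hw]
    refine (hcan e _).trans ?_
    show psiK e _ = K.obj.map (h ≫ g).op z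
    rw [op_comp, Functor.map_comp_apply, ← hb, ← NatTrans.naturality_apply tot.hom]
    refine hinj B ?_
    rw [hιK]
    have etot : tot ≫ ι = ∑ i, πi i ≫ mu hF (n + 1) ⟨a i, ha' i⟩ := by
      simp [tot, fK, muK, ι, πi, biproduct.desc_eq, Preadditive.sum_comp]
    refine Eq.trans ?_ (congr($(etot).hom.app (op B) _)).symm
    rw [sum_app]
    let vi : Fin k → ↥L := fun i => ⟨a i • c i, Submodule.smul_mem_smul (ha' i) trivial⟩
    rw [show (⟨∑ i, a i • c i, hvmem⟩ : ↥L) = ∑ i, vi i from Subtype.ext (by simp [vi]), map_sum]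
    refine Finset.sum_congr rfl fun i _ => ?_
    show (∑ j : Fin r, _) = (mu hF (n + 1) ⟨a i, ha' i⟩).hom.app (op B) ((πi i).hom.app (op B) _)
    rw [NatTrans.naturality_apply (πi i).hom, hc, map_sum]
    refine Finset.sum_congr rfl fun j _ => ?_
    rw [show (⟨(vi i).1 j, mem_pow_apply (vi i).2 j⟩ : ↥(I ^ (n + 1))) = c i j • ⟨a i, ha' i⟩ from
      Subtype.ext (mul_comm (a i) (c i j)), mu_smul, map_smul]
    rfl⟩
  haveI : IsIso T := (Sheaf.isLocallyBijective_iff_isIso T).1 ⟨hTi, hTs⟩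
  refine ⟨P, ?_, ⟨(asIso T).symm ≪≫
    ((Over.forget W₁).pushforwardContinuousSheafificationCompatibility (ModuleCat.{u + 1} Λ)
      (Z.smallEtaleTopology.over W₁) Z.smallEtaleTopology).symm.app ((Functor.const _).obj P)⟩⟩
  show Module.Finite Λ (↥L ⧸ N)
  haveI : Module.Finite Λ ↥L := Module.Finite.iff_fg.2 (IsNoetherian.noetherian L)
  infer_instance

end System

/-- Triviality near the points of an open gives local constancy of the pullback. -/
theorem isFTLocConst_pull_of_LC {T : Scheme.{u}} (g : T ⟶ Z) {G : EtModW.Mod Λ Z} {O : Set Z}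
    (hg : ∀ t : T, g t ∈ O) (h : LC G O) : EtModW.IsFTLocConst Λ ((EtModW.pull Λ g).obj G) := by
  refine isFTLocConst_of_pointwise fun t => ?_
  obtain ⟨W, w, M, hw, hM, e⟩ := h (g t) (hg t)
  obtain ⟨w', -, hw'⟩ := Scheme.Pullback.exists_preimage_pullback (f := W.hom) (g := g) w t hw
  exact ⟨(EtCoh.bc g).obj W, w', M, hw', hM,
    LocConstGen24.over_pull (ModuleCat.{u + 1} Λ) g W G M e⟩

/-- Local constancy of the restriction to an étale scheme gives triviality near its points. -/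
theorem LC_of_pull {T : Scheme.{u}} (j : T ⟶ Z) [Etale j] {G : EtModW.Mod Λ Z}
    (h : EtModW.IsFTLocConst Λ ((EtModW.pull Λ j).obj G)) : LC G (Set.range j) := by
  rintro _ ⟨t, rfl⟩
  obtain ⟨ι, U, hU, h⟩ := h
  obtain ⟨i, w, hw⟩ := hU t
  obtain ⟨M, _, _, hM, e⟩ := h i
  let V := (EtShriek.compEtale j).obj (U i)
  refine ⟨V, w, ModuleCat.of Λ M, ?_, hM, ?_⟩
  · show j ((U i).hom w) = j t
    rw [hw]
  · rw [LocConstGen24.over_iff] at e ⊢
    obtain ⟨e⟩ := e
    exact ⟨(LocConstGen24.resPullIso (ModuleCat.{u + 1} Λ) V).app G ≪≫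
      (LocConstGen24.pullCompA (ModuleCat.{u + 1} Λ) ((U i).hom : (U i).left ⟶ T) j).app G ≪≫
      ((LocConstGen24.resPullIso (ModuleCat.{u + 1} Λ) (U i)).app _).symm ≪≫ e⟩

theorem exists_irreducible_open (X : Scheme.{u}) [IsNoetherian X] [Nonempty X] :
    ∃ O : X.Opens, IsIrreducible (O : Set X) := by
  obtain ⟨C, hC⟩ : (irreducibleComponents X).Nonempty :=
    ⟨_, irreducibleComponent_mem_irreducibleComponents (Classical.arbitrary X)⟩
  obtain ⟨o, ho, ho', hne⟩ := TopologicalSpace.NoetherianSpace.exists_isOpen_nonempty_subset_irreducibleComponent C hC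
  exact ⟨⟨o, ho⟩, ⟨ho', (hC.1.2.open_subset ho hne)⟩⟩

/-- An adic system of generically trivial sheaves is lisse on a nonempty open. -/
theorem exists_open_lc [IsNoetherianRing Λ] [IsNoetherian Z] [IrreducibleSpace Z] {I : Ideal Λ}
    {F : ARSys.PS (EtModW.Mod Λ Z)} (hF : ARSys.IsAdic I F)
    (hgen : ∀ n : ℕ, ∃ O : Z.Opens, (O : Set Z).Nonempty ∧ LC (F.obj (op n)) O) :
    ∃ O : Z.Opens, (O : Set Z).Nonempty ∧
      ∀ n : ℕ, EtModW.IsFTLocConst Λ ((EtModW.pull Λ O.ι).obj (F.obj (op n))) := by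
  classical
  choose On hne hlc using hgen
  obtain ⟨x, hx⟩ := hne 0
  obtain ⟨U, u', M, hu', hM, ⟨φ⟩⟩ := hlc 0 x hx
  haveI : Etale U.hom := U.prop
  obtain ⟨V, hV, huV, -⟩ := exists_isAffineOpen_mem_and_subset (X := U.left) (x := u') (U := ⊤) trivial
  let U' : Z.Etale := EtSite.sub U V
  haveI : IsAffine U'.left := hV
  let jU : U'.left ⟶ Z := U'.hom
  haveI : Etale jU := U'.prop
  haveI : IsLocallyNoetherian U'.left := LocallyOfFiniteType.isLocallyNoetherian jU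
  haveI : AlgebraicGeometry.IsNoetherian U'.left := { }
  haveI : Nonempty U'.left := ⟨⟨u', huV⟩⟩
  obtain ⟨V', hV'⟩ := exists_irreducible_open U'.left
  let W₀ : Z.Etale := EtSite.sub U' V'
  let inc₀ : W₀ ⟶ U := EtSite.subHom U' V' ≫ EtSite.subHom U V
  haveI : IrreducibleSpace W₀.left := Subtype.irreducibleSpace hV'
  haveI : Etale W₀.hom := W₀.prop
  let w₀ : W₀.left := ⟨hV'.1.some, hV'.1.some_mem⟩
  let α := trivOfRestr φ
  obtain ⟨r, b, hb⟩ := Module.Finite.exists_fin (R := Λ) (M := M)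
  let s : Fin r → (F.obj (op 0)).obj.obj (op W₀) := fun j => sg α inc₀ (b j)
  have hspan : ∀ {W : Z.Etale} (e₀ : W ⟶ W₀) (z : (F.obj (op 0)).obj.obj (op W)) (w : W.left),
      ∃ (W' : Z.Etale) (g : W' ⟶ W) (w' : W'.left) (c : Fin r → Λ), g.left w' = w ∧
        (F.obj (op 0)).obj.map g.op z = ∑ j, c j • (F.obj (op 0)).obj.map (g ≫ e₀).op (s j) := by
    intro W e₀ z w
    obtain ⟨W', g, w', m, hw', hm⟩ := exists_sg α (e₀ ≫ inc₀) z w
    have : m ∈ Submodule.span Λ (Set.range b) := by rw [hb]; trivial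
    obtain ⟨c, rfl⟩ := (Submodule.mem_span_range_iff_exists_fun Λ).1 this
    refine ⟨W', g, w', c, hw', hm.trans ?_⟩
    rw [map_sum]
    refine Finset.sum_congr rfl fun j _ => ?_
    rw [map_smul, sg_map, Category.assoc]
  obtain ⟨d, hd⟩ := exists_bound hF s w₀
  let R₀ : Set Z := Set.range W₀.hom
  let O' : Set Z := R₀ ∩ ⋂ k ∈ Finset.range (d + 1), (On k : Set Z)
  have hO' : IsOpen O' ∧ O'.Nonempty := by
    have : ∀ l : Finset ℕ, IsOpen (R₀ ∩ ⋂ k ∈ l, (On k : Set Z)) ∧ (R₀ ∩ ⋂ k ∈ l, (On k : Set Z)).Nonempty := by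
      intro l
      induction l using Finset.induction_on with
      | empty => simpa [R₀] using And.intro W₀.hom.isOpenMap.isOpen_range (Set.range_nonempty_iff_nonempty.2 ⟨w₀⟩)
      | insert k l _ ih =>
        have e : R₀ ∩ ⋂ i ∈ insert k l, (On i : Set Z) = (On k : Set Z) ∩ (R₀ ∩ ⋂ i ∈ l, (On i : Set Z)) := by
          rw [Finset.set_biInter_insert, Set.inter_left_comm]
        rw [e]
        exact ⟨(On k).2.inter ih.1, nonempty_preirreducible_inter (On k).2 ih.1 (hne k) ih.2⟩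
    exact this _
  let O : Z.Opens := ⟨O', hO'.1⟩
  let V₁ : W₀.left.Opens := W₀.hom ⁻¹ᵁ O
  let W₁ : Z.Etale := EtSite.sub W₀ V₁
  let inc : W₁ ⟶ W₀ := EtSite.subHom W₀ V₁
  have hW₁ : ∀ z ∈ O', ∃ w : W₁.left, W₁.hom w = z := fun z hz => by
    obtain ⟨w, hw⟩ := hz.1
    exact ⟨⟨w, by show W₀.hom w ∈ O'; rw [hw]; exact hz⟩, hw⟩
  have hlc₁ : ∀ k ≤ d, LC (F.obj (op k)) (Set.range W₁.hom) := by
    rintro k hk _ ⟨w, rfl⟩
    refine hlc k _ ?_
    have : W₀.hom (inc.left w) ∈ O' := w.2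
    rw [← MorphismProperty.Over.w inc]
    exact Set.mem_iInter₂.1 this.2 k (Finset.mem_range.2 (by omega))
  refine ⟨O, hO'.2, fun n => ?_⟩
  induction n with
  | zero =>
    refine isFTLocConst_pull_of_LC O.ι (O := On 0) (fun t => ?_) (hlc 0)
    exact Set.mem_iInter₂.1 t.2.2 0 (Finset.mem_range.2 d.succ_pos)
  | succ n ih =>
    let t := ARSys.tr F n.le_succ
    haveI : Epi t := epi_of_isQuot (hF.2 n (n + 1) n.le_succ)
    let S : ShortComplex (EtModW.Mod Λ Z) := ShortComplex.mk (kernel.ι t) t (kernel.condition t)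
    have hS : S.ShortExact :=
      ShortComplex.ShortExact.mk' (ShortComplex.exact_kernel t) (inferInstanceAs (Mono (kernel.ι t)))
        (inferInstanceAs (Epi t))
    refine isFTLocConst_X₂ (hS.map_of_exact (EtModW.pull Λ O.ι)) ?_ ih
    refine isFTLocConst_pull_of_LC O.ι (O := O') (fun t => t.2) fun z hz => ?_
    obtain ⟨M', hM', e⟩ := nonempty_kernel_iso hF s w₀ inc hd hlc₁ hspan n
    obtain ⟨w, hw⟩ := hW₁ z hz
    exact ⟨W₁, w, M', hw, hM', e⟩

end Groth.Agent.EtModEps19
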