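import Groth.Agent.Lib.EtModEps19.LisseStrata
import Groth.Agent.Lib.EtModEps19.AdicP

/-! Adic pro-étale sheaves are lisse on strata. -/

universe u

open CategoryTheory Limits AlgebraicGeometry Opposite

namespace Groth.Agent.EtModEps19

set_option backward.isDefEq.respectTransparency false
set_option backward.isDefEq.respectTransparency.types false
set_option linter.style.haveILetI false
set_option linter.unusedSectionVars false
set_option maxHeartbeats 800000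

variable {Λ : Type (u + 1)} [CommRing Λ] {X T : Scheme.{u}} (g : T ⟶ X) [ProEtS.EpsCont X] [ProEtS.EpsCont T]
  [ProEtS.PCont g]

/-- The identification `g_* ε_* = ε_* g_*` on modules. -/
noncomputable def pushEpsMod :
    (ProEtS.bcP g).sheafPushforwardContinuous (ModuleCat.{u + 1} Λ) (Scheme.ProEt.topology X)
        (Scheme.ProEt.topology T) ⋙ epsPushMod (X := X) Λ ≅
      epsPushMod (X := T) Λ ⋙ EtModW.push Λ g :=
  NatIso.ofComponents (fun G => (fullyFaithfulSheafToPresheaf _ _).preimageIso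
    (NatIso.ofComponents (fun _ => Iso.refl _) (fun {V W} a => (Category.comp_id _).trans (Category.id_comp _).symm)))
    (fun {G H} φ => by
      ext V
      rfl)

/-- `g⁻¹ ε⁻¹ = ε⁻¹ g⁻¹` on modules. -/
noncomputable def pullEpsMod :
    EtModW.epsPullMod Λ X ⋙ (ProEtS.bcP g).sheafPullback (ModuleCat.{u + 1} Λ) (Scheme.ProEt.topology X)
        (Scheme.ProEt.topology T) ≅ EtModW.pull Λ g ⋙ EtModW.epsPullMod Λ T :=
  ((epsAdjMod (X := X) Λ).comp ((ProEtS.bcP g).sheafAdjunctionContinuous (ModuleCat.{u + 1} Λ)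
    (Scheme.ProEt.topology X) (Scheme.ProEt.topology T))).leftAdjointUniq
      (((LocConstGen24.adjA (ModuleCat.{u + 1} Λ) g).comp (epsAdjMod (X := T) Λ)).ofNatIsoRight
        (pushEpsMod g).symm)

theorem exists_adic_tower [IsNoetherianRing Λ] {I : Ideal Λ} {F : EtModW.ModP Λ X} {Q : ℕᵒᵖ ⥤ EtModW.ModP Λ X}
    {p : (Functor.const ℕᵒᵖ).obj F ⟶ Q} (hQ : ∀ n : ℕ, ARSys.IsQuot (I ^ (n + 1)) (p.app (op n)))
    (hc : ∀ n : ℕ, ∃ E : EtModW.Mod Λ X, EtModW.IsConstructible Λ E ∧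
      Nonempty ((EtModW.epsPullMod Λ X).obj E ≅ Q.obj (op n)))
    (hlim : IsIso (limit.lift Q (Cone.mk F p))) :
    ∃ G : ARSys.PS (EtModW.Mod Λ X), ARSys.IsAdic I G ∧ (∀ n : ℕ, EtModW.IsConstructible Λ (G.obj (op n))) ∧
      ∀ n : ℕ, Nonempty ((EtModW.epsPullMod Λ X).obj (G.obj (op n)) ≅ Q.obj (op n)) := by
  have hI : I.FG := IsNoetherian.noetherian I
  obtain ⟨G, hG, hGc, ⟨e⟩⟩ := (isAdicP_iff hI F).1 ⟨Q, p, hQ, hc, hlim⟩
  refine ⟨G, hG, hGc, fun n => ?_⟩
  let q := e.inv ≫ limit.π (G ⋙ EtModW.epsPullMod Λ X) (op n)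
  have hq := isQuot_limit_π hI G hG n
  haveI := epi_limit_π hI G hG n
  haveI := epi_of_isQuot (hQ n)
  haveI : Epi q := epi_comp _ _
  obtain ⟨a, ha, -⟩ := (hQ n).2 _ q fun c hc' => by
    rw [show c • q = q ≫ (c • 𝟙 _) by rw [Linear.comp_smul, Category.comp_id], hq.1 c hc', comp_zero]
  obtain ⟨b, hb, -⟩ := hq.2 _ (e.hom ≫ p.app (op n)) fun c hc' => by
    rw [show c • (e.hom ≫ p.app (op n)) = (e.hom ≫ p.app (op n)) ≫ (c • 𝟙 _) by
      rw [Linear.comp_smul, Category.comp_id], (hQ n).1 c hc', comp_zero]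
  have hb' : q ≫ b = p.app (op n) := by
    show (e.inv ≫ limit.π (G ⋙ EtModW.epsPullMod Λ X) (op n)) ≫ b = _
    rw [Category.assoc, hb, e.inv_hom_id_assoc]
  refine ⟨⟨b, a, ?_, ?_⟩⟩
  · exact (cancel_epi q).1 (((Category.assoc _ _ _).symm.trans ((congrArg (· ≫ a) hb').trans ha)).trans
      (Category.comp_id q).symm)
  · exact (cancel_epi (p.app (op n))).1 (((Category.assoc _ _ _).symm.trans ((congrArg (· ≫ b) ha).trans hb')).trans
      (Category.comp_id (p.app (op n))).symm)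

theorem exists_lisse_obj {E : EtModW.Mod Λ X} {Q : EtModW.ModP Λ X}
    (hl : EtModW.IsFTLocConst Λ ((EtModW.pull Λ g).obj E)) (e : (EtModW.epsPullMod Λ X).obj E ≅ Q) :
    ∃ E' : EtModW.Mod Λ T, EtModW.IsFTLocConst Λ E' ∧ Nonempty ((EtModW.epsPullMod Λ T).obj E' ≅
      ((ProEtS.bcP g).sheafPullback (ModuleCat.{u + 1} Λ) (Scheme.ProEt.topology X)
        (Scheme.ProEt.topology T)).obj Q) :=
  ⟨_, hl, ⟨((pullEpsMod g).app E).symm ≪≫ ((ProEtS.bcP g).sheafPullback (ModuleCat.{u + 1} Λ)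
    (Scheme.ProEt.topology X) (Scheme.ProEt.topology T)).mapIso e⟩⟩

end Groth.Agent.EtModEps19
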