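import Groth.Agent.Lib.EtModEps19.Lisse
import Groth.Agent.Lib.EtStalk.TopInv
import Mathlib.CategoryTheory.Sites.DenseSubsite.Basic

/-! Local constancy descends along surjective closed immersions. -/

universe u

open CategoryTheory Limits AlgebraicGeometry Opposite

namespace Groth.Agent.EtModEps19

set_option backward.isDefEq.respectTransparency false
set_option backward.isDefEq.respectTransparency.types false
set_option linter.style.haveILetI false
set_option linter.unusedSectionVars false
set_option maxHeartbeats 800000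

variable {Λ : Type (u + 1)} [CommRing Λ] {X Y : Scheme.{u}} (i : X ⟶ Y) [IsClosedImmersion i] [Surjective i]

theorem isDenseSubsite_bc :
    (EtCoh.bc i).IsDenseSubsite Y.smallEtaleTopology X.smallEtaleTopology := by
  haveI := EtStalk.isEquivalence_bc i
  refine { isCoverDense' := inferInstance
           isLocallyFull' := inferInstance
           isLocallyFaithful' := inferInstance
           functorPushforward_mem_iff := fun {V} {S} => ⟨fun h => ?_, fun h => ?_⟩ }
  · rw [EtSite.mem_et_iff] at h ⊢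
    intro v
    obtain ⟨x, rfl⟩ := (EtStalk.bijective_bcFst i V).2 v
    obtain ⟨W', f, y, hS, hy⟩ := h x
    obtain ⟨Z, g, h', hg, rfl⟩ := hS
    refine ⟨Z, g, EtStalk.bcFst i Z (h'.left y), hg, ?_⟩
    rw [← EtStalk.bcFst_point, ← hy]
    rfl
  · rw [EtSite.mem_et_iff] at h ⊢
    intro y
    obtain ⟨W, g, w, hg, hw⟩ := h (EtStalk.bcFst i V y)
    obtain ⟨w', rfl⟩ := (EtStalk.bijective_bcFst i W).2 w
    refine ⟨_, (EtCoh.bc i).map g, w', Sieve.image_mem_functorPushforward _ _ hg, ?_⟩
    exact (EtStalk.bijective_bcFst i V).1 ((EtStalk.bcFst_point i g w').trans hw)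

theorem isEquivalence_push : (EtModW.push Λ i).IsEquivalence := by
  haveI := isDenseSubsite_bc i
  haveI : ∀ W : X.Etaleᵒᵖ, HasLimitsOfShape (StructuredArrow W (EtCoh.bc i).op) (ModuleCat.{u + 1} Λ) :=
    fun W => hasLimitsOfShape_of_equivalence
      (AsSmall.equiv : StructuredArrow W (EtCoh.bc i).op ≌ AsSmall.{u + 1} (StructuredArrow W (EtCoh.bc i).op)).symm
  exact inferInstanceAs ((EtCoh.bc i).sheafPushforwardContinuous (ModuleCat.{u + 1} Λ)
    Y.smallEtaleTopology X.smallEtaleTopology).IsEquivalence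

theorem isEquivalence_pull : (EtModW.pull Λ i).IsEquivalence := by
  haveI := isEquivalence_push (Λ := Λ) i
  exact Adjunction.isEquivalence_left_of_isEquivalence_right (LocConstGen24.adjA (ModuleCat.{u + 1} Λ) i)

theorem isFTLocConst_of_pull {G : EtModW.Mod Λ Y} (h : EtModW.IsFTLocConst Λ ((EtModW.pull Λ i).obj G)) :
    EtModW.IsFTLocConst Λ G := by
  haveI := EtStalk.isEquivalence_bc i
  refine isFTLocConst_of_pointwise fun y => ?_
  obtain ⟨x, rfl⟩ := i.surjective y
  obtain ⟨κ, U, hU, h⟩ := h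
  obtain ⟨k, w, hw⟩ := hU x
  obtain ⟨M, _, _, hM, e⟩ := h k
  let V := (EtCoh.bc i).objPreimage (U k)
  let φ : (EtCoh.bc i).obj V ≅ U k := (EtCoh.bc i).objObjPreimageIso (U k)
  obtain ⟨e'⟩ := LocConstGen24.res_triv_of_hom (ModuleCat.{u + 1} Λ) φ.hom _ _ e
  let W := (EtCoh.bc i).obj V
  let j : W.left ⟶ V.left := EtStalk.bcFst i V
  haveI : IsClosedImmersion j := inferInstanceAs (IsClosedImmersion (pullback.fst V.hom i))
  haveI : Surjective j := ⟨(EtStalk.bijective_bcFst i V).2⟩
  haveI := isEquivalence_pull (Λ := Λ) j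
  refine ⟨V, j (φ.inv.left w), ModuleCat.of Λ M, ?_, hM, (LocConstGen24.over_iff _ _ _ _).2 ?_⟩
  · show V.hom (pullback.fst V.hom i (φ.inv.left w)) = i x
    rw [← Scheme.Hom.comp_apply, pullback.condition, Scheme.Hom.comp_apply, ← hw]
    congr 1
    rw [← MorphismProperty.Over.w φ.inv]
    rfl
  · let A := ModuleCat.{u + 1} Λ
    have hc : j ≫ V.hom = W.hom ≫ i := pullback.condition
    exact ⟨(EtModW.pull Λ j).preimageIso
      ((LocConstGen24.pullA A j).mapIso ((LocConstGen24.resPullIso A V).app G) ≪≫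
        ((LocConstGen24.pullCompA A j V.hom).app G).symm ≪≫
        eqToIso (congrArg (fun h : W.left ⟶ Y => (LocConstGen24.pullA A h).obj G) hc) ≪≫
        (LocConstGen24.pullCompA A W.hom i).app G ≪≫
        ((LocConstGen24.resPullIso A W).app _).symm ≪≫ e' ≪≫
        ((LocConstGen24.pullConstA A j).app _).symm)⟩

end Groth.Agent.EtModEps19
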