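import Groth.Agent.Lib.EtModEps19.Lisse
import Groth.Agent.Lib.RedSep.Basic
import Groth.Agent.Lib.EtModEps19.NilDesc
import Mathlib.AlgebraicGeometry.Morphisms.ClosedImmersion
import Mathlib.AlgebraicGeometry.Morphisms.Immersion

/-! Finite stratifications on which an adic system is lisse. -/

universe u

open CategoryTheory Limits AlgebraicGeometry Opposite

namespace Groth.Agent.EtModEps19

set_option backward.isDefEq.respectTransparency false
set_option backward.isDefEq.respectTransparency.types false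
set_option linter.style.haveILetI false
set_option linter.unusedSectionVars false
set_option maxHeartbeats 800000

variable {Λ : Type (u + 1)} [CommRing Λ] {X : Scheme.{u}}

theorem push_map_smul {T : Scheme.{u}} (f : T ⟶ X) {A B : EtModW.Mod Λ T} (a : Λ) (φ : A ⟶ B) :
    (EtModW.push Λ f).map (a • φ) = a • (EtModW.push Λ f).map φ := by
  ext U
  rfl

theorem pull_map_smul {T : Scheme.{u}} (f : T ⟶ X) {A B : EtModW.Mod Λ X} (a : Λ) (φ : A ⟶ B) :
    (EtModW.pull Λ f).map (a • φ) = a • (EtModW.pull Λ f).map φ := by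
  let adj := LocConstGen24.adjA (ModuleCat.{u + 1} Λ) f
  refine (adj.homEquiv _ _).injective ?_
  rw [Adjunction.homEquiv_unit, Adjunction.homEquiv_unit]
  show _ = _ ≫ (EtModW.push Λ f).map (a • (EtModW.pull Λ f).map φ)
  rw [push_map_smul, Linear.comp_smul]
  refine (adj.unit.naturality (a • φ)).symm.trans ?_
  refine ((Linear.smul_comp _ _ _ a φ _).trans ?_)
  exact congrArg (a • ·) (adj.unit.naturality φ)

theorem isQuot_pull {T : Scheme.{u}} (f : T ⟶ X) {J : Ideal Λ} {F Q : EtModW.Mod Λ X} {p : F ⟶ Q}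
    (hp : ARSys.IsQuot J p) : ARSys.IsQuot J ((EtModW.pull Λ f).map p) := by
  refine ⟨fun a ha => ?_, fun Y φ hφ => ?_⟩
  · rw [← CategoryTheory.Functor.map_id, ← pull_map_smul, hp.1 a ha, Functor.map_zero]
  · let A := LocConstGen24.adjA (ModuleCat.{u + 1} Λ) f
    obtain ⟨ψ, hψ, huniq⟩ := hp.2 _ (A.homEquiv _ _ φ) fun a ha => by
      rw [Adjunction.homEquiv_unit, ← Linear.comp_smul]
      show _ ≫ (a • (EtModW.push Λ f).map φ) = 0
      rw [← push_map_smul, hφ a ha, Functor.map_zero, comp_zero]
    refine ⟨(A.homEquiv _ _).symm ψ, ?_, fun y hy => ?_⟩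
    · show _ ≫ _ = _
      rw [← Adjunction.homEquiv_naturality_left_symm, hψ, Equiv.symm_apply_apply]
    · refine (A.homEquiv _ _).injective ?_
      rw [Equiv.apply_symm_apply]
      exact huniq _ ((A.homEquiv_naturality_left _ _).symm.trans (congrArg _ hy))

theorem isAdic_pull {T : Scheme.{u}} (f : T ⟶ X) {I : Ideal Λ} {F : ARSys.PS (EtModW.Mod Λ X)}
    (hF : ARSys.IsAdic I F) : ARSys.IsAdic I (F ⋙ EtModW.pull Λ f) :=
  ⟨fun n => (isQuot_pull f (hF.2 n n le_rfl)).1, fun n m h => isQuot_pull f (hF.2 n m h)⟩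

/-- A constructible sheaf is trivial near the generic point of an irreducible scheme over `X`. -/
theorem exists_open_lc_of_isConstructible {Z : Scheme.{u}} [IrreducibleSpace Z] (f : Z ⟶ X)
    {E : EtModW.Mod Λ X} (hE : EtModW.IsConstructible Λ E) :
    ∃ O : Z.Opens, (O : Set Z).Nonempty ∧ LC ((EtModW.pull Λ f).obj E) (O : Set Z) := by
  let η := genericPoint Z
  obtain ⟨U, hU, hηU, -⟩ := exists_isAffineOpen_mem_and_subset (X := X) (x := f η) (U := ⊤) trivial
  obtain ⟨n, T, g, hg, -, -, hgu, hgl⟩ := hE U hU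
  obtain ⟨i, t, ht⟩ := Set.mem_iUnion.1 ((congrArg (f η ∈ ·) hgu).mpr hηU)
  haveI := hg i
  let q := pullback.fst f (g i)
  haveI : IsImmersion q := inferInstance
  have hη : η ∈ Set.range q := by
    rw [Scheme.Pullback.range_fst]
    exact ⟨t, ht⟩
  have hd : closure (Set.range q) = Set.univ :=
    Set.univ_subset_iff.1 ((genericPoint_spec Z).symm.le.trans (closure_mono (Set.singleton_subset_iff.2 hη)))
  have hcb : (q.coborderRange : Set Z) = Set.range q := by
    show coborder (Set.range q) = _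
    rw [coborder, hd, ← Set.compl_eq_univ_sdiff, compl_compl]
  haveI : Surjective q.liftCoborder := ⟨fun y => by
    have hy : q.coborderRange.ι y ∈ Set.range q := hcb ▸ y.2
    obtain ⟨p, hp⟩ := hy
    refine ⟨p, q.coborderRange.ι.isOpenEmbedding.injective ?_⟩
    rw [← Scheme.Hom.comp_apply, Scheme.Hom.liftCoborder_ι, hp]⟩
  refine ⟨q.coborderRange, ⟨η, hcb ▸ hη⟩, ?_⟩
  let A := ModuleCat.{u + 1} Λ
  have h := isFTLocConst_pull_comp (pullback.snd f (g i)) (g i) (hgl i)
  rw [← pullback.condition] at h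
  have hq : EtModW.IsFTLocConst Λ ((EtModW.pull Λ q).obj ((EtModW.pull Λ f).obj E)) :=
    isFTLocConst_of_iso ((LocConstGen24.pullCompA A q f).app E) h
  rw [← q.liftCoborder_ι] at hq
  have := LC_of_pull q.coborderRange.ι (isFTLocConst_of_pull q.liftCoborder
    (isFTLocConst_of_iso ((LocConstGen24.pullCompA A q.liftCoborder q.coborderRange.ι).app _) hq))
  rwa [q.coborderRange.range_ι] at this

/-- An adic system of constructible sheaves has a finite stratification on which it is lisse. -/
theorem exists_strata [IsNoetherianRing Λ] [IsNoetherian X] {I : Ideal Λ} {F : ARSys.PS (EtModW.Mod Λ X)}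
    (hF : ARSys.IsAdic I F) (hc : ∀ n : ℕ, EtModW.IsConstructible Λ (F.obj (op n)))
    (C : TopologicalSpace.Closeds X) :
    ∃ (m : ℕ) (T : Fin m → Scheme.{u}) (g : ∀ i, T i ⟶ X), (∀ i, IsImmersion (g i)) ∧
      Pairwise (fun i j => Disjoint (Set.range (g i)) (Set.range (g j))) ∧
      (⋃ i, Set.range (g i)) = (C : Set X) ∧
      ∀ i n, EtModW.IsFTLocConst Λ ((EtModW.pull Λ (g i)).obj (F.obj (op n))) := by
  classical
  induction C using WellFoundedLT.induction with
  | ind C ih =>
    by_cases hC : (C : Set X) = ∅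
    · exact ⟨0, fun i => i.elim0, fun i => i.elim0, fun i => i.elim0, fun i => i.elim0,
        by rw [hC]; exact Set.iUnion_of_empty _, fun i => i.elim0⟩
    let J := Scheme.IdealSheafData.vanishingIdeal C
    let ι := J.subschemeι
    have hr : Set.range ι = (C : Set X) := by
      rw [Scheme.IdealSheafData.range_subschemeι, Scheme.IdealSheafData.coe_support_vanishingIdeal]
    haveI : IsReduced J.subscheme := RedSepLib.isReduced_vanishingIdeal_subscheme C
    haveI : IsLocallyNoetherian J.subscheme := LocallyOfFiniteType.isLocallyNoetherian ι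
    haveI : CompactSpace J.subscheme := QuasiCompact.compactSpace_of_compactSpace ι
    haveI : AlgebraicGeometry.IsNoetherian J.subscheme := { }
    haveI : Nonempty J.subscheme := by
      obtain ⟨x, hx⟩ := Set.nonempty_iff_ne_empty.2 hC
      rw [← hr] at hx
      exact ⟨hx.choose⟩
    obtain ⟨V, hV⟩ := exists_irreducible_open J.subscheme
    haveI : IrreducibleSpace V.toScheme := Subtype.irreducibleSpace hV
    haveI : IsLocallyNoetherian V.toScheme := LocallyOfFiniteType.isLocallyNoetherian V.ι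
    haveI : CompactSpace V.toScheme :=
      isCompact_iff_compactSpace.1 (TopologicalSpace.NoetherianSpace.isCompact (V : Set J.subscheme))
    haveI : AlgebraicGeometry.IsNoetherian V.toScheme := { }
    let f : V.toScheme ⟶ X := V.ι ≫ ι
    obtain ⟨O, hO, hlc⟩ := exists_open_lc (isAdic_pull f hF) fun n => exists_open_lc_of_isConstructible f (hc n)
    let g₀ : O.toScheme ⟶ X := O.ι ≫ f
    let W : J.subscheme.Opens := V.ι ''ᵁ O
    have hg₀ : Set.range g₀ = ι '' (W : Set J.subscheme) := by
      show Set.range (ι ∘ (V.ι ∘ O.ι)) = _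
      rw [Set.range_comp, Set.range_comp, O.range_ι]
      rfl
    let C' : TopologicalSpace.Closeds X :=
      ⟨ι '' (W : Set J.subscheme)ᶜ, ι.isClosedEmbedding.isClosedMap _ W.2.isClosed_compl⟩
    have hlt : C' < C := by
      refine lt_of_le_of_ne (fun x hx => ?_) fun h => ?_
      · obtain ⟨y, -, rfl⟩ := hx
        show ι y ∈ (C : Set X)
        rw [← hr]; exact ⟨y, rfl⟩
      · obtain ⟨o, ho⟩ := hO
        have hmem : ι (V.ι o) ∈ (C' : Set X) := by rw [h, ← hr]; exact ⟨_, rfl⟩
        obtain ⟨y, hy, hy'⟩ := hmem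
        exact hy (ι.isClosedEmbedding.injective hy' ▸ ⟨o, ho, rfl⟩)
    obtain ⟨m, T, g, hg, hd, hu, hl⟩ := ih C' hlt
    refine ⟨m + 1, Fin.cons O.toScheme T, Fin.cases g₀ g, Fin.cases (inferInstanceAs (IsImmersion g₀)) hg, ?_, ?_,
      Fin.cases (fun n => isFTLocConst_of_iso
        ((LocConstGen24.pullCompA (ModuleCat.{u + 1} Λ) O.ι f).app _).symm (hlc n)) hl⟩
    · have h0 : ∀ i, Disjoint (Set.range g₀) (Set.range (g i)) := fun i => by
        rw [hg₀]
        refine Disjoint.mono_right ((Set.subset_iUnion (fun i => Set.range (g i)) i).trans hu.le) ?_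
        exact (Set.disjoint_image_iff ι.isClosedEmbedding.injective).2 disjoint_compl_right
      intro i j hij
      induction i using Fin.cases with
      | zero =>
        induction j using Fin.cases with
        | zero => exact absurd rfl hij
        | succ j => exact h0 j
      | succ i =>
        induction j using Fin.cases with
        | zero => exact (h0 i).symm
        | succ j => exact hd fun h => hij (congrArg Fin.succ h)
    · ext x
      simp only [Set.mem_iUnion]
      rw [Fin.exists_fin_succ]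
      show (x ∈ Set.range g₀ ∨ ∃ i, x ∈ Set.range (g i)) ↔ _
      rw [← Set.mem_iUnion, hu, hg₀, ← hr]
      show (x ∈ ι '' (W : Set J.subscheme) ∨ x ∈ ι '' (W : Set J.subscheme)ᶜ) ↔ _
      rw [← Set.mem_union, ← Set.image_union, Set.union_compl_self, Set.image_univ]

/-- An adic system of constructible sheaves is lisse on a dense open. -/
theorem exists_dense_open [IsNoetherianRing Λ] [IsNoetherian X] {I : Ideal Λ} {F : ARSys.PS (EtModW.Mod Λ X)}
    (hF : ARSys.IsAdic I F) (hc : ∀ n : ℕ, EtModW.IsConstructible Λ (F.obj (op n))) :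
    ∃ U : X.Opens, Dense (U : Set X) ∧ ∀ n, EtModW.IsFTLocConst Λ ((EtModW.pull Λ U.ι).obj (F.obj (op n))) := by
  let U : X.Opens := sSup {O : X.Opens | ∀ n, LC (F.obj (op n)) (O : Set X)}
  refine ⟨U, dense_iff_inter_open.2 fun W hW hne => ?_, fun n => isFTLocConst_pull_of_LC U.ι (O := (U : Set X))
    (fun t => t.2) fun x hx => ?_⟩
  · let W' : X.Opens := ⟨W, hW⟩
    haveI : IsLocallyNoetherian W'.toScheme := LocallyOfFiniteType.isLocallyNoetherian W'.ι
    haveI : CompactSpace W'.toScheme :=
      isCompact_iff_compactSpace.1 (TopologicalSpace.NoetherianSpace.isCompact (W' : Set X))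
    haveI : AlgebraicGeometry.IsNoetherian W'.toScheme := { }
    haveI : Nonempty W'.toScheme := ⟨⟨_, hne.some_mem⟩⟩
    obtain ⟨V, hV⟩ := exists_irreducible_open W'.toScheme
    haveI : IrreducibleSpace V.toScheme := Subtype.irreducibleSpace hV
    haveI : IsLocallyNoetherian V.toScheme := LocallyOfFiniteType.isLocallyNoetherian V.ι
    haveI : CompactSpace V.toScheme :=
      isCompact_iff_compactSpace.1 (TopologicalSpace.NoetherianSpace.isCompact (V : Set W'.toScheme))
    haveI : AlgebraicGeometry.IsNoetherian V.toScheme := { }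
    let f : V.toScheme ⟶ X := V.ι ≫ W'.ι
    obtain ⟨O, hO, hlc⟩ := exists_open_lc (isAdic_pull f hF) fun n => exists_open_lc_of_isConstructible f (hc n)
    let g : O.toScheme ⟶ X := O.ι ≫ f
    have hg : g.opensRange ∈ {O : X.Opens | ∀ n, LC (F.obj (op n)) (O : Set X)} := fun n =>
      LC_of_pull g (isFTLocConst_of_iso ((LocConstGen24.pullCompA (ModuleCat.{u + 1} Λ) O.ι f).app _).symm (hlc n))
    obtain ⟨o, ho⟩ := hO
    refine ⟨g ⟨o, ho⟩, ?_, TopologicalSpace.Opens.mem_sSup.2 ⟨_, hg, _, rfl⟩⟩
    exact (V.ι (O.ι ⟨o, ho⟩)).2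
  · obtain ⟨O, hO, hxO⟩ := TopologicalSpace.Opens.mem_sSup.1 hx
    exact hO n x hxO

end Groth.Agent.EtModEps19
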