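import Groth.Agent.Lib.EtModEps19.EtML
import Groth.Agent.Lib.LocConstGen24.HomLin
import Mathlib.Algebra.Category.ModuleCat.Kernels
import Mathlib.CategoryTheory.Limits.Preserves.Shapes.Kernels
import Mathlib.Algebra.Homology.ShortComplex.ShortExact
import Mathlib.CategoryTheory.Abelian.SerreClass.Basic

/-! Locally constant sheaves of modules of finite type form a weak Serre subcategory. -/

universe u

open CategoryTheory Limits AlgebraicGeometry Opposite

namespace Groth.Agent.EtModEps19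

set_option backward.isDefEq.respectTransparency false
set_option backward.isDefEq.respectTransparency.types false
set_option linter.style.haveILetI false
set_option linter.unusedSectionVars false
set_option maxHeartbeats 800000

variable {Λ : Type (u + 1)} [CommRing Λ] {X : Scheme.{u}}

instance preservesFiniteLimits_constEt :
    PreservesFiniteLimits (constantSheaf X.smallEtaleTopology (ModuleCat.{u + 1} Λ)) :=
  comp_preservesFiniteLimits _ _

instance preservesFiniteColimits_constEt :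
    PreservesFiniteColimits (constantSheaf X.smallEtaleTopology (ModuleCat.{u + 1} Λ)) :=
  comp_preservesFiniteColimits _ _

instance preservesFiniteLimits_constOver (U : X.Etale) :
    PreservesFiniteLimits (constantSheaf (X.smallEtaleTopology.over U) (ModuleCat.{u + 1} Λ)) :=
  comp_preservesFiniteLimits _ _

instance preservesFiniteColimits_constOver (U : X.Etale) :
    PreservesFiniteColimits (constantSheaf (X.smallEtaleTopology.over U) (ModuleCat.{u + 1} Λ)) :=
  comp_preservesFiniteColimits _ _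

instance isLeftAdjoint_overPull (U : X.Etale) :
    (X.smallEtaleTopology.overPullback (ModuleCat.{u + 1} Λ) U).IsLeftAdjoint :=
  ((Over.forget U).sheafAdjunctionCocontinuous (ModuleCat.{u + 1} Λ) (X.smallEtaleTopology.over U)
    X.smallEtaleTopology).isLeftAdjoint

instance preservesFiniteColimits_overPull (U : X.Etale) :
    PreservesFiniteColimits (X.smallEtaleTopology.overPullback (ModuleCat.{u + 1} Λ) U) :=
  inferInstance

theorem exists_const_hom {F G : EtModW.Mod Λ X} (φ : F ⟶ G) (hF : EtModW.IsFTLocConst Λ F)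
    (hG : EtModW.IsFTLocConst Λ G) (x : X) :
    ∃ (W : X.Etale) (w : W.left) (M N : ModuleCat.{u + 1} Λ) (h : M ⟶ N)
      (α : F.over W ≅ (constantSheaf (X.smallEtaleTopology.over W) (ModuleCat.{u + 1} Λ)).obj M)
      (β : G.over W ≅ (constantSheaf (X.smallEtaleTopology.over W) (ModuleCat.{u + 1} Λ)).obj N),
      W.hom w = x ∧ Module.Finite Λ M ∧ Module.Finite Λ N ∧
      (X.smallEtaleTopology.overPullback (ModuleCat.{u + 1} Λ) W).map φ ≫ β.hom =
        α.hom ≫ (constantSheaf (X.smallEtaleTopology.over W) (ModuleCat.{u + 1} Λ)).map h := by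
  obtain ⟨ι, U, hU, hF⟩ := hF
  obtain ⟨κ, V, hV, hG⟩ := hG
  obtain ⟨i, hi⟩ := hU x
  obtain ⟨j, hj⟩ := hV x
  obtain ⟨W0, a, b, z, hz⟩ := LocConstGen24.exists_common (U i) (V j) hi hj
  obtain ⟨M, hM, hM', hfin, hF'⟩ := hF i
  obtain ⟨N, hN, hN', hfin', hG'⟩ := hG j
  obtain ⟨eF⟩ := LocConstGen24.res_triv_of_hom (ModuleCat.{u + 1} Λ) a F _ hF'
  obtain ⟨eG⟩ := LocConstGen24.res_triv_of_hom (ModuleCat.{u + 1} Λ) b G _ hG'
  haveI : Module.Finite Λ (ModuleCat.of Λ M) := hfin
  obtain ⟨W, w, hw, h, α, β, he⟩ := LocConstGen24.exists_mod Λ W0 z φ eF eG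
  refine ⟨_, w, _, _, h, α, β, ?_, hfin, hfin', he⟩
  show W0.hom (W.hom w) = x
  rw [hw, hz]

theorem isFTLocConst_of_pointwise {F : EtModW.Mod Λ X}
    (h : ∀ x : X, ∃ (W : X.Etale) (w : W.left) (M : ModuleCat.{u + 1} Λ), W.hom w = x ∧ Module.Finite Λ M ∧
      Nonempty (F.over W ≅ (constantSheaf (X.smallEtaleTopology.over W) (ModuleCat.{u + 1} Λ)).obj M)) :
    EtModW.IsFTLocConst Λ F := by
  choose W w M hw hM e using h
  exact ⟨X, W, fun x => ⟨x, w x, hw x⟩, fun x => ⟨M x, inferInstance, inferInstance, hM x, e x⟩⟩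

/-- Kernels. -/
theorem isFTLocConst_kernel [IsNoetherianRing Λ] {F G : EtModW.Mod Λ X} (φ : F ⟶ G)
    (hF : EtModW.IsFTLocConst Λ F) (hG : EtModW.IsFTLocConst Λ G) : EtModW.IsFTLocConst Λ (kernel φ) := by
  refine isFTLocConst_of_pointwise fun x => ?_
  obtain ⟨W, w, M, N, h, α, β, hw, hM, -, he⟩ := exists_const_hom φ hF hG x
  refine ⟨W, w, kernel h, hw, ?_, ⟨PreservesKernel.iso (X.smallEtaleTopology.overPullback _ W) φ ≪≫
    kernel.mapIso _ _ α β he ≪≫ (PreservesKernel.iso (constantSheaf (X.smallEtaleTopology.over W) _) h).symm⟩⟩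
  haveI := isNoetherian_of_isNoetherianRing_of_finite Λ M
  exact Module.Finite.equiv (ModuleCat.kernelIsoKer h).toLinearEquiv.symm

/-- Cokernels. -/
theorem isFTLocConst_cokernel {F G : EtModW.Mod Λ X} (φ : F ⟶ G)
    (hF : EtModW.IsFTLocConst Λ F) (hG : EtModW.IsFTLocConst Λ G) : EtModW.IsFTLocConst Λ (cokernel φ) := by
  refine isFTLocConst_of_pointwise fun x => ?_
  obtain ⟨W, w, M, N, h, α, β, hw, -, hN, he⟩ := exists_const_hom φ hF hG x
  refine ⟨W, w, cokernel h, hw, ?_, ⟨PreservesCokernel.iso (X.smallEtaleTopology.overPullback _ W) φ ≪≫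
    cokernel.mapIso _ _ α β he ≪≫
      (PreservesCokernel.iso (constantSheaf (X.smallEtaleTopology.over W) _) h).symm⟩⟩
  exact Module.Finite.equiv (ModuleCat.cokernelIsoRangeQuotient h).toLinearEquiv.symm

section Ext

theorem exists_lift {G H : EtModW.Mod Λ X} (g : G ⟶ H) [Epi g] (U : X.Etale) (u₀ : U.left) {n : ℕ}
    (z : Fin n → H.obj.obj (op U)) :
    ∃ (W : X.Etale) (a : W ⟶ U) (w : W.left), a.left w = u₀ ∧
      ∀ j, ∃ b : G.obj.obj (op W), g.hom.app (op W) b = H.obj.map a.op (z j) := by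
  haveI hg : Sheaf.IsLocallySurjective g := (Sheaf.isLocallySurjective_iff_epi' (φ := g)).2 inferInstance
  induction n with
  | zero => exact ⟨U, 𝟙 U, u₀, rfl, fun j => j.elim0⟩
  | succ n ih =>
    obtain ⟨W, a, w, hw, hb⟩ := ih (fun j => z j.castSucc)
    have hs := Presheaf.imageSieve_mem X.smallEtaleTopology g.hom (U := op W)
      (H.obj.map a.op (z (Fin.last n)))
    rw [EtSite.mem_et_iff] at hs
    obtain ⟨W', a', w', ⟨b, hb'⟩, hw'⟩ := hs w
    refine ⟨W', a' ≫ a, w', ?_, fun j => ?_⟩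
    · show a.left (a'.left w') = u₀
      rw [hw', hw]
    · induction j using Fin.lastCases with
      | last => exact ⟨b, by rw [hb', op_comp, Functor.map_comp_apply]⟩
      | cast j =>
        obtain ⟨c, hc⟩ := hb j
        exact ⟨G.obj.map a'.op c, by rw [NatTrans.naturality_apply g.hom, hc, op_comp, Functor.map_comp_apply]⟩

theorem exists_sg_fin {F : EtModW.Mod Λ X} {U : X.Etale} {M : ModuleCat.{u + 1} Λ}
    (α : (Over.forget U).op ⋙ F.obj ≅ (Over.forget U).op ⋙ (cEt Λ X M).obj) {V : X.Etale} (a : V ⟶ U)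
    (v : V.left) {k : ℕ} (z : Fin k → F.obj.obj (op V)) :
    ∃ (W : X.Etale) (g : W ⟶ V) (w : W.left), g.left w = v ∧
      ∀ l, ∃ m : M, F.obj.map g.op (z l) = sg α (g ≫ a) m := by
  induction k with
  | zero => exact ⟨V, 𝟙 V, v, rfl, fun l => l.elim0⟩
  | succ k ih =>
    obtain ⟨W, g, w, hw, hm⟩ := ih (fun l => z l.castSucc)
    obtain ⟨W', g', w', m, hw', hm'⟩ := exists_sg α (g ≫ a) (F.obj.map g.op (z (Fin.last k))) w
    refine ⟨W', g' ≫ g, w', ?_, fun l => ?_⟩
    · show g.left (g'.left w') = v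
      rw [hw', hw]
    · induction l using Fin.lastCases with
      | last => exact ⟨m, by rw [Category.assoc, op_comp, Functor.map_comp_apply, hm']⟩
      | cast l =>
        obtain ⟨c, hc⟩ := hm l
        exact ⟨c, by rw [Category.assoc, op_comp, Functor.map_comp_apply, hc, sg_map]⟩

/-- Extensions. -/
theorem isFTLocConst_X₂ [IsNoetherianRing Λ] {S : ShortComplex (EtModW.Mod Λ X)} (hS : S.ShortExact)
    (h₁ : EtModW.IsFTLocConst Λ S.X₁) (h₃ : EtModW.IsFTLocConst Λ S.X₃) : EtModW.IsFTLocConst Λ S.X₂ := by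
  classical
  refine isFTLocConst_of_pointwise fun x => ?_
  haveI := hS.mono_f
  haveI := hS.epi_g
  obtain ⟨ι, U, hU, hF⟩ := h₁
  obtain ⟨κ, V, hV, hH⟩ := h₃
  obtain ⟨i, hi⟩ := hU x
  obtain ⟨j, hj⟩ := hV x
  obtain ⟨W₀, a₀, c₀, w₀, hw₀⟩ := LocConstGen24.exists_common (U i) (V j) hi hj
  obtain ⟨M, _, _, hM, ⟨eF⟩⟩ := hF i
  obtain ⟨N, _, _, hN, ⟨eH⟩⟩ := hH j
  let α := trivOfRestr eF
  let γ := trivOfRestr eH
  obtain ⟨n, p, hp⟩ := Module.Finite.exists_fin' Λ N
  obtain ⟨k, r, hr⟩ := Submodule.fg_iff_exists_fin_generating_family.1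
    (IsNoetherian.noetherian (LinearMap.ker p))
  obtain ⟨W₁, g₁, w₁, hw₁, hb⟩ := exists_lift S.g W₀ w₀ fun j => sg γ c₀ (p fun i => if j = i then 1 else 0)
  choose b hb using hb
  let s : (Fin n → Λ) →ₗ[Λ] S.X₂.obj.obj (op W₁) := Fintype.linearCombination Λ b
  have hs : ∀ v, S.g.hom.app (op W₁) (s v) = sg γ (g₁ ≫ c₀) (p v) := fun v => by
    conv_rhs => rw [pi_eq_sum_univ v]
    rw [show s v = ∑ l, v l • b l from Fintype.linearCombination_apply ..]
    simp only [map_sum, map_smul, hb]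
    exact Finset.sum_congr rfl fun l _ => congrArg (v l • ·) (sg_map γ g₁ c₀ _)
  have hz : ∀ l, ∃ a : S.X₁.obj.obj (op W₁), S.f.hom.app (op W₁) a = s (r l) := fun l => by
    have hex := (hS.exact.map_of_mono_of_preservesKernel
      (sheafToPresheaf X.smallEtaleTopology (ModuleCat.{u + 1} Λ) ⋙ (evaluation _ _).obj (op W₁))
      inferInstance inferInstance)
    rw [ShortComplex.moduleCat_exact_iff] at hex
    refine hex (s (r l)) ?_
    show S.g.hom.app (op W₁) (s (r l)) = 0
    have : r l ∈ LinearMap.ker p := hr ▸ Submodule.subset_span ⟨l, rfl⟩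
    rw [hs, LinearMap.mem_ker.1 this, map_zero]
  choose z hz using hz
  obtain ⟨W, g, w, hw, hm⟩ := exists_sg_fin α (g₁ ≫ a₀) w₁ z
  choose m hm using hm
  let a : W ⟶ U i := g ≫ g₁ ≫ a₀
  let c : W ⟶ V j := g ≫ g₁ ≫ c₀
  let θ : (M × (Fin n → Λ)) →ₗ[Λ] S.X₂.obj.obj (op W) :=
    ((S.f.hom.app (op W)).hom.comp (sg α a).hom).coprod ((S.X₂.obj.map g.op).hom.comp s)
  let R : Submodule Λ (M × (Fin n → Λ)) := Submodule.span Λ (Set.range fun l => (- m l, r l))
  have hθg : ∀ v, S.g.hom.app (op W) (S.X₂.obj.map g.op (s v)) = sg γ c (p v) := fun v => by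
    rw [NatTrans.naturality_apply S.g.hom, hs, sg_map]
  have hfg : ∀ (t : S.X₁.obj.obj (op W)), S.g.hom.app (op W) (S.f.hom.app (op W) t) = 0 := fun t =>
    congr($(S.zero).hom.app (op W) t)
  have hR : R ≤ LinearMap.ker θ := by
    rw [Submodule.span_le]
    rintro _ ⟨l, rfl⟩
    show S.f.hom.app (op W) (sg α a (- m l)) + S.X₂.obj.map g.op (s (r l)) = 0
    rw [map_neg, map_neg, ← hz, ← NatTrans.naturality_apply S.f.hom, hm, neg_add_cancel]
  let P : ModuleCat.{u + 1} Λ := ModuleCat.of Λ ((M × (Fin n → Λ)) ⧸ R)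
  let T : ShortComplex (ModuleCat.{u + 1} Λ) := ShortComplex.mk
    (ModuleCat.ofHom (R.mkQ.comp (LinearMap.inl Λ M (Fin n → Λ))) : ModuleCat.of Λ M ⟶ P)
    (ModuleCat.ofHom (R.liftQ (p.comp (LinearMap.snd Λ M (Fin n → Λ))) (by
      rw [Submodule.span_le]
      rintro _ ⟨l, rfl⟩
      have : r l ∈ LinearMap.ker p := hr ▸ Submodule.subset_span ⟨l, rfl⟩
      exact LinearMap.mem_ker.1 this)) : P ⟶ ModuleCat.of Λ N)
    (ModuleCat.hom_ext <| LinearMap.ext fun x => by
      show p (0 : Fin n → Λ) = 0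
      exact map_zero p)
  have hinj : Function.Injective T.f := by
    refine (injective_iff_map_eq_zero _).2 fun (t : M) ht => ?_
    have ht' : ((t, 0) : M × (Fin n → Λ)) ∈ R := (Submodule.Quotient.mk_eq_zero R).1 ht
    have h0 : θ (t, 0) = 0 := LinearMap.mem_ker.1 (hR ht')
    have h1 : S.f.hom.app (op W) (sg α a t) = 0 := by
      refine Eq.trans ?_ h0
      show _ = S.f.hom.app (op W) (sg α a t) + S.X₂.obj.map g.op (s 0)
      rw [map_zero, map_zero, add_zero]
    haveI : Mono (S.f.hom.app (op W)) :=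
      inferInstanceAs (Mono ((sheafToPresheaf X.smallEtaleTopology (ModuleCat.{u + 1} Λ) ⋙
        (evaluation _ _).obj (op W)).map S.f))
    exact (map_eq_zero_iff _ (sg_injective α a w)).1
      ((map_eq_zero_iff _ ((ModuleCat.mono_iff_injective (S.f.hom.app (op W))).1 inferInstance)).1 h1)
  have hT : T.ShortExact := by
    refine ShortComplex.ShortExact.mk' ?_ ((ModuleCat.mono_iff_injective _).2 hinj) ?_
    · rw [ShortComplex.moduleCat_exact_iff]
      intro (q : (M × (Fin n → Λ)) ⧸ R) hq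
      obtain ⟨⟨t, v⟩, rfl⟩ := Submodule.Quotient.mk_surjective R q
      have hv : v ∈ LinearMap.ker p := hq
      rw [← hr, Submodule.mem_span_range_iff_exists_fun] at hv
      obtain ⟨e, rfl⟩ := hv
      refine ⟨t + ∑ l, e l • m l, ?_⟩
      show Submodule.Quotient.mk _ = Submodule.Quotient.mk _
      rw [Submodule.Quotient.eq]
      have : (∑ l, e l • ((- m l, r l) : M × (Fin n → Λ))) ∈ R :=
        Submodule.sum_mem _ fun l _ => Submodule.smul_mem _ _ (Submodule.subset_span ⟨l, rfl⟩)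
      convert R.neg_mem this using 1
      simp [Prod.ext_iff, Prod.fst_sum, Prod.snd_sum]
    · refine (ModuleCat.epi_iff_surjective _).2 fun y => ?_
      obtain ⟨v, hv⟩ := hp y
      exact ⟨Submodule.Quotient.mk (0, v), hv⟩
  obtain ⟨τ, hτ⟩ := (homConst_bijective X.smallEtaleTopology W P S.X₂).2 (ModuleCat.ofHom (R.liftQ θ hR))
  let τ₁ := (Functor.isoWhiskerLeft (Over.map a).op α).inv
  let τ₃ := (Functor.isoWhiskerLeft (Over.map c).op γ).inv
  let C := (constantSheaf X.smallEtaleTopology (ModuleCat.{u + 1} Λ))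
  let O := X.smallEtaleTopology.overPullback (ModuleCat.{u + 1} Λ) W
  have hτa : ∀ x : M × (Fin n → Λ), τ.app (op (Over.mk (𝟙 W)))
      (can X.smallEtaleTopology P W (Submodule.Quotient.mk x)) = θ x := fun x =>
    congr($hτ (Submodule.Quotient.mk x))
  have hmap : ∀ {A B : ModuleCat.{u + 1} Λ} (f : A ⟶ B) (q : A),
      (C.map f).hom.app (op W) (can X.smallEtaleTopology A W q) = can X.smallEtaleTopology B W (f q) :=
    fun {A B} f q => (congr($(toSheafify_naturality X.smallEtaleTopology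
      ((Functor.const X.Etaleᵒᵖ).map f)).app (op W) q)).symm
  have hself : ∀ {U' : X.Etale} {F' : EtModW.Mod Λ X} {M' : ModuleCat.{u + 1} Λ}
      (α' : (Over.forget U').op ⋙ F'.obj ≅ (Over.forget U').op ⋙ (cEt Λ X M').obj) (e : W ⟶ U') (q : M'),
      (Functor.isoWhiskerLeft (Over.map e).op α').inv.app (op (Over.mk (𝟙 W)))
        (can X.smallEtaleTopology M' W q) = sg α' e q := fun α' e q => by
    show α'.inv.app (op (Over.mk (𝟙 W ≫ e))) _ = α'.inv.app (op (Over.mk e)) _
    rw [Category.id_comp]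
    rfl
  let Φ : (T.map C).map O ⟶ S.map O :=
    ShortComplex.homMk ⟨τ₁⟩ ⟨τ⟩ ⟨τ₃⟩
      (InducedCategory.hom_ext ((homConst_bijective X.smallEtaleTopology W T.X₁ S.X₂).1
        (ModuleCat.hom_ext <| LinearMap.ext fun t => by
          show S.f.hom.app (op W) (τ₁.app (op (Over.mk (𝟙 W))) (can X.smallEtaleTopology T.X₁ W t)) =
            τ.app (op (Over.mk (𝟙 W))) ((C.map T.f).hom.app (op W) (can X.smallEtaleTopology T.X₁ W t))
          refine (congrArg _ (hself α a t)).trans (Eq.trans ?_ (congrArg _ (hmap T.f t)).symm)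
          refine Eq.trans ?_ (hτa (t, 0)).symm
          show _ = S.f.hom.app (op W) (sg α a t) + S.X₂.obj.map g.op (s 0)
          rw [map_zero, map_zero, add_zero])))
      (InducedCategory.hom_ext ((homConst_bijective X.smallEtaleTopology W T.X₂ S.X₃).1
        (ModuleCat.hom_ext <| LinearMap.ext fun q => by
          obtain ⟨⟨t, v⟩, rfl⟩ := Submodule.Quotient.mk_surjective R q
          show S.g.hom.app (op W) (τ.app (op (Over.mk (𝟙 W))) (can X.smallEtaleTopology P W _)) =
            τ₃.app (op (Over.mk (𝟙 W))) ((C.map T.g).hom.app (op W) (can X.smallEtaleTopology P W _))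
          refine (congrArg _ (hτa (t, v))).trans (Eq.trans ?_ (congrArg _ (hmap T.g _)).symm)
          refine Eq.trans ?_ (hself γ c (p v)).symm
          show S.g.hom.app (op W) (S.f.hom.app (op W) (sg α a t) + S.X₂.obj.map g.op (s v)) = _
          rw [map_add, hfg, zero_add, hθg])))
  haveI : IsIso Φ.τ₁ :=
    haveI : IsIso ((sheafToPresheaf _ _).map Φ.τ₁) := inferInstanceAs (IsIso τ₁)
    (fullyFaithfulSheafToPresheaf _ _).isIso_of_isIso_map Φ.τ₁
  haveI : IsIso Φ.τ₃ :=
    haveI : IsIso ((sheafToPresheaf _ _).map Φ.τ₃) := inferInstanceAs (IsIso τ₃)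
    (fullyFaithfulSheafToPresheaf _ _).isIso_of_isIso_map Φ.τ₃
  haveI := ShortComplex.isIso₂_of_shortExact_of_isIso₁₃ Φ ((hT.map_of_exact C).map_of_exact O)
    (hS.map_of_exact O)
  refine ⟨W, w, P, ?_, ?_, ⟨(asIso Φ.τ₂).symm ≪≫
    ((Over.forget W).pushforwardContinuousSheafificationCompatibility (ModuleCat.{u + 1} Λ)
      (X.smallEtaleTopology.over W) X.smallEtaleTopology).symm.app ((Functor.const _).obj P)⟩⟩
  · rw [← hw₀, ← hw₁, ← hw]
    show W.hom w = _
    rw [← MorphismProperty.Over.w g, ← MorphismProperty.Over.w g₁]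
    rfl
  · show Module.Finite Λ ((M × (Fin n → Λ)) ⧸ R)
    infer_instance

end Ext

end Groth.Agent.EtModEps19
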