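import Mathlib.CategoryTheory.Sites.Pullback
import Mathlib.CategoryTheory.Sites.LocallyBijective
import Mathlib.CategoryTheory.Sites.LocallySurjective
import Mathlib.CategoryTheory.Limits.Types.Filtered
import Mathlib.Algebra.Category.ModuleCat.FilteredColimits
import Mathlib.Algebra.Category.ModuleCat.Colimits

/-! Local description of the sections of the inverse image of an sheaf of modules along a flat functor. -/

universe w v u₁ u₂

open CategoryTheory Limits Opposite

namespace Groth.Agent.EtModEps19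

set_option backward.isDefEq.respectTransparency false
set_option backward.isDefEq.respectTransparency.types false
set_option linter.style.haveILetI false

variable (R : Type w) [CommRing R] {C : Type u₁} [Category.{v} C] {D : Type u₂} [Category.{v} D] (G : C ⥤ D)
  (J : GrothendieckTopology C) (K : GrothendieckTopology D) [G.IsContinuous J K]
  [∀ F : Cᵒᵖ ⥤ (ModuleCat.{w} R), G.op.HasPointwiseLeftKanExtension F]
  [HasWeakSheafify K (ModuleCat.{w} R)] [K.WEqualsLocallyBijective (ModuleCat.{w} R)]

/-- The unit, as a morphism of presheaves. -/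
noncomputable abbrev unitHom (F : Sheaf J (ModuleCat.{w} R)) :
    F.obj ⟶ G.op ⋙ ((G.sheafPullback (ModuleCat.{w} R) J K).obj F).obj :=
  ((G.sheafAdjunctionContinuous (ModuleCat.{w} R) J K).unit.app F).hom

/-- The map from the left Kan extension. -/
noncomputable def lanTo (F : Sheaf J (ModuleCat.{w} R)) :
    G.op.lan.obj F.obj ⟶ ((G.sheafPullback (ModuleCat.{w} R) J K).obj F).obj :=
  ((G.op.lanAdjunction (ModuleCat.{w} R)).homEquiv _ _).symm (unitHom R G J K F)

theorem lanTo_eq (F : Sheaf J (ModuleCat.{w} R)) :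
    lanTo R G J K F = toSheafify K (G.op.lan.obj F.obj) ≫
      ((Functor.sheafPullbackConstruction.sheafPullbackIso G (ModuleCat.{w} R) J K).inv.app F).hom := by
  refine ((G.op.lanAdjunction (ModuleCat.{w} R)).homEquiv _ _).injective ?_
  rw [lanTo, Equiv.apply_symm_apply]
  have h : (Functor.sheafPullbackConstruction.sheafAdjunctionContinuous G (ModuleCat.{w} R) J K).unit.app F ≫
      (G.sheafPushforwardContinuous (ModuleCat.{w} R) J K).map
        ((Functor.sheafPullbackConstruction.sheafPullbackIso G (ModuleCat.{w} R) J K).inv.app F) =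
      (G.sheafAdjunctionContinuous (ModuleCat.{w} R) J K).unit.app F := by
    rw [Functor.sheafPullbackConstruction.sheafPullbackIso, Adjunction.leftAdjointUniq_inv_app]
    exact Adjunction.unit_leftAdjointUniq_hom_app _ _ F
  rw [unitHom, ← h]
  have hu := Adjunction.map_restrictFullyFaithful_unit_app
    ((G.op.lanAdjunction (ModuleCat.{w} R)).comp (sheafificationAdjunction K (ModuleCat.{w} R)))
    (fullyFaithfulSheafToPresheaf J (ModuleCat.{w} R)) (Functor.FullyFaithful.id _)
    (L := Functor.sheafPullbackConstruction.sheafPullback G (ModuleCat.{w} R) J K)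
    (R := G.sheafPushforwardContinuous (ModuleCat.{w} R) J K) (Iso.refl _) (Iso.refl _) F
  refine (congrArg (· ≫ _) hu).trans ?_
  simp [Functor.sheafPushforwardContinuous]
  erw [Adjunction.homEquiv_unit, Functor.lanAdjunction_unit]
  rfl

instance (F : Sheaf J (ModuleCat.{w} R)) : Presheaf.IsLocallyInjective K (lanTo R G J K F) := by
  rw [lanTo_eq]; infer_instance

instance (F : Sheaf J (ModuleCat.{w} R)) : Presheaf.IsLocallySurjective K (lanTo R G J K F) := by
  rw [lanTo_eq]; infer_instance

theorem lanUnit_lanTo (F : Sheaf J (ModuleCat.{w} R)) :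
    G.op.lanUnit.app F.obj ≫ Functor.whiskerLeft G.op (lanTo R G J K F) = unitHom R G J K F := by
  rw [← Equiv.apply_symm_apply ((G.op.lanAdjunction (ModuleCat.{w} R)).homEquiv _ _) (unitHom R G J K F),
    Adjunction.homEquiv_unit, Functor.lanAdjunction_unit]
  rfl

/-- The value of the comparison on a representative. -/
theorem lanTo_map_lanUnit (F : Sheaf J (ModuleCat.{w} R)) {V : C} {W : D} (a : W ⟶ G.obj V)
    (t : F.obj.obj (op V)) :
    (lanTo R G J K F).app (op W) ((G.op.lan.obj F.obj).map a.op ((G.op.lanUnit.app F.obj).app (op V) t)) =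
      ((G.sheafPullback (ModuleCat.{w} R) J K).obj F).obj.map a.op ((unitHom R G J K F).app (op V) t) := by
  rw [← lanUnit_lanTo R G J K F]
  exact NatTrans.naturality_apply (lanTo R G J K F) a.op _

/-- Sections of the inverse image are locally given by sections of the sheaf. -/
theorem exists_local_rep (F : Sheaf J (ModuleCat.{w} R)) [∀ W : Dᵒᵖ, IsFiltered (CostructuredArrow G.op W)]
    [LocallySmall.{w} C] [∀ W : Dᵒᵖ, PreservesColimitsOfShape (CostructuredArrow G.op W) (forget (ModuleCat.{w} R))]
    {Y : D} (σ : ((G.sheafPullback (ModuleCat.{w} R) J K).obj F).obj.obj (op Y)) :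
    ∃ S ∈ K Y, ∀ ⦃W : D⦄ (g : W ⟶ Y), Sieve.arrows S g → ∃ (V : C) (a : W ⟶ G.obj V) (t : F.obj.obj (op V)),
      ((G.sheafPullback (ModuleCat.{w} R) J K).obj F).obj.map g.op σ =
        ((G.sheafPullback (ModuleCat.{w} R) J K).obj F).obj.map a.op ((unitHom R G J K F).app (op V) t) := by
  refine ⟨_, Presheaf.imageSieve_mem K (lanTo R G J K F) σ, fun W g hg => ?_⟩
  obtain ⟨x, hx⟩ := hg
  obtain ⟨j, t, rfl⟩ := Concrete.isColimit_exists_rep _
    (Functor.isPointwiseLeftKanExtensionLeftKanExtensionUnit G.op F.obj (op W)) x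
  refine ⟨j.left.unop, j.hom.unop, t, ?_⟩
  rw [← hx]
  exact lanTo_map_lanUnit R G J K F j.hom.unop t

/-- A representative vanishes iff it locally vanishes in the sheaf. -/
theorem exists_local_zero (F : Sheaf J (ModuleCat.{w} R)) [∀ W : Dᵒᵖ, IsFiltered (CostructuredArrow G.op W)]
    [∀ W : Dᵒᵖ, PreservesColimitsOfShape (CostructuredArrow G.op W) (forget (ModuleCat.{w} R))]
    {V : C} {W : D} (a : W ⟶ G.obj V) (t : F.obj.obj (op V))
    (h : ((G.sheafPullback (ModuleCat.{w} R) J K).obj F).obj.map a.op ((unitHom R G J K F).app (op V) t) = 0) :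
    ∃ S ∈ K W, ∀ ⦃W' : D⦄ (g : W' ⟶ W), Sieve.arrows S g → ∃ (V' : C) (b : V' ⟶ V) (a' : W' ⟶ G.obj V'),
      a' ≫ G.map b = g ≫ a ∧ F.obj.map b.op t = 0 := by
  let x := (G.op.lan.obj F.obj).map a.op ((G.op.lanUnit.app F.obj).app (op V) t)
  have hx : (lanTo R G J K F).app (op W) x = (lanTo R G J K F).app (op W) 0 := by
    rw [map_zero, lanTo_map_lanUnit, h]
  refine ⟨_, Presheaf.equalizerSieve_mem K (lanTo R G J K F) x 0 hx, fun W' g hg => ?_⟩
  have hg' : (G.op.lan.obj F.obj).map g.op x = 0 := hg.trans (map_zero _)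
  simp only [x, ← Functor.map_comp_apply] at hg'
  let k₀ : CostructuredArrow G.op (op W') := CostructuredArrow.mk (a.op ≫ g.op)
  have hc := Functor.isPointwiseLeftKanExtensionLeftKanExtensionUnit G.op F.obj (op W')
  obtain ⟨j, f, f', he⟩ := Concrete.isColimit_exists_of_rep_eq _ hc (i := k₀) (j := k₀) t 0
    (hg'.trans (map_zero _).symm)
  refine ⟨j.left.unop, f.left.unop, j.hom.unop, ?_, ?_⟩
  · exact congrArg Quiver.Hom.unop (CostructuredArrow.w f)
  · exact (he.trans (map_zero _))

end Groth.Agent.EtModEps19
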