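import Groth.Agent.Lib.EtStalk.Pull
import Groth.Agent.Lib.EtModEps19.LisseStrata
import Groth.Prelude.Def_EtMod2
import Mathlib.Algebra.Category.ModuleCat.AB
import Mathlib.CategoryTheory.Linear.LinearFunctor

/-! Stalks of étale sheaves of modules. -/

universe u

open CategoryTheory Limits AlgebraicGeometry Opposite

namespace Groth.Agent.EtModEps19

set_option backward.isDefEq.respectTransparency false
set_option backward.isDefEq.respectTransparency.types false
set_option linter.style.haveILetI false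
set_option linter.unusedSectionVars false
set_option maxHeartbeats 800000

variable {Λ : Type (u + 1)} [CommRing Λ] {X Y : Scheme.{u}}

noncomputable instance ab5_moduleCat : AB5OfSize.{u, u} (ModuleCat.{u + 1} Λ) :=
  AB5OfSize_shrink.{u, u, u + 1, u + 1} _

instance hasLimits_moduleCat : HasLimitsOfSize.{u, u} (ModuleCat.{u + 1} Λ) :=
  hasLimitsOfSizeShrink.{u, u, u + 1, u + 1} _

instance preservesFiltered_forget_moduleCat :
    PreservesFilteredColimitsOfSize.{u, u} (CategoryTheory.forget (ModuleCat.{u + 1} Λ)) :=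
  preservesFilteredColimitsOfSize_shrink.{u, u + 1, u, u + 1} _

section Point

variable {Ω : Type u} [Field Ω] [IsSepClosed Ω] (ξ : Spec (CommRingCat.of Ω) ⟶ X)

/-- Germs. -/
noncomputable abbrev germM (F : EtModW.Mod Λ X) {U : X.Etale} (x : EtStalk.fib ξ U) :
    F.obj.obj (op U) ⟶ (EtModW.stalk Λ ξ).obj F :=
  (Scheme.pointSmallEtale ξ).toPresheafFiber U x F.obj

theorem germM_nat {F G : EtModW.Mod Λ X} (a : F ⟶ G) {U : X.Etale} (x : EtStalk.fib ξ U) (s : F.obj.obj (op U)) :
    (EtModW.stalk Λ ξ).map a (germM ξ F x s) = germM ξ G x (a.hom.app (op U) s) :=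
  GrothendieckTopology.Point.toPresheafFiber_naturality_apply _ a.hom U x s

theorem germM_surjective (F : EtModW.Mod Λ X) (p : (EtModW.stalk Λ ξ).obj F) :
    ∃ (U : X.Etale) (x : EtStalk.fib ξ U) (s : F.obj.obj (op U)), germM ξ F x s = p :=
  GrothendieckTopology.Point.toPresheafFiber_jointly_surjective (Scheme.pointSmallEtale ξ) (P := F.obj) p

instance linear_stalk : (EtModW.stalk Λ ξ).Linear Λ where
  map_smul {F G} a c := by
    refine ModuleCat.hom_ext (LinearMap.ext fun p => ?_)
    obtain ⟨U, x, s, rfl⟩ := germM_surjective ξ F p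
    rw [germM_nat]
    show germM ξ G x (c • a.hom.app (op U) s) = c • (EtModW.stalk Λ ξ).map a (germM ξ F x s)
    rw [germM_nat, map_smul]

instance preservesFiniteLimits_stalk : PreservesFiniteLimits (EtModW.stalk Λ ξ) := inferInstance

instance preservesFiniteColimits_stalk : PreservesFiniteColimits (EtModW.stalk Λ ξ) := inferInstance

instance additive_stalk : (EtModW.stalk Λ ξ).Additive := Functor.additive_of_preserves_binary_products _

theorem germM_eq_zero_iff (F : EtModW.Mod Λ X) {U : X.Etale} (x : EtStalk.fib ξ U) (s : F.obj.obj (op U)) :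
    germM ξ F x s = 0 ↔ ∃ (V : X.Etale) (g : V ⟶ U) (y : EtStalk.fib ξ V),
      (Scheme.pointSmallEtale ξ).fiber.map g y = x ∧ F.obj.map g.op s = 0 := by
  rw [← map_zero (germM ξ F x).hom]
  refine (GrothendieckTopology.Point.toPresheafFiber_eq_iff' (Scheme.pointSmallEtale ξ) U x s 0).trans ?_
  simp only [map_zero]

end Point

/-- A morphism vanishing on all stalks vanishes. -/
theorem hom_eq_zero_of_stalk {F G : EtModW.Mod Λ X} (φ : F ⟶ G)
    (h : ∀ x : X, (EtModW.stalk Λ (EtStalk.geomPt X x)).map φ = 0) : φ = 0 := by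
  refine eq_zero_of_local φ fun V z v => ?_
  obtain ⟨y, hy⟩ := EtStalk.exists_fib V v
  have h0 : germM (EtStalk.geomPt X (V.hom v)) G y (φ.hom.app (op V) z) = 0 := by
    rw [← germM_nat, h]
    rfl
  obtain ⟨W, g, w, hw, hg⟩ := (germM_eq_zero_iff _ _ _ _).1 h0
  refine ⟨W, g, w.left (default : Spec (CommRingCat.of (SeparableClosure (X.residueField (V.hom v))))), ?_, hg⟩
  exact (congrArg (fun t : EtStalk.fib (EtStalk.geomPt X (V.hom v)) V =>
    t.left (default : Spec (CommRingCat.of (SeparableClosure (X.residueField (V.hom v)))))) hw).trans hy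

section Pull

variable (f : X ⟶ Y) {Ω : Type u} [Field Ω] [IsSepClosed Ω] (ξ : Spec (CommRingCat.of Ω) ⟶ X)

/-- Stalks of inverse images. -/
noncomputable def stalkPullModIso : EtModW.stalk Λ (ξ ≫ f) ≅ EtModW.pull Λ f ⋙ EtModW.stalk Λ ξ :=
  haveI : IsIso (GrothendieckTopology.Point.Hom.sheafFiber (A := ModuleCat.{u + 1} Λ)
      (EtStalk.pointIso f ξ).hom) :=
    ⟨GrothendieckTopology.Point.Hom.sheafFiber (EtStalk.pointIso f ξ).inv,
      by rw [← GrothendieckTopology.Point.Hom.sheafFiber_comp, Iso.inv_hom_id,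
        GrothendieckTopology.Point.Hom.sheafFiber_id],
      by rw [← GrothendieckTopology.Point.Hom.sheafFiber_comp, Iso.hom_inv_id,
        GrothendieckTopology.Point.Hom.sheafFiber_id]⟩
  asIso (GrothendieckTopology.Point.Hom.sheafFiber (A := ModuleCat.{u + 1} Λ) (EtStalk.pointIso f ξ).hom) ≪≫
    (Scheme.pointSmallEtale ξ).sheafFiberComapIso (EtCoh.bc f) (EtCoh.coverPreserving_bc f) (ModuleCat.{u + 1} Λ)

instance linear_pull : (EtModW.pull Λ f).Linear Λ where
  map_smul a c := pull_map_smul f c a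

theorem stalk_map_eq_zero_of_pull {F G : EtModW.Mod Λ Y} (φ : F ⟶ G) (h : (EtModW.pull Λ f).map φ = 0) :
    (EtModW.stalk Λ (ξ ≫ f)).map φ = 0 := by
  refine (NatIso.naturality_2 (stalkPullModIso (Λ := Λ) f ξ) φ).symm.trans ?_
  show _ ≫ (EtModW.stalk Λ ξ).map ((EtModW.pull Λ f).map φ) ≫ _ = 0
  rw [h, Functor.map_zero, zero_comp, comp_zero]

end Pull

/-- Inverse images along a jointly surjective family are jointly conservative. -/
theorem hom_eq_zero_of_pull {ι : Type*} {T : ι → Scheme.{u}} (g : ∀ i, T i ⟶ Y)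
    (hsurj : ∀ y : Y, ∃ (i : ι) (t : T i), g i t = y) {F G : EtModW.Mod Λ Y} (φ : F ⟶ G)
    (h : ∀ i, (EtModW.pull Λ (g i)).map φ = 0) : φ = 0 := by
  refine eq_zero_of_local φ fun V z v => ?_
  obtain ⟨i, t, ht⟩ := hsurj (V.hom v)
  let ξ := EtStalk.geomPt (T i) t ≫ g i
  have hξ : ξ default = V.hom v := by
    rw [Scheme.Hom.comp_apply, EtStalk.geomPt_default, ht]
  obtain ⟨y, hy⟩ := Scheme.pointSmallEtaleFiberObjToPreimage_surjective ξ hξ V ⟨v, rfl⟩
  have h0 : germM ξ G y (φ.hom.app (op V) z) = 0 := by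
    rw [← germM_nat, stalk_map_eq_zero_of_pull (g i) _ φ (h i)]
    rfl
  obtain ⟨W, b, w, hw, hb⟩ := (germM_eq_zero_iff _ _ _ _).1 h0
  refine ⟨W, b, w.left (default : Spec (CommRingCat.of (SeparableClosure ((T i).residueField t)))), ?_, hb⟩
  exact (congrArg (fun s : EtStalk.fib ξ V =>
    s.left (default : Spec (CommRingCat.of (SeparableClosure ((T i).residueField t))))) hw).trans (congrArg Subtype.val hy)

end Groth.Agent.EtModEps19
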