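import Groth.Agent.Lib.EtModEps19.WC
import Groth.Agent.Lib.EtModEps19.AdicLim
import Groth.Agent.Lib.ProEtWC.Glue
import Groth.Agent.Lib.ProEtWC.Cover
import Mathlib.LinearAlgebra.Pi
import Mathlib.LinearAlgebra.Quotient.Basic

/-! Sections of quotient maps over weakly contractible affine objects, for an arbitrary ideal. -/

universe u

open CategoryTheory Limits AlgebraicGeometry Opposite

namespace Groth.Agent.EtModEps19

set_option backward.isDefEq.respectTransparency false
set_option backward.isDefEq.respectTransparency.types false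
set_option linter.style.haveILetI false
set_option linter.unusedSectionVars false
set_option maxHeartbeats 800000

variable {Λ : Type (u + 1)} [CommRing Λ] {X : Scheme.{u}}

/-- The presheaf of quotients modulo an ideal. -/
noncomputable def quotPre (F : EtModW.ModP Λ X) (J : Ideal Λ) : X.ProEtᵒᵖ ⥤ ModuleCat.{u + 1} Λ where
  obj U := ModuleCat.of Λ (F.obj.obj U ⧸ J • (⊤ : Submodule Λ (F.obj.obj U)))
  map {U V} f := ModuleCat.ofHom (Submodule.mapQ _ _ (F.obj.map f).hom
    (Submodule.map_le_iff_le_comap.1 (by rw [Submodule.map_smul'']; exact Submodule.smul_mono le_rfl le_top)))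
  map_id U := by
    ext x
    exact congrArg (Submodule.Quotient.mk) (congr($(F.obj.map_id U) x))
  map_comp f g := by
    ext x
    exact congrArg (Submodule.Quotient.mk) (congr($(F.obj.map_comp f g) x))

/-- The projection. -/
noncomputable def quotProj (F : EtModW.ModP Λ X) (J : Ideal Λ) : F.obj ⟶ quotPre F J where
  app U := ModuleCat.ofHom (Submodule.mkQ _)
  naturality _ _ _ := rfl

theorem local_mem_smul {J : Ideal Λ} {F Q : EtModW.ModP Λ X} (p : F ⟶ Q) (hp : ARSys.IsQuot J p)
    {U : X.ProEt} (x : F.obj.obj (op U)) (hx : p.hom.app (op U) x = 0) :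
    ∃ R : Sieve U, R ∈ Scheme.ProEt.topology X U ∧ ∀ (W : X.ProEt) (g : W ⟶ U), R.arrows g →
      F.obj.map g.op x ∈ J • (⊤ : Submodule Λ (F.obj.obj (op W))) := by
  let T := Scheme.ProEt.topology X
  let S : EtModW.ModP Λ X := (presheafToSheaf T (ModuleCat.{u + 1} Λ)).obj (quotPre F J)
  let φ : F ⟶ S := ⟨quotProj F J ≫ toSheafify T (quotPre F J)⟩
  have hφ : ARSys.HomKilledBy J φ := fun a ha => by
    ext V y
    show a • (toSheafify T (quotPre F J)).app V (Submodule.Quotient.mk y) = 0
    rw [← map_smul, ← Submodule.Quotient.mk_smul,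
      (Submodule.Quotient.mk_eq_zero _).2 (Submodule.smul_mem_smul ha Submodule.mem_top), map_zero]
  obtain ⟨ψ, hψ, -⟩ := hp.2 S φ hφ
  have h0 : (toSheafify T (quotPre F J)).app (op U) (Submodule.Quotient.mk x) = 0 := by
    have := congr($(hψ).hom.app (op U) x)
    refine this.symm.trans ?_
    show ψ.hom.app (op U) (p.hom.app (op U) x) = 0
    rw [hx, map_zero]
  refine ⟨_, Presheaf.equalizerSieve_mem T (toSheafify T (quotPre F J)) (X := op U) (Submodule.Quotient.mk x) 0
    (h0.trans (map_zero _).symm), fun W g hg => ?_⟩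
  have h1 : (quotPre F J).map g.op (Submodule.Quotient.mk x) = (quotPre F J).map g.op 0 := hg
  have this := h1.trans (map_zero _)
  exact (Submodule.Quotient.mk_eq_zero _).1 this

theorem mem_smul_of_app_eq_zero {J : Ideal Λ} {F Q : EtModW.ModP Λ X} (p : F ⟶ Q) (hp : ARSys.IsQuot J p)
    {U : X.ProEt} [IsAffine U.left] (hU : ProEtWC.HasSections U.left) (x : F.obj.obj (op U))
    (hx : p.hom.app (op U) x = 0) : x ∈ J • (⊤ : Submodule Λ (F.obj.obj (op U))) := by
  classical
  obtain ⟨R, hR, hR'⟩ := local_mem_smul p hp x hx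
  obtain ⟨n, W, -, hd, hu, hW⟩ := ProEtWC.refinedByClopen_of_hasSections hU R hR
  let V : ULift.{u} (Fin n) → X.ProEt := fun k ↦ ProEtWC.overObj U (W k.down).ι
  let g : ∀ k, V k ⟶ U := fun k ↦ ProEtWC.overHom U (W k.down).ι
  haveI : ∀ k, IsOpenImmersion (g k).left := fun k ↦ inferInstanceAs (IsOpenImmersion (W k.down).ι)
  have hd' : Pairwise fun i j ↦ Disjoint (Set.range (g i).left) (Set.range (g j).left) := by
    intro i j hij
    change Disjoint (Set.range (W i.down).ι) (Set.range (W j.down).ι)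
    rw [Scheme.Opens.range_ι, Scheme.Opens.range_ι]
    exact hd fun e ↦ hij (ULift.down_injective e)
  have hs : ∀ y : U.left, ∃ i, y ∈ Set.range (g i).left := fun y => by
    obtain ⟨k, hk⟩ := Set.mem_iUnion.1 ((Set.eq_univ_iff_forall.1 hu) y)
    exact ⟨⟨k⟩, (Scheme.Opens.range_ι _).symm.subset hk⟩
  let r : F.obj.obj (op U) →ₗ[Λ] ∀ k, F.obj.obj (op (V k)) := LinearMap.pi fun k => (F.obj.map (g k).op).hom
  have hr : Function.Bijective r := ProEtWC.bijective_restrict V g hd' hs
    ((sheafCompose (Scheme.ProEt.topology X) (CategoryTheory.forget (ModuleCat.{u + 1} Λ))).obj F)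
  let e := LinearEquiv.ofBijective r hr
  haveI : Fintype (ULift.{u} (Fin n)) := inferInstance
  have hx' : x = ∑ k, e.symm (Pi.single k (r x k)) := by
    rw [← map_sum, Finset.univ_sum_single]
    exact (e.symm_apply_apply x).symm
  rw [hx']
  refine Submodule.sum_mem _ fun k _ => ?_
  have hk : r x k ∈ J • (⊤ : Submodule Λ (F.obj.obj (op (V k)))) := hR' _ (g k) (hW k.down)
  have h1 := Submodule.mem_map_of_mem
    (f := e.symm.toLinearMap.comp (LinearMap.single Λ (fun k => (F.obj.obj (op (V k)) : Type _)) k)) hk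
  rw [Submodule.map_smul''] at h1
  exact Submodule.smul_mono le_rfl le_top h1

/-- Morphisms are determined on affine weakly contractible objects. -/
theorem hom_ext_affine_wc {F G : EtModW.ModP Λ X} (f g : F ⟶ G)
    (h : ∀ W : X.ProEt, IsAffine W.left → EtPBC.IsWContractible ↥(Γ(W.left, ⊤)) →
      ∀ x, f.hom.app (op W) x = g.hom.app (op W) x) : f = g := by
  ext U x
  obtain ⟨ι, V, a, ha, hV⟩ := ProEtWC.exists_affine_wc_cover U.unop
  refine (((isSheaf_iff_isSheaf_of_type _ _).1
    ((Presheaf.isSheaf_iff_isSheaf_forget _ G.obj (forget (ModuleCat.{u + 1} Λ))).1 G.property)) _ ha).isSeparatedFor.ext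
      fun W b hb => ?_
  obtain ⟨Z, c, d, ⟨i⟩, rfl⟩ := hb
  show G.obj.map (c ≫ a i).op _ = G.obj.map (c ≫ a i).op _
  rw [op_comp, Functor.map_comp_apply, Functor.map_comp_apply, ← NatTrans.naturality_apply f.hom,
    ← NatTrans.naturality_apply g.hom, h (V i) (hV i).1 (hV i).2]

end Groth.Agent.EtModEps19
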