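import Groth.Agent.Lib.EtModEps19.Forget6F
import Groth.Agent.Lib.ProEtWC.Recollement
import Groth.Agent.Lib.ProEtWC.ClosedCounit
import Groth.Agent.Lib.ProEtWC.LanExact
import Mathlib.CategoryTheory.Adjunction.Triple

/-! The recollement sequence for sheaves of modules on the pro-étale site. -/

universe u

open CategoryTheory Limits AlgebraicGeometry Opposite Set

namespace Groth.Agent.EtModEps19

set_option backward.isDefEq.respectTransparency false
set_option backward.isDefEq.respectTransparency.types false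
set_option linter.style.haveILetI false
set_option linter.unusedSectionVars false
set_option maxHeartbeats 800000

variable (Λ : Type (u + 1)) [CommRing Λ] {Z U X : Scheme.{u}}

instance faithful_fgP : (fgP Λ X).Faithful where
  map_injective {_ _ f g} h := by
    ext V x
    exact congr($(h).hom.app V x)

/-- Direct image. -/
noncomputable abbrev pushR (f : Z ⟶ X) [ProEtS.PCont f] : EtModW.ModP Λ Z ⥤ EtModW.ModP Λ X :=
  (ProEtS.bcP f).sheafPushforwardContinuous (ModuleCat.{u + 1} Λ) (Scheme.ProEt.topology X) (Scheme.ProEt.topology Z)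

/-- Inverse image. -/
noncomputable abbrev pullR (f : Z ⟶ X) [ProEtS.PCont f] : EtModW.ModP Λ X ⥤ EtModW.ModP Λ Z :=
  (ProEtS.bcP f).sheafPullback (ModuleCat.{u + 1} Λ) (Scheme.ProEt.topology X) (Scheme.ProEt.topology Z)

/-- The adjunction. -/
noncomputable abbrev pullPushR (f : Z ⟶ X) [ProEtS.PCont f] : pullR Λ f ⊣ pushR Λ f :=
  (ProEtS.bcP f).sheafAdjunctionContinuous _ _ _

/-- Restriction. -/
noncomputable abbrev restrR (j : U ⟶ X) [WeaklyEtale j] [ProEtS.JPCont j] : EtModW.ModP Λ X ⥤ EtModW.ModP Λ U :=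
  (ProEtS.compP j).sheafPushforwardContinuous (ModuleCat.{u + 1} Λ) (Scheme.ProEt.topology U) (Scheme.ProEt.topology X)

/-- Extension by zero. -/
noncomputable abbrev extR (j : U ⟶ X) [WeaklyEtale j] [ProEtS.JPCont j] : EtModW.ModP Λ U ⥤ EtModW.ModP Λ X :=
  (ProEtS.compP j).sheafPullback (ModuleCat.{u + 1} Λ) (Scheme.ProEt.topology U) (Scheme.ProEt.topology X)

/-- The adjunction. -/
noncomputable abbrev extRestrR (j : U ⟶ X) [WeaklyEtale j] [ProEtS.JPCont j] : extR Λ j ⊣ restrR Λ j :=
  (ProEtS.compP j).sheafAdjunctionContinuous _ _ _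

/-- Restriction is left adjoint to direct image. -/
noncomputable def restrPushR (j : U ⟶ X) [IsOpenImmersion j] [ProEtS.JPCont j] [ProEtS.PCont j] :
    restrR Λ j ⊣ pushR Λ j :=
  (ProEtWC.compBcAdj j).sheafPushforwardContinuous
    (E := ModuleCat.{u + 1} Λ) (Scheme.ProEt.topology U) (Scheme.ProEt.topology X)

theorem isIso_unit_extR (j : U ⟶ X) [IsOpenImmersion j] [ProEtS.JPCont j] [ProEtS.PCont j] :
    IsIso (extRestrR Λ j).unit := by
  haveI := ProEtWC.full_compP j
  haveI := ProEtWC.faithful_compP j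
  haveI : ∀ G, IsIso ((restrPushR Λ j).counit.app G) := fun G ↦ by
    haveI : ∀ V, IsIso (((sheafToPresheaf _ _).map ((restrPushR Λ j).counit.app G)).app V) := fun V ↦ by
      haveI : IsIso ((ProEtWC.compBcAdj j).unit.app V.unop) := inferInstance
      show IsIso (G.obj.map ((ProEtWC.compBcAdj j).unit.app V.unop).op)
      infer_instance
    haveI : IsIso ((sheafToPresheaf _ _).map ((restrPushR Λ j).counit.app G)) :=
      NatIso.isIso_of_isIso_app _
    exact isIso_of_reflects_iso _ (sheafToPresheaf _ _)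
  haveI : IsIso (restrPushR Λ j).counit := NatIso.isIso_of_isIso_app _
  let t : Adjunction.Triple (extR Λ j) (restrR Λ j) (pushR Λ j) := ⟨extRestrR Λ j, restrPushR Λ j⟩
  exact t.isIso_unit_iff_isIso_counit.2 inferInstance

theorem isIso_counit_pullPushR (i : Z ⟶ X) [IsClosedImmersion i] [ProEtS.PCont i] (F : EtModW.ModP Λ Z) :
    IsIso ((pullPushR Λ i).counit.app F) := by
  haveI : (pushR Λ i).Faithful := ⟨fun {G G'} {a b} h => (fgP Λ Z).map_injective
    ((ProEtWC.bijective_pushP_map i _ _).1 (congrArg (fgP Λ X).map h : _))⟩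
  haveI : (pushR Λ i).Full := ⟨fun {G G'} φ => by
    obtain ⟨ψ, hψ⟩ := (ProEtWC.bijective_pushP_map i ((fgP Λ Z).obj G) ((fgP Λ Z).obj G')).2 ((fgP Λ X).map φ)
    let sc : ∀ (a : Λ) (H : EtModW.ModP Λ Z), (fgP Λ Z).obj H ⟶ (fgP Λ Z).obj H := fun a H =>
      (fgP Λ Z).map (a • 𝟙 H)
    have hψ' : ∀ (V : X.ProEt) x, ψ.hom.app (op ((ProEtS.bcP i).obj V)) x = φ.hom.app (op V) x := fun V x =>
      congr($(hψ).hom.app (op V) x)
    have hlin : ∀ a : Λ, sc a G ≫ ψ = ψ ≫ sc a G' := fun a => by
      refine (ProEtWC.bijective_pushP_map i _ _).1 ?_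
      ext V x
      let x' : G.obj.obj (op ((ProEtS.bcP i).obj V.unop)) := x
      let w : G'.obj.obj (op ((ProEtS.bcP i).obj V.unop)) := ψ.hom.app (op ((ProEtS.bcP i).obj V.unop)) x
      show ψ.hom.app (op ((ProEtS.bcP i).obj V.unop)) (a • x' : G.obj.obj (op ((ProEtS.bcP i).obj V.unop))) = (a • w : G'.obj.obj (op ((ProEtS.bcP i).obj V.unop)))
      have hw : w = φ.hom.app (op V.unop) x' := hψ' V.unop x
      rw [hw]
      exact (hψ' V.unop _).trans (map_smul (φ.hom.app (op V.unop)).hom a x')
    let g : G ⟶ G' := ⟨{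
      app := fun V => ModuleCat.ofHom
        { toFun := fun x => ψ.hom.app V x
          map_add' := map_add (ψ.hom.app V).hom
          map_smul' := fun a x => congr($(hlin a).hom.app V x) }
      naturality := fun V W f => by
        ext x
        exact NatTrans.naturality_apply ψ.hom f x }⟩
    refine ⟨g, ?_⟩
    ext V x
    exact hψ' V.unop x⟩
  infer_instance

theorem preservesFiniteLimits_pullR (f : Z ⟶ X) [ProEtS.PCont f] : PreservesFiniteLimits (pullR Λ f) := by
  haveI : PreservesFiniteLimits (fgP Λ Z) := PreservesLimitsOfSize0.preservesFiniteLimits _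
  haveI : PreservesFiniteLimits (fgP Λ X) := PreservesLimitsOfSize0.preservesFiniteLimits _
  haveI := ProEtWC.pullP_preservesFiniteLimits f
  haveI : PreservesFiniteLimits (fgP Λ X ⋙ ProEtS.pullP f) := comp_preservesFiniteLimits _ _
  haveI : PreservesFiniteLimits (pullR Λ f ⋙ fgP Λ Z) := preservesFiniteLimits_of_natIso (pullPForget Λ f).symm
  haveI : ReflectsFiniteLimits (fgP Λ Z) := ⟨fun J _ _ => reflectsLimitsOfShape_of_reflectsIsomorphisms⟩
  exact preservesFiniteLimits_of_reflects_of_preserves (pullR Λ f) (fgP Λ Z)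

variable (i : Z ⟶ X) [IsClosedImmersion i] [ProEtS.PCont i]
  (j : U ⟶ X) [IsOpenImmersion j] [QuasiCompact j] [ProEtS.JPCont j]

theorem isZero_of_restr_pull (hc : range j.base = (range i.base)ᶜ) (A : EtModW.ModP Λ X)
    (hU : IsZero ((restrR Λ j).obj A)) (hZ : IsZero ((pullR Λ i).obj A)) : IsZero A := by
  have h : IsZero ((fgP Λ X).obj A) := ProEtWC.isZero_of_restr_pull i j hc _ ((fgP Λ U).map_isZero hU)
    (((fgP Λ Z).map_isZero hZ).of_iso ((pullPForget Λ i).app A).symm)
  rw [IsZero.iff_id_eq_zero] at h ⊢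
  exact (fgP Λ X).map_injective (h.trans (Functor.map_zero _ _ _).symm)

theorem shortExact_recollementR (hc : range j.base = (range i.base)ᶜ) (F : EtModW.ModP Λ X) :
    ∃ h : (extRestrR Λ j).counit.app F ≫ (pullPushR Λ i).unit.app F = 0,
      (ShortComplex.mk _ _ h).ShortExact := by
  haveI := ProEtWC.pCont j
  have hd : Disjoint (range j.base) (range i.base) := by
    rw [hc]
    exact disjoint_compl_left
  have z₁' : ∀ H, IsZero ((restrR Λ j).obj ((pushR Λ i).obj H)) := fun H => by
    have h : IsZero ((fgP Λ U).obj ((restrR Λ j).obj ((pushR Λ i).obj H))) :=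
      ProEtWC.restrP_pushP_isZero i j hd ((fgP Λ Z).obj H)
    rw [IsZero.iff_id_eq_zero] at h ⊢
    exact (fgP Λ U).map_injective (h.trans (Functor.map_zero _ _ _).symm)
  have z₂' : ∀ G, IsZero ((pullR Λ i).obj ((extR Λ j).obj G)) := fun G => by
    rw [IsZero.iff_id_eq_zero]
    apply ((pullPushR Λ i).homEquiv _ _).injective
    apply ((extRestrR Λ j).homEquiv _ _).injective
    exact (z₁' _).eq_of_tgt _ _
  let a := (extRestrR Λ j).counit.app F
  let b := (pullPushR Λ i).unit.app F
  have h : a ≫ b = 0 := by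
    apply ((extRestrR Λ j).homEquiv _ _).injective
    exact (z₁' _).eq_of_tgt _ _
  refine ⟨h, ?_⟩
  haveI : (pullR Λ i).IsLeftAdjoint := (pullPushR Λ i).isLeftAdjoint
  haveI : (restrR Λ j).IsLeftAdjoint := (restrPushR Λ j).isLeftAdjoint
  haveI : (restrR Λ j).IsRightAdjoint := (extRestrR Λ j).isRightAdjoint
  haveI := preservesFiniteLimits_pullR Λ i
  haveI : (pullR Λ i).Additive := Functor.additive_of_preserves_binary_products _
  haveI : PreservesFiniteLimits (restrR Λ j) := inferInstance
  haveI : PreservesFiniteColimits (restrR Λ j) := inferInstance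
  haveI : PreservesFiniteColimits (pullR Λ i) := inferInstance
  haveI : (restrR Λ j).Additive := Functor.additive_of_preserves_binary_products _
  haveI ha : IsIso ((restrR Λ j).map a) := by
    haveI := isIso_unit_extR Λ j
    have h1 : (extRestrR Λ j).unit.app ((restrR Λ j).obj F) ≫ (restrR Λ j).map a = 𝟙 _ :=
      (extRestrR Λ j).right_triangle_components F
    exact IsIso.of_isIso_fac_left h1
  haveI hb : IsIso ((pullR Λ i).map b) := by
    haveI := isIso_counit_pullPushR Λ i ((pullR Λ i).obj F)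
    haveI : IsIso (𝟙 ((pullR Λ i).obj F)) := IsIso.id _
    exact IsIso.of_isIso_fac_right ((pullPushR Λ i).left_triangle_components F)
  let G₁ := restrR Λ j
  let G₂ := pullR Λ i
  have z₁ : IsZero (G₁.obj ((pushR Λ i).obj ((pullR Λ i).obj F))) := z₁' _
  have z₂ : IsZero (G₂.obj ((extR Λ j).obj ((restrR Λ j).obj F))) := z₂' _
  let S := ShortComplex.mk a b h
  haveI : HasKernels (EtModW.ModP Λ X) := Abelian.has_kernels
  haveI : HasKernels (EtModW.ModP Λ U) := Abelian.has_kernels
  haveI : HasKernels (EtModW.ModP Λ Z) := Abelian.has_kernels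
  haveI : PreservesLimit (parallelPair a 0) G₁ := by
    haveI : PreservesLimitsOfShape WalkingParallelPair G₁ :=
      @PreservesFiniteLimits.preservesFiniteLimits _ _ _ _ G₁ (by assumption) WalkingParallelPair _ _
    infer_instance
  haveI : Mono (G₁.map a) := @IsIso.mono_of_iso _ _ _ _ _ ha
  haveI : Mono a := by
    have k1 : IsZero (G₁.obj (kernel a)) :=
      IsZero.of_iso (isZero_kernel_of_mono (G₁.map a)) (PreservesKernel.iso G₁ a)
    have k2 : IsZero (G₂.obj (kernel a)) := IsZero.of_mono (G₂.map (kernel.ι a)) z₂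
    exact Preadditive.mono_of_isZero_kernel a (isZero_of_restr_pull Λ i j hc _ k1 k2)
  haveI : Epi b := by
    apply Preadditive.epi_of_isZero_cokernel
    apply isZero_of_restr_pull Λ i j hc
    · exact IsZero.of_epi (G₁.map (cokernel.π b)) z₁
    · exact (isZero_cokernel_of_epi (G₂.map b)).of_iso (PreservesCokernel.iso G₂ b)
  refine { exact := ?_, mono_f := ‹_›, epi_g := ‹_› }
  rw [ShortComplex.exact_iff_isZero_homology]
  apply isZero_of_restr_pull Λ i j hc
  · haveI : Epi (S.map G₁).f := @IsIso.epi_of_iso _ _ _ _ _ ha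
    have e : (S.map G₁).Exact := (ShortComplex.exact_iff_epi _ (z₁.eq_of_tgt _ _)).2 inferInstance
    exact ((ShortComplex.exact_iff_isZero_homology _).1 e).of_iso (S.mapHomologyIso G₁).symm
  · haveI : Mono (S.map G₂).g := @IsIso.mono_of_iso _ _ _ _ _ hb
    have e : (S.map G₂).Exact := (ShortComplex.exact_iff_mono _ (z₂.eq_of_src _ _)).2 inferInstance
    exact ((ShortComplex.exact_iff_isZero_homology _).1 e).of_iso (S.mapHomologyIso G₂).symm

end Groth.Agent.EtModEps19
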