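import Groth.Agent.Lib.EtModEps19.ConstrM
import Groth.Agent.Lib.LocConst24.SpecCriterion
import Groth.Agent.S17725

/-! Stalk systems of locally constant sheaves of modules along paths of specialisations. -/

universe u

open CategoryTheory Limits AlgebraicGeometry Opposite

namespace Groth.Agent.EtModEps19

set_option backward.isDefEq.respectTransparency false
set_option backward.isDefEq.respectTransparency.types false
set_option linter.style.haveILetI false
set_option linter.unusedSectionVars false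
set_option maxHeartbeats 800000

variable {Λ : Type (u + 1)} [CommRing Λ] {X : Scheme.{u}}

section Germ

variable {Ω : Type u} [Field Ω] [IsSepClosed Ω] (ξ : Spec (CommRingCat.of Ω) ⟶ X) {F : EtModW.Mod Λ X}
  {U : X.Etale} {M : ModuleCat.{u + 1} Λ} (α : (Over.forget U).op ⋙ F.obj ≅ (Over.forget U).op ⋙ (cEt Λ X M).obj)

theorem bijective_germ_sg (y : EtStalk.fib ξ U) :
    Function.Bijective (fun m : M => germM ξ F y (sg α (𝟙 U) m)) := by
  refine ⟨?_, fun p => ?_⟩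
  · intro m m' h
    have h0 : germM ξ F y (sg α (𝟙 U) (m - m')) = 0 := by rw [map_sub, map_sub, sub_eq_zero]; exact h
    obtain ⟨V, g, y', -, hg⟩ := (germM_eq_zero_iff _ _ _ _).1 h0
    rw [sg_map] at hg
    refine sub_eq_zero.1 (sg_injective α (g ≫ 𝟙 U) (y'.left (default : Spec (CommRingCat.of Ω))) ?_)
    rw [hg, map_zero]
  obtain ⟨V, x, z, rfl⟩ := germM_surjective ξ F p
  let P := Scheme.pointSmallEtale ξ
  let E₁ : P.fiber.Elements := ⟨V, x⟩
  let E₂ : P.fiber.Elements := ⟨U, y⟩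
  obtain ⟨Q, f₁, f₂, -⟩ := IsCofilteredOrEmpty.cone_objs E₁ E₂
  let a : Q.1 ⟶ V := f₁.1
  let b : Q.1 ⟶ U := f₂.1
  obtain ⟨W, g, ⟨m, hm⟩, w, hw⟩ := P.jointly_surjective _
    (Presheaf.imageSieve_mem X.smallEtaleTopology
      (toSheafify X.smallEtaleTopology ((Functor.const X.Etaleᵒᵖ).obj M)) (U := op Q.1)
      (α.hom.app (op (Over.mk b)) (F.obj.map a.op z))) Q.2
  refine ⟨m, ?_⟩
  have e1 : α.hom.app (op (Over.mk (g ≫ b))) (F.obj.map g.op (F.obj.map a.op z)) =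
      can X.smallEtaleTopology M W m :=
    (NatTrans.naturality_apply α.hom (Over.homMk g : Over.mk (g ≫ b) ⟶ Over.mk b).op _).trans hm.symm
  have e2 : F.obj.map g.op (F.obj.map a.op z) = sg α (g ≫ b) m :=
    ((congr($(α.hom_inv_id_app (op (Over.mk (g ≫ b)))) (F.obj.map g.op (F.obj.map a.op z)))).symm).trans
      (congrArg (α.inv.app (op (Over.mk (g ≫ b)))) e1)
  show germM ξ F y (sg α (𝟙 U) m) = germM ξ F x z
  have hy : P.fiber.map (g ≫ b) w = y := by
    rw [Functor.map_comp_apply, hw]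
    exact f₂.2
  have hx : P.fiber.map (g ≫ a) w = x := by
    rw [Functor.map_comp_apply, hw]
    exact f₁.2
  conv_lhs => rw [← hy]
  conv_rhs => rw [← hx]
  refine (P.toPresheafFiber_w_apply (g ≫ b) w F.obj _).symm.trans
    (Eq.trans ?_ (P.toPresheafFiber_w_apply (g ≫ a) w F.obj _))
  rw [sg_map, Category.comp_id, ← e2, op_comp, Functor.map_comp_apply]

end Germ

variable {K Ω : Type u} [Field K] [IsSepClosed K] [Field Ω] [IsSepClosed Ω]
  {ξ : Spec (CommRingCat.of K) ⟶ X} {ξ' : Spec (CommRingCat.of Ω) ⟶ X}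

theorem isIso_sheafFiber_of_isFTLocConst (φ : Scheme.pointSmallEtale ξ' ⟶ Scheme.pointSmallEtale ξ)
    {F : EtModW.Mod Λ X} (hF : EtModW.IsFTLocConst Λ F) :
    IsIso ((GrothendieckTopology.Point.Hom.sheafFiber (A := ModuleCat.{u + 1} Λ) φ).app F) := by
  obtain ⟨ι, U, hU, hF⟩ := hF
  obtain ⟨i, u₀, hu⟩ := hU (ξ default)
  obtain ⟨M, _, _, -, ⟨e⟩⟩ := hF i
  let α := trivOfRestr e
  obtain ⟨y, -⟩ := Scheme.pointSmallEtaleFiberObjToPreimage_surjective ξ rfl (U i) ⟨u₀, hu⟩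
  have hc : ∀ m, (GrothendieckTopology.Point.Hom.sheafFiber (A := ModuleCat.{u + 1} Λ) φ).app F
      (germM ξ F y (sg α (𝟙 (U i)) m)) = germM ξ' F (φ.hom.app (U i) y) (sg α (𝟙 (U i)) m) := fun m =>
    ConcreteCategory.congr_hom (GrothendieckTopology.Point.toPresheafFiber_presheafFiberDesc (P := F.obj)
      (Scheme.pointSmallEtale ξ) (fun V x => (Scheme.pointSmallEtale ξ').toPresheafFiber V (φ.hom.app V x) F.obj)
      (fun {V W} g x => by rw [NatTrans.naturality_apply φ.hom]; exact GrothendieckTopology.Point.toPresheafFiber_w _ g _ F.obj)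
      (U i) y) _
  rw [ConcreteCategory.isIso_iff_bijective]
  refine ⟨fun p q h => ?_, fun q => ?_⟩
  · obtain ⟨m, rfl⟩ := (bijective_germ_sg ξ α y).2 p
    obtain ⟨m', rfl⟩ := (bijective_germ_sg ξ α y).2 q
    dsimp only at h ⊢
    rw [hc, hc] at h
    rw [(bijective_germ_sg ξ' α (φ.hom.app (U i) y)).1 h]
  · obtain ⟨m, rfl⟩ := (bijective_germ_sg ξ' α (φ.hom.app (U i) y)).2 q
    exact ⟨_, hc m⟩

/-- The stalk systems are isomorphic along a morphism of geometric points. -/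
theorem nonempty_iso_of_hom (φ : Scheme.pointSmallEtale ξ' ⟶ Scheme.pointSmallEtale ξ)
    (F : ℕᵒᵖ ⥤ EtModW.Mod Λ X) (hF : ∀ n : ℕ, EtModW.IsFTLocConst Λ (F.obj (op n))) :
    Nonempty ((F ⋙ EtModW.stalk Λ ξ) ≅ (F ⋙ EtModW.stalk Λ ξ')) := by
  let τ : F ⋙ EtModW.stalk Λ ξ ⟶ F ⋙ EtModW.stalk Λ ξ' :=
    Functor.whiskerLeft F (GrothendieckTopology.Point.Hom.sheafFiber (A := ModuleCat.{u + 1} Λ) φ)
  haveI : ∀ a, IsIso (τ.app a) := fun a => isIso_sheafFiber_of_isFTLocConst φ (hF a.unop)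
  haveI : IsIso τ := NatIso.isIso_of_isIso_app τ
  exact ⟨asIso τ⟩

/-- Connected case. -/
theorem nonempty_iso_stalkSystems [IsNoetherian X] [ConnectedSpace X] (F : ℕᵒᵖ ⥤ EtModW.Mod Λ X)
    (hF : ∀ n : ℕ, EtModW.IsFTLocConst Λ (F.obj (op n)))
    (s : Spec (CommRingCat.of K) ⟶ X) (s' : Spec (CommRingCat.of Ω) ⟶ X) :
    Nonempty ((F ⋙ EtModW.stalk Λ s) ≅ (F ⋙ EtModW.stalk Λ s')) := by
  have h0 : ∀ {L : Type u} [Field L] [IsSepClosed L] (t : Spec (CommRingCat.of L) ⟶ X),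
      Nonempty ((F ⋙ EtModW.stalk Λ (EtStalk.geomPt X (t default))) ≅ (F ⋙ EtModW.stalk Λ t)) := fun {L} _ _ t => by
    obtain ⟨b, hb⟩ := LocConst24.exists_factor_geomPt t (t default) rfl
    obtain ⟨e⟩ := nonempty_iso_of_hom (LocConst24.resPoint b (EtStalk.geomPt X (t default))) F hF
    exact ⟨e ≪≫ eqToIso (by congr)⟩
  have h : Relation.EqvGen (fun x y : X => x ⤳ y) (s default) (s' default) := S17725.result X _ _
  obtain ⟨e⟩ : Nonempty ((F ⋙ EtModW.stalk Λ (EtStalk.geomPt X (s default))) ≅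
      (F ⋙ EtModW.stalk Λ (EtStalk.geomPt X (s' default)))) := by
    clear * - h h0 hF
    generalize s default = a, s' default = b at h ⊢
    induction h with
    | rel x y hxy =>
      obtain ⟨φ, -⟩ := LocConst24.exists_specialization (EtStalk.geomPt X y) (LocConst24.algPt X x)
        (by rw [EtStalk.geomPt_default, LocConst24.algPt_default]; exact hxy)
      obtain ⟨e⟩ := nonempty_iso_of_hom φ F hF
      obtain ⟨e'⟩ := h0 (LocConst24.algPt X x)
      rw [LocConst24.algPt_default] at e'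
      exact ⟨(e ≪≫ e'.symm).symm⟩
    | refl x => exact ⟨Iso.refl _⟩
    | symm x y _ ih => exact ih.map Iso.symm
    | trans x y z _ _ ih ih' => exact ⟨ih.some ≪≫ ih'.some⟩
  obtain ⟨e₁⟩ := h0 s
  obtain ⟨e₂⟩ := h0 s'
  exact ⟨e₁.symm ≪≫ e ≪≫ e₂⟩

end Groth.Agent.EtModEps19
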